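import Mathlib
import Cfsg.Agent.PLocal.SL2Elts
import Cfsg.Agent.PLocal.Quasisimple
import Cfsg.Agent.K.SL23
import Cfsg.Agent.Class.SL2Quat
import Cfsg.Agent.Inv.SL2Out

/-! Fong–Wong: facts on `SL₂(F)`, `F` of odd order, and on elements acting on it as `PGL₂(F)`. -/

set_option autoImplicit false

namespace Cfsg.Agent.FW

open Subgroup Cfsg.Agent.PLocal Cfsg.Agent.PLocal.Amb Cfsg.Agent.PLocal.SL2Nat Matrix
open scoped MatrixGroups

variable {F : Type*} [Field F]

theorem uu_ll_ne : uu (1 : F) * ll 1 ≠ ll 1 * uu 1 := fun h => by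
  have := congrArg (fun g : SL(2, F) => g.1 0 0) h
  simp [SL2Nat.mul_apply', coe_uu, coe_ll] at this

theorem normal_cases [Finite F] (h4 : 4 ≤ Nat.card F) (M : Subgroup SL(2, F)) (hM : M.Normal) :
    M = ⊤ ∨ M ≤ center SL(2, F) :=
  qs_normal (K.qs_SL (Or.inr ⟨rfl, h4⟩)) M hM

theorem odd_normal_eq_bot [Fintype F] (hF : Odd (Fintype.card F)) (M : Subgroup SL(2, F))
    [hM : M.Normal] (ho : Odd (Nat.card M)) : M = ⊥ := by
  have h2 := Inv.two_ne_zero_of_odd hF
  have key : ∀ y ∈ M, y * y = 1 → y = 1 := fun y hy e => by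
    have h1 : orderOf y ∣ 2 := orderOf_dvd_of_pow_eq_one (by rw [pow_two, e])
    have h3 : Odd (orderOf y) := ho.of_dvd_nat (M.orderOf_dvd_natCard hy)
    rcases (Nat.dvd_prime Nat.prime_two).1 h1 with h | h
    · exact orderOf_eq_one_iff.1 h
    · rw [h] at h3; exact absurd h3 (by decide)
  rcases K.three_or_four h2 with h3 | h4
  · have hc : CharP F 3 := by
      have : Fact (Nat.Prime 3) := ⟨Nat.prime_three⟩
      apply charP_of_card_eq_prime_pow (f := 1)
      rw [← Nat.card_eq_fintype_card, h3, pow_one]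
    have : Fact (Nat.Prime 3) := ⟨Nat.prime_three⟩
    have h24 : Nat.card M ∣ 24 := by
      have := M.card_subgroup_dvd_card
      rwa [Class.card_SL2, ← Nat.card_eq_fintype_card, h3] at this
    have h3' : Nat.card M ∣ 3 ^ 1 :=
      Nat.Coprime.dvd_of_dvd_mul_left (m := 2 ^ 3)
        (Nat.Coprime.pow_right 3 (Nat.coprime_two_right.2 ho)) h24
    obtain ⟨k, -, hk⟩ := (Nat.dvd_prime_pow Nat.prime_three).1 h3'
    have hp : IsPGroup 3 M := IsPGroup.of_card hk
    have h5 := (isSyl_Up (F := F) 3).le_of_le_normalizer hp le_top le_normalizer_of_normal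
    have h6 := (isSyl_Lo (F := F) 3).le_of_le_normalizer hp le_top le_normalizer_of_normal
    rw [eq_bot_iff]
    intro y hy
    obtain ⟨a, rfl⟩ := h5 hy
    obtain ⟨b, hb⟩ := h6 hy
    have := congrArg (fun g : SL(2, F) => g.1 0 1) hb
    simp [coe_uu, coe_ll] at this
    rw [← this, uu_zero]; exact one_mem _
  · rcases normal_cases h4 M hM with h | h
    · exact absurd (key (-1) (h ▸ mem_top _) (by simp)) (Class.Dickson.neg_one_ne_one_SL h2)
    · exact eq_bot_iff.2 fun y hy => key y hy (Inv.SL2_sq_eq_one (h hy))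

theorem exists_not_comm [Finite F] (h2 : (2 : F) ≠ 0) : ∃ a ∈ _root_.commutator SL(2, F),
    ∃ b ∈ _root_.commutator SL(2, F), a * b ≠ b * a := by
  rcases K.three_or_four h2 with h3 | h4
  · exact K.exists_not_comm_SL2 h3
  · rw [Class.Dickson.SL2_commutator_eq_top h4]
    exact ⟨_, mem_top _, _, mem_top _, uu_ll_ne⟩

theorem le_of_card_SL2_le {a b : ℕ} (h : a * (a ^ 2 - 1) ≤ b * (b ^ 2 - 1)) (hb : 1 ≤ b) :
    a ≤ b := by
  by_contra hlt
  push Not at hlt
  have h1 : b ^ 2 < a ^ 2 := Nat.pow_lt_pow_left hlt two_ne_zero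
  have h2 : 1 ≤ b ^ 2 := Nat.one_le_pow _ _ hb
  have : b * (b ^ 2 - 1) < a * (a ^ 2 - 1) :=
    Nat.mul_lt_mul_of_lt_of_le hlt (by omega) (by omega)
  omega

/-- A normal `SL₂(F)` in a group whose derived group lies in an `SL₂(K)`. -/
theorem card_eq_of_normal {C : Type*} [Group C] [Finite C] [Fintype F] {K : Type*} [Field K]
    [Fintype K] (hF : (2 : F) ≠ 0) (hK : (2 : K) ≠ 0) (ι : SL(2, F) →* C)
    (hι : Function.Injective ι) (hn : ι.range.Normal) (κ : SL(2, K) →* C)
    (hκ : Function.Injective κ) (hc : _root_.commutator C ≤ κ.range) :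
    Fintype.card F = Fintype.card K := by
  let L' : Subgroup C := ⁅ι.range, ι.range⁆
  have hL : L' = (_root_.commutator SL(2, F)).map ι := by
    rw [commutator_def, map_commutator, ← MonoidHom.range_eq_map]
  have hL1 : L' ≤ κ.range := (commutator_mono le_top le_top).trans hc
  have hL2 : L' ≤ ι.range := by rw [hL]; exact map_le_range _ _
  have c1 : Nat.card ι.range = Fintype.card F * (Fintype.card F ^ 2 - 1) := by
    rw [← Class.card_SL2]; exact (Nat.card_congr (MonoidHom.ofInjective hι).toEquiv).symm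
  have c2 : Nat.card κ.range = Fintype.card K * (Fintype.card K ^ 2 - 1) := by
    rw [← Class.card_SL2]; exact (Nat.card_congr (MonoidHom.ofInjective hκ).toEquiv).symm
  have a1 : 4 ≤ Nat.card F → Fintype.card F ≤ Fintype.card K := fun h4 => by
    refine le_of_card_SL2_le ?_ Fintype.card_pos
    rw [← c1, ← c2]
    refine card_le_of_le (le_trans (le_of_eq ?_) hL1)
    rw [hL, Class.Dickson.SL2_commutator_eq_top h4, MonoidHom.range_eq_map]
  have a2 : 4 ≤ Nat.card K → Fintype.card K ≤ Fintype.card F := fun h4 => by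
    rcases normal_cases h4 (L'.comap κ) inferInstance with h | h
    · refine le_of_card_SL2_le ?_ Fintype.card_pos
      rw [← c1, ← c2]
      refine card_le_of_le (le_trans ?_ hL2)
      rintro _ ⟨y, rfl⟩
      exact (h ▸ mem_top y : y ∈ L'.comap κ)
    · obtain ⟨a, ha, b, hb, hab⟩ := exists_not_comm hF
      have ha' : ι a ∈ L' := hL ▸ mem_map_of_mem ι ha
      have hb' : ι b ∈ L' := hL ▸ mem_map_of_mem ι hb
      obtain ⟨a', e1⟩ := hL1 ha'
      obtain ⟨b', e2⟩ := hL1 hb'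
      have h5 : a' ∈ L'.comap κ := by rw [mem_comap, e1]; exact ha'
      refine absurd (hι ?_) hab
      rw [map_mul, map_mul, ← e1, ← e2, ← map_mul, ← map_mul, mem_center_iff.1 (h h5) b']
  rw [Nat.card_eq_fintype_card] at a1 a2
  have b1 := Agent.K.three_or_four hF
  have b2 := Agent.K.three_or_four hK
  rw [Nat.card_eq_fintype_card] at b1 b2
  omega

local notation "M₂" => Matrix (Fin 2) (Fin 2) F

/-- scalar matrices -/
def Sc (g : M₂) : Prop := g 0 1 = 0 ∧ g 1 0 = 0 ∧ g 0 0 = g 1 1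

theorem Sc.comm {g : M₂} (h : Sc g) (y : M₂) : g * y = y * g := by
  obtain ⟨h1, h2, h3⟩ := h
  ext i j
  fin_cases i <;> fin_cases j <;> simp [Matrix.mul_apply, Fin.sum_univ_two, h1, h2, h3] <;> ring

theorem sc_of_comm {g a b : M₂} (ha : a * g = g * a) (hb : b * g = g * b) (h : a * b ≠ b * a) :
    Sc g := by
  obtain ⟨c, hc⟩ := K.scalar_of_commute_two ha hb h
  have h0 := hc ![1, 0]
  have h1 := hc ![0, 1]
  have a0 := congrFun h0 0
  have a1 := congrFun h0 1
  have a2 := congrFun h1 0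
  have a3 := congrFun h1 1
  simp [mulVec, dotProduct, Fin.sum_univ_two] at a0 a1 a2 a3
  exact ⟨a2, a1, a0.trans a3.symm⟩

theorem trace_eq_zero_of_sc_sq {g : M₂} (h : Sc (g * g)) (hg : ¬ Sc g) : g 0 0 + g 1 1 = 0 := by
  obtain ⟨h1, h2, h3⟩ := h
  simp only [Matrix.mul_apply, Fin.sum_univ_two] at h1 h2 h3
  by_contra hne
  refine hg ⟨mul_left_cancel₀ hne ?_, mul_left_cancel₀ hne ?_, mul_left_cancel₀ hne ?_⟩
  · linear_combination h1
  · linear_combination h2
  · linear_combination h3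

theorem anti_of_trace {g h : M₂} (hg : g 0 0 + g 1 1 = 0) (hh : h 0 0 + h 1 1 = 0)
    (hgh : (g * h) 0 0 + (g * h) 1 1 = 0) : g * h = -(h * g) := by
  simp only [Matrix.mul_apply, Fin.sum_univ_two] at hgh
  ext i j
  fin_cases i <;> fin_cases j <;> simp [Matrix.mul_apply, Fin.sum_univ_two]
  · linear_combination hgh + (g 0 0) * hh - h 1 1 * hg
  · linear_combination g 0 1 * hh + h 0 1 * hg
  · linear_combination g 1 0 * hh + h 1 0 * hg
  · linear_combination hgh + (g 1 1) * hh - h 0 0 * hg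

variable {D : Type*} [Group D]

/-- `c` acts on the image of `ι` as conjugation by the invertible matrix `g`. -/
def Rep (ι : SL(2, F) →* D) (c : D) (g : M₂) : Prop :=
  g.det ≠ 0 ∧ ∀ y, ∃ y', c * ι y * c⁻¹ = ι y' ∧ g * y.1 = y'.1 * g

variable {ι : SL(2, F) →* D}

theorem Rep.mul {c c' : D} {g g' : M₂} (h : Rep ι c g) (h' : Rep ι c' g') :
    Rep ι (c * c') (g * g') := by
  refine ⟨by rw [det_mul]; exact mul_ne_zero h.1 h'.1, fun y => ?_⟩
  obtain ⟨y', e1, e2⟩ := h'.2 y
  obtain ⟨y'', e3, e4⟩ := h.2 y'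
  refine ⟨y'', by rw [← e3, ← e1]; group, ?_⟩
  rw [Matrix.mul_assoc, e2, ← Matrix.mul_assoc, e4, Matrix.mul_assoc]

theorem Rep.cancel {c : D} {g : M₂} (h : Rep ι c g) {a b : M₂} (e : a * g = b * g) : a = b := by
  have := Matrix.invertibleOfIsUnitDet g (Ne.isUnit h.1)
  simpa using congrArg (· * ⅟g) e

theorem Rep.comm_of {c : D} {g : M₂} (h : Rep ι c g) {y : SL(2, F)} (e : g * y.1 = y.1 * g) :
    c * ι y = ι y * c := by
  obtain ⟨y', e1, e2⟩ := h.2 y
  rw [Subtype.ext (h.cancel (e2.symm.trans e))] at e1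
  exact mul_inv_eq_iff_eq_mul.1 e1

theorem Rep.of_comm (hι : Function.Injective ι) {c : D} {g : M₂} (h : Rep ι c g) {y : SL(2, F)}
    (e : c * ι y = ι y * c) : g * y.1 = y.1 * g := by
  obtain ⟨y', e1, e2⟩ := h.2 y
  rw [e, mul_inv_cancel_right] at e1
  rwa [← hι e1] at e2

theorem Rep.sc (hι : Function.Injective ι) {c : D} {g : M₂} (h : Rep ι c g) {a b : SL(2, F)}
    (ha : c * ι a = ι a * c) (hb : c * ι b = ι b * c) (hab : a * b ≠ b * a) : Sc g :=
  sc_of_comm (h.of_comm hι ha).symm (h.of_comm hι hb).symm fun e => hab (Subtype.ext e)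

theorem Rep.trace (hι : Function.Injective ι) {c : D} {g : M₂} (h : Rep ι c g) (hc : c * c = 1)
    (hn : ¬ ∀ y, c * ι y = ι y * c) : g 0 0 + g 1 1 = 0 :=
  trace_eq_zero_of_sc_sq ((h.mul h).sc hι (by simp [hc]) (by simp [hc]) uu_ll_ne)
    fun hs => hn fun _ => h.comm_of (hs.comm _)

/-- a representing matrix of square determinant may be taken in `SL₂` -/
theorem Rep.inner {c : D} {g : M₂} (h : Rep ι c g) (hs : IsSquare g.det) :
    ∃ (a : SL(2, F)) (r : F), r ≠ 0 ∧ g = r • a.1 ∧ ∀ y, c * ι y * c⁻¹ = ι a * ι y * (ι a)⁻¹ := by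
  obtain ⟨r, hr⟩ := hs
  have h0 : r ≠ 0 := by rintro rfl; exact h.1 (by simpa using hr)
  let a : SL(2, F) := ⟨r⁻¹ • g, by rw [det_smul, hr]; simp; field_simp⟩
  have ha : g = r • a.1 := by simp [a, smul_smul, h0]
  refine ⟨a, r, h0, ha, fun y => ?_⟩
  obtain ⟨y', e1, e2⟩ := h.2 y
  rw [e1, ← map_inv, ← map_mul, ← map_mul]
  congr 1
  rw [eq_mul_inv_iff_mul_eq]
  apply Subtype.ext
  rw [ha, Matrix.smul_mul, Matrix.mul_smul] at e2
  exact (smul_right_injective _ h0 e2).symm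

end Cfsg.Agent.FW
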