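import Mathlib
import Cfsg.Agent.KSG.SL2Torus
import Cfsg.Agent.Comm.Hex

/-!
The centraliser of an involution `j` with two commuting normal subgroups `SL₂(F)`, `SL₂(K)` after the
determination of the fusion of involutions.
-/

set_option autoImplicit false

namespace Cfsg.Agent.FW

open scoped MatrixGroups

variable {F K G : Type*} [Field F] [Field K] [Group G]

/-- Conjugation of `SL₂` by an invertible matrix. -/
def cg (M : GL (Fin 2) F) : SL(2, F) →* SL(2, F) where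
  toFun A := ⟨M.1 * A.1 * (M⁻¹).1, by
    rw [Matrix.det_mul, Matrix.det_mul, A.2, mul_one, ← Matrix.det_mul, Units.mul_inv, Matrix.det_one]⟩
  map_one' := Subtype.ext (by simp)
  map_mul' A B := Subtype.ext (by
    change M.1 * (A.1 * B.1) * (M⁻¹).1 = M.1 * A.1 * (M⁻¹).1 * (M.1 * B.1 * (M⁻¹).1)
    simp only [Matrix.mul_assoc]
    rw [← Matrix.mul_assoc (M⁻¹).1 M.1, Units.inv_mul, Matrix.one_mul])

theorem coe_cg (M : GL (Fin 2) F) (A : SL(2, F)) : (cg M A).1 = M.1 * A.1 * (M⁻¹).1 := rfl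

/-- A field automorphism of `SL₂`. -/
def fm (σ : F ≃+* F) : SL(2, F) →* SL(2, F) := Matrix.SpecialLinearGroup.map (σ : F →+* F)

theorem coe_fm (σ : F ≃+* F) (A : SL(2, F)) : (fm σ A).1 = A.1.map σ := rfl

/-- `c` acts on the image of `SL₂` as the matrix `M`. -/
def ActG (φ : SL(2, F) →* G) (c : G) (M : GL (Fin 2) F) : Prop := ∀ A, c * φ A * c⁻¹ = φ (cg M A)

/-- `c` acts on the image of `SL₂` as the semilinear map `M σ`. -/
def ActS (φ : SL(2, F) →* G) (c : G) (M : GL (Fin 2) F) (σ : F ≃+* F) : Prop :=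
  ∀ A, c * φ A * c⁻¹ = φ (cg M (fm σ A))

/-- The elements of odd order of the torus of `L₁ L₂` centralised by `t`. -/
def Tod (φ : SL(2, F) →* G) (ψ : SL(2, K) →* G) (t : G) : Set G :=
  {x | ∃ A B, Odd (orderOf A) ∧ Odd (orderOf B) ∧ Commute (φ A) t ∧ Commute (ψ B) t ∧ x = φ A * ψ B}

/-- The structure of `C = C(j)`, `j = φ (-1)`, and the fusion of involutions. -/
structure Good (φ : SL(2, F) →* G) (ψ : SL(2, K) →* G) : Prop where
  twoF : (2 : F) ≠ 0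
  twoK : (2 : K) ≠ 0
  φ_inj : Function.Injective φ
  ψ_inj : Function.Injective ψ
  neg : ψ (-1) = φ (-1)
  comm : ∀ A B, Commute (φ A) (ψ B)
  inter : ∀ A B, φ A = ψ B → A = 1 ∨ A = -1
  act : ∀ c, Commute c (φ (-1)) → ∃ M σ M' σ', ActS φ c M σ ∧ ActS ψ c M' σ' ∧ Odd (orderOf σ) ∧
    Odd (orderOf σ') ∧ (IsSquare M.1.det ↔ IsSquare M'.1.det)
  ker : ∀ c, (∀ A, Commute c (φ A)) → (∀ B, Commute c (ψ B)) → c = 1 ∨ c = φ (-1)
  out : ∃ t M M', t * t = 1 ∧ ActG φ t M ∧ ActG ψ t M' ∧ ¬ IsSquare M.1.det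
  fus : ∀ t, t * t = 1 → t ≠ 1 → t ≠ φ (-1) → Commute t (φ (-1)) →
    ∃ ρ, ρ * φ (-1) * ρ⁻¹ = t ∧ ρ * t * ρ⁻¹ = φ (-1) * t

end Cfsg.Agent.FW
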