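import Mathlib
import Cfsg.Agent.FW.Good
import Cfsg.Agent.Inv.SL2Out

/-!
Calculus of semilinear actions on `SL₂`, and the structure `Pre` (`Good` without the fusion).
-/

set_option autoImplicit false
set_option linter.unusedSectionVars false

namespace Cfsg.Agent.FW

open Cfsg.Agent.KSG Cfsg.Agent.KSG.M2 Cfsg.Agent.RootSub
open Cfsg.Agent.Comm.Hex (dg coe_dg coe_ww hom_ext)
open scoped MatrixGroups

variable {F K G : Type*} [Field F] [Field K] [Group G]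

theorem eq_one_of_odd {x : G} {k : ℕ} (o : Odd (orderOf x)) (e : x ^ 2 ^ k = 1) : x = 1 :=
  orderOf_eq_one_iff.1 (Nat.Coprime.eq_one_of_dvd ((Nat.coprime_two_right.2 o).pow_right k)
    (orderOf_dvd_of_pow_eq_one e))

/-- A field automorphism of `GL₂`. -/
def gm (σ : F ≃+* F) : GL (Fin 2) F →* GL (Fin 2) F := Matrix.GeneralLinearGroup.map (σ : F →+* F)

theorem coe_gm (σ : F ≃+* F) (M : GL (Fin 2) F) : (gm σ M).1 = M.1.map σ := rfl

theorem gm_one (M : GL (Fin 2) F) : gm 1 M = M := Units.ext (by ext i j; rfl)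

theorem gm_mul (σ τ : F ≃+* F) (M : GL (Fin 2) F) : gm (σ * τ) M = gm σ (gm τ M) :=
  Units.ext (by ext i j; rfl)

/-- `SL₂ → GL₂`. -/
def tg : SL(2, F) →* GL (Fin 2) F := Matrix.SpecialLinearGroup.toGL

theorem coe_tg (A : SL(2, F)) : (tg A).1 = A.1 := rfl

theorem tg_inj : Function.Injective (tg : SL(2, F) →* GL (Fin 2) F) := fun _ _ h =>
  Subtype.ext (congrArg Units.val h)

theorem tg_cg (M : GL (Fin 2) F) (A : SL(2, F)) : tg (cg M A) = M * tg A * M⁻¹ := Units.ext rfl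

theorem tg_fm (σ : F ≃+* F) (A : SL(2, F)) : tg (fm σ A) = gm σ (tg A) := Units.ext rfl

theorem cg_mul (M N : GL (Fin 2) F) (A : SL(2, F)) : cg (M * N) A = cg M (cg N A) :=
  tg_inj (by simp only [tg_cg]; group)

theorem cg_one (A : SL(2, F)) : cg 1 A = A := tg_inj (by simp [tg_cg])

theorem cg_inv_cg (M : GL (Fin 2) F) (A : SL(2, F)) : cg M⁻¹ (cg M A) = A := by
  rw [← cg_mul, inv_mul_cancel, cg_one]

theorem cg_cg_inv (M : GL (Fin 2) F) (A : SL(2, F)) : cg M (cg M⁻¹ A) = A := by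
  rw [← cg_mul, mul_inv_cancel, cg_one]

theorem cg_inj (M : GL (Fin 2) F) : Function.Injective (cg M) := fun A B h => by
  rw [← cg_inv_cg M A, h, cg_inv_cg]

theorem cg_tg (B A : SL(2, F)) : cg (tg B) A = B * A * B⁻¹ := tg_inj (by simp [tg_cg])

theorem fm_cg (σ : F ≃+* F) (M : GL (Fin 2) F) (A : SL(2, F)) : fm σ (cg M A) = cg (gm σ M) (fm σ A) :=
  tg_inj (by simp [tg_cg, tg_fm])

theorem fm_one (A : SL(2, F)) : fm 1 A = A := tg_inj (by rw [tg_fm, gm_one])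

theorem fm_mul (σ τ : F ≃+* F) (A : SL(2, F)) : fm (σ * τ) A = fm σ (fm τ A) :=
  tg_inj (by simp only [tg_fm, gm_mul])

theorem fm_inj (σ : F ≃+* F) : Function.Injective (fm σ) := fun A B h => by
  rw [← fm_one A, ← fm_one B, ← inv_mul_cancel σ, fm_mul, h, fm_mul]

theorem fm_xx (σ : F ≃+* F) (s : F) : fm σ (xx s) = xx (σ s) := map_xx _ s

theorem fm_yy (σ : F ≃+* F) (s : F) : fm σ (yy s) = yy (σ s) := map_yy _ s

theorem cg_neg_one (M : GL (Fin 2) F) : cg M (-1) = -1 :=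
  Subtype.ext (by simp [coe_cg])

theorem fm_neg_one (σ : F ≃+* F) : fm σ (-1) = -1 :=
  Subtype.ext (by ext i j; fin_cases i <;> fin_cases j <;> simp [coe_fm])

theorem cg_eq_iff {M : GL (Fin 2) F} {A B : SL(2, F)} : cg M A = B ↔ M.1 * A.1 = B.1 * M.1 := by
  rw [← tg_inj.eq_iff, tg_cg, mul_inv_eq_iff_eq_mul, Units.ext_iff]; rfl

theorem det_ne (M : GL (Fin 2) F) : M.1.det ≠ 0 := (Matrix.isUnit_iff_isUnit_det _ |>.1 M.isUnit).ne_zero

theorem cg_of_isScal {M : GL (Fin 2) F} (h : IsScal M.1) (A : SL(2, F)) : cg M A = A :=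
  cg_eq_iff.2 (h.comm _)

theorem cg_congr {M N : GL (Fin 2) F} {r : F} (h : N.1 = r • M.1) (A : SL(2, F)) : cg N A = cg M A := by
  rw [cg_eq_iff, h, Matrix.smul_mul, Matrix.mul_smul, cg_eq_iff.1 rfl]

/-- A semilinear map centralising the upper unitriangular group. -/
theorem fix_xx {M : GL (Fin 2) F} {σ : F ≃+* F} (h : ∀ s, cg M (fm σ (xx s)) = xx s) :
    σ = 1 ∧ M.1 1 0 = 0 ∧ M.1 0 0 = M.1 1 1 := by
  have key : ∀ s, s * M.1 1 0 = 0 ∧ M.1 0 0 * σ s = s * M.1 1 1 := fun s => by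
    have e := cg_eq_iff.1 ((fm_xx σ s) ▸ h s)
    have e0 := congrFun (congrFun e 0) 0
    have e1 := congrFun (congrFun e 0) 1
    simp [mul_apply2] at e0 e1
    exact ⟨by simpa using e0, by linear_combination e1⟩
  have h0 : M.1 1 0 = 0 := by simpa using (key 1).1
  have h1 : M.1 0 0 = M.1 1 1 := by simpa using (key 1).2
  have hd := det_ne M
  rw [Matrix.det_fin_two, h0, ← h1, mul_zero, sub_zero] at hd
  refine ⟨RingEquiv.ext fun s => mul_left_cancel₀ (left_ne_zero_of_mul hd) ?_, h0, h1⟩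
  rw [(key s).2, ← h1, mul_comm]; rfl

theorem triv {M : GL (Fin 2) F} {σ : F ≃+* F} (h : ∀ A, cg M (fm σ A) = A) : σ = 1 ∧ IsScal M.1 := by
  obtain ⟨rfl, h0, h1⟩ := fix_xx fun s => h _
  have e := cg_eq_iff.1 (fm_one (yy (1 : F)) ▸ h (yy 1))
  have e0 := congrFun (congrFun e 0) 0
  simp [mul_apply2] at e0
  exact ⟨rfl, e0, h0, h1⟩

/-- Conjugate of a homomorphism. -/
def cjh (g : G) (φ : SL(2, F) →* G) : SL(2, F) →* G := (MulAut.conj g).toMonoidHom.comp φ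

theorem cjh_apply (g : G) (φ : SL(2, F) →* G) (A : SL(2, F)) : cjh g φ A = g * φ A * g⁻¹ := rfl

theorem cjh_cjh (g g' : G) (φ : SL(2, F) →* G) : cjh g (cjh g' φ) = cjh (g * g') φ :=
  MonoidHom.ext fun A => by simp only [cjh_apply]; group

theorem cjh_one (φ : SL(2, F) →* G) : cjh 1 φ = φ := MonoidHom.ext fun A => by simp [cjh_apply]

theorem cjh_inj {φ : SL(2, F) →* G} (h : Function.Injective φ) (g : G) : Function.Injective (cjh g φ) :=
  (MulAut.conj g).injective.comp h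

section Act

variable {φ : SL(2, F) →* G} {c c' : G} {M M' : GL (Fin 2) F} {σ σ' : F ≃+* F}

theorem actS_one : ActS φ c M 1 ↔ ActG φ c M := by simp only [ActS, ActG, fm_one]

theorem ActS.mul (h : ActS φ c M σ) (h' : ActS φ c' M' σ') : ActS φ (c * c') (M * gm σ M') (σ * σ') :=
  fun A => by rw [cg_mul, fm_mul, ← fm_cg, ← h, ← h']; group

theorem ActS.inv (h : ActS φ c M σ) : ActS φ c⁻¹ (gm σ⁻¹ M⁻¹) σ⁻¹ := fun A => by
  have := h (fm σ⁻¹ (cg M⁻¹ A))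
  rw [← fm_mul, mul_inv_cancel, fm_one, cg_cg_inv] at this
  rw [← fm_cg, ← this]; group

theorem ActG.mul (h : ActG φ c M) (h' : ActG φ c' M') : ActG φ (c * c') (M * M') :=
  fun A => by rw [cg_mul, ← h, ← h']; group

theorem ActG.inv (h : ActG φ c M) : ActG φ c⁻¹ M⁻¹ := fun A => by
  have := h (cg M⁻¹ A)
  rw [cg_cg_inv] at this
  rw [← this]; group

theorem actG_of_comm (h : ∀ A, Commute c (φ A)) : ActG φ c 1 := fun A => by
  rw [cg_one, (h A).eq, mul_inv_cancel_right]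

theorem actG_one : ActG φ 1 1 := actG_of_comm fun _ => Commute.one_left _

theorem actG_self (B : SL(2, F)) : ActG φ (φ B) (tg B) := fun A => by simp [cg_tg]

theorem ActG.pow (h : ActG φ c M) (n : ℕ) : ActG φ (c ^ n) (M ^ n) := by
  induction n with
  | zero => simpa using actG_one
  | succ n ih => rw [pow_succ, pow_succ]; exact ih.mul h

theorem ActS.pow (h : ActS φ c M σ) (n : ℕ) : ∃ N, ActS φ (c ^ n) N (σ ^ n) := by
  induction n with
  | zero => exact ⟨1, by simpa using actS_one.2 actG_one⟩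
  | succ n ih => obtain ⟨N, hN⟩ := ih; rw [pow_succ, pow_succ]; exact ⟨_, hN.mul h⟩

theorem ActS.comm_j (h : ActS φ c M σ) : Commute c (φ (-1)) := by
  have := h (-1)
  rw [fm_neg_one, cg_neg_one, mul_inv_eq_iff_eq_mul] at this
  exact this

theorem ActG.comm_j (h : ActG φ c M) : Commute c (φ (-1)) := (actS_one.2 h).comm_j

theorem ActG.comm (h : ActG φ c M) {A : SL(2, F)} (e : M.1 * A.1 = A.1 * M.1) : Commute c (φ A) := by
  have := h A
  rw [cg_eq_iff.2 e, mul_inv_eq_iff_eq_mul] at this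
  exact this

theorem ActG.of_isScal (h : ActG φ c M) (hs : IsScal M.1) (A : SL(2, F)) : Commute c (φ A) :=
  h.comm (hs.comm _)

theorem ActG.congr (h : ActG φ c M) {r : F} (e : M'.1 = r • M.1) : ActG φ c M' := fun A => by
  rw [cg_congr e, h]

theorem ActS.cjh (h : ActS φ c M σ) (g : G) : ActS (cjh g φ) (g * c * g⁻¹) M σ := fun A => by
  simp only [cjh_apply, ← h A]; group

theorem ActG.cjh (h : ActG φ c M) (g : G) : ActG (cjh g φ) (g * c * g⁻¹) M := fun A => by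
  simp only [cjh_apply, ← h A]; group

theorem ActG.of_cjh {g : G} (h : ActG (FW.cjh g φ) c M) : ActG φ (g⁻¹ * c * g) M := by
  have := h.cjh g⁻¹
  rwa [cjh_cjh, inv_mul_cancel, cjh_one, inv_inv] at this

theorem ActS.cjh_eq (h : ActS φ c M σ) : FW.cjh c φ = φ.comp ((cg M).comp (fm σ)) := MonoidHom.ext h

variable (hφ : Function.Injective φ)
include hφ

theorem ActS.of_comm (h : ActS φ c M σ) {A : SL(2, F)} (e : Commute c (φ A)) : cg M (fm σ A) = A :=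
  hφ (by rw [← h, e.eq, mul_inv_cancel_right])

theorem ActG.of_comm (h : ActG φ c M) {A : SL(2, F)} (e : Commute c (φ A)) : M.1 * A.1 = A.1 * M.1 :=
  cg_eq_iff.1 (hφ (by rw [← h, e.eq, mul_inv_cancel_right]))

theorem ActS.triv (h : ActS φ c M σ) (e : ∀ A, Commute c (φ A)) : σ = 1 ∧ IsScal M.1 :=
  FW.triv fun A => h.of_comm hφ (e A)

theorem ActG.isScal (h : ActG φ c M) (e : ∀ A, Commute c (φ A)) : IsScal M.1 :=
  ((actS_one.2 h).triv hφ e).2

theorem ActS.unique (h : ActS φ c M σ) (h' : ActS φ c M' σ') : σ = σ' ∧ ∃ r : F, r ≠ 0 ∧ M'.1 = r • M.1 := by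
  have h1 : ∀ A, cg (M⁻¹ * M') (fm (σ' * σ⁻¹) A) = A := fun A => by
    have := (h (fm σ⁻¹ A)).symm.trans (h' (fm σ⁻¹ A))
    rw [← fm_mul, mul_inv_cancel, fm_one, ← fm_mul] at this
    rw [cg_mul, ← hφ this, cg_inv_cg]
  obtain ⟨h2, h3⟩ := FW.triv h1
  refine ⟨(mul_inv_eq_one.1 h2).symm, (M⁻¹ * M').1 0 0, fun h0 => det_ne (M⁻¹ * M') ?_, ?_⟩
  · rw [h3.eq_smul, h0]; simp
  · conv_lhs => rw [← mul_inv_cancel_left M M', Units.val_mul, h3.eq_smul]
    simp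

theorem ActG.unique (h : ActG φ c M) (h' : ActG φ c M') : ∃ r : F, r ≠ 0 ∧ M'.1 = r • M.1 :=
  ((actS_one.2 h).unique hφ (actS_one.2 h')).2

theorem ActG.sq_iff (h : ActG φ c M) (h' : ActG φ c M') : IsSquare M.1.det ↔ IsSquare M'.1.det := by
  obtain ⟨r, hr, e⟩ := h.unique hφ h'
  rw [e, Matrix.det_smul, Fintype.card_fin]
  exact ⟨fun h => (IsSquare.sq r).mul h, fun h => by
    simpa [hr] using (IsSquare.sq r⁻¹).mul h⟩

theorem ActS.of_pow (h : ActS φ c M σ) {n : ℕ} (h' : ActG φ (c ^ n) M') : σ ^ n = 1 := by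
  obtain ⟨N, hN⟩ := h.pow n
  exact (hN.unique hφ (actS_one.2 h')).1

omit hφ in
theorem ActG.inner (h : ActG φ c M) (hs : IsSquare M.1.det) :
    ∃ (B : SL(2, F)) (r : F), r ≠ 0 ∧ M.1 = r • B.1 ∧ ∀ A, Commute ((φ B)⁻¹ * c) (φ A) := by
  obtain ⟨r, hr⟩ := hs
  have h0 : r ≠ 0 := fun h0 => det_ne M (by rw [hr, h0, mul_zero])
  let B : SL(2, F) := ⟨r⁻¹ • M.1, by rw [Matrix.det_smul, Fintype.card_fin, hr]; field_simp⟩
  have e : M.1 = r • B.1 := by simp [B, smul_smul, h0]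
  refine ⟨B, r, h0, e, fun A => ?_⟩
  have := h A
  rw [cg_congr (M := tg B) e, cg_tg, map_mul, map_mul, map_inv] at this
  rw [Commute, SemiconjBy, mul_assoc, mul_inv_eq_iff_eq_mul.1 this]; group

end Act

section Fin

variable [Fintype F]

theorem sq_mul_iff {a b : F} (ha : a ≠ 0) (hb : b ≠ 0) : IsSquare (a * b) ↔ (IsSquare a ↔ IsSquare b) := by
  classical
  rw [← quadraticChar_one_iff_isSquare (mul_ne_zero ha hb), ← quadraticChar_one_iff_isSquare ha,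
    ← quadraticChar_one_iff_isSquare hb, map_mul]
  rcases quadraticChar_dichotomy ha with h | h <;> rcases quadraticChar_dichotomy hb with h' | h' <;>
    simp [h, h']

theorem sq_det_mul (M N : GL (Fin 2) F) :
    IsSquare (M * N).1.det ↔ (IsSquare M.1.det ↔ IsSquare N.1.det) := by
  rw [Units.val_mul, Matrix.det_mul, sq_mul_iff (det_ne M) (det_ne N)]

theorem sq_det_inv (M : GL (Fin 2) F) : IsSquare (M⁻¹).1.det ↔ IsSquare M.1.det := by
  have := sq_det_mul M⁻¹ M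
  rw [inv_mul_cancel] at this
  exact this.1 (by simp)

omit [Fintype F] in
theorem sq_det_gm (σ : F ≃+* F) (M : GL (Fin 2) F) : IsSquare (gm σ M).1.det ↔ IsSquare M.1.det := by
  have : (gm σ M).1.det = σ M.1.det := ((σ : F →+* F).map_det M.1).symm
  rw [this]
  exact ⟨fun h => by simpa using h.map σ.symm, fun h => h.map σ⟩

omit [Fintype F] in
theorem sq_det_tg (A : SL(2, F)) : IsSquare (tg A).1.det := by rw [coe_tg, A.2]; exact IsSquare.one

theorem odd_card (h2 : (2 : F) ≠ 0) : Odd (Fintype.card F) :=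
  Nat.odd_iff.2 (FiniteField.odd_card_of_char_ne_two fun h => h2 (by
    have := ringChar.Nat.cast_ringChar (R := F); rwa [h, Nat.cast_ofNat] at this))

theorem aut_comm (h2 : (2 : F) ≠ 0) (σ τ : F ≃+* F) : σ * τ = τ * σ := by
  obtain ⟨n, -, hn⟩ := Inv.ringEquiv_eq_pow (odd_card h2) σ
  exact RingEquiv.ext fun x => by
    change σ (τ x) = τ (σ x)
    rw [hn, hn, map_pow]

end Fin

/-- `Good` without the fusion. -/
structure Pre (φ : SL(2, F) →* G) (ψ : SL(2, K) →* G) : Prop where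
  twoF : (2 : F) ≠ 0
  twoK : (2 : K) ≠ 0
  φ_inj : Function.Injective φ
  ψ_inj : Function.Injective ψ
  neg : ψ (-1) = φ (-1)
  comm : ∀ A B, Commute (φ A) (ψ B)
  inter : ∀ A B, φ A = ψ B → A = 1 ∨ A = -1
  act : ∀ c, Commute c (φ (-1)) → ∃ M σ M' σ', ActS φ c M σ ∧ ActS ψ c M' σ' ∧ Odd (orderOf σ) ∧
    Odd (orderOf σ') ∧ (IsSquare M.1.det ↔ IsSquare M'.1.det)
  ker : ∀ c, (∀ A, Commute c (φ A)) → (∀ B, Commute c (ψ B)) → c = 1 ∨ c = φ (-1)
  out : ∃ t M M', ActG φ t M ∧ ActG ψ t M' ∧ ¬ IsSquare M.1.det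

theorem Good.pre {φ : SL(2, F) →* G} {ψ : SL(2, K) →* G} (h : Good φ ψ) : Pre φ ψ :=
  { h with out := by obtain ⟨t, M, M', -, h1⟩ := h.out; exact ⟨t, M, M', h1⟩ }

namespace Pre

variable {φ : SL(2, F) →* G} {ψ : SL(2, K) →* G} (h : Pre φ ψ)
include h

theorem sq_iff {c : G} {M : GL (Fin 2) F} {M' : GL (Fin 2) K} (h1 : ActG φ c M) (h2 : ActG ψ c M') :
    IsSquare M.1.det ↔ IsSquare M'.1.det := by
  obtain ⟨N, σ, N', σ', a1, a2, -, -, e⟩ := h.act c h1.comm_j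
  obtain rfl := (a1.unique h.φ_inj (actS_one.2 h1)).1
  obtain rfl := (a2.unique h.ψ_inj (actS_one.2 h2)).1
  rw [h1.sq_iff h.φ_inj (actS_one.1 a1), h2.sq_iff h.ψ_inj (actS_one.1 a2), e]

theorem symm : Pre ψ φ where
  twoF := h.twoK
  twoK := h.twoF
  φ_inj := h.ψ_inj
  ψ_inj := h.φ_inj
  neg := h.neg.symm
  comm A B := (h.comm B A).symm
  inter A B e := by
    rcases h.inter B A e.symm with rfl | rfl
    · exact Or.inl (h.ψ_inj (by rw [e, map_one, map_one]))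
    · exact Or.inr (h.ψ_inj (by rw [e, h.neg]))
  act c hc := by
    obtain ⟨N, σ, N', σ', a1, a2, o1, o2, e⟩ := h.act c (h.neg ▸ hc)
    exact ⟨N', σ', N, σ, a2, a1, o2, o1, e.symm⟩
  ker c h1 h2 := h.neg ▸ h.ker c h2 h1
  out := by
    obtain ⟨t, M, M', h1, h2, h3⟩ := h.out
    exact ⟨t, M', M, h2, h1, fun h4 => h3 ((h.sq_iff h1 h2).2 h4)⟩

theorem cjh (g : G) : Pre (cjh g φ) (cjh g ψ) where
  twoF := h.twoF
  twoK := h.twoK
  φ_inj := cjh_inj h.φ_inj g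
  ψ_inj := cjh_inj h.ψ_inj g
  neg := by rw [cjh_apply, cjh_apply, h.neg]
  comm A B := (h.comm A B).map (MulAut.conj g).toMonoidHom
  inter A B e := h.inter A B ((MulAut.conj g).injective e)
  act c hc := by
    obtain ⟨N, σ, N', σ', a1, a2, e⟩ := h.act (g⁻¹ * c * g) (by
      simpa [cjh_apply, mul_assoc] using hc.map (MulAut.conj g⁻¹).toMonoidHom)
    refine ⟨N, σ, N', σ', ?_, ?_, e⟩
    · simpa [mul_assoc] using a1.cjh g
    · simpa [mul_assoc] using a2.cjh g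
  ker c h1 h2 := by
    rcases h.ker (g⁻¹ * c * g)
      (fun A => by simpa [cjh_apply, mul_assoc] using (h1 A).map (MulAut.conj g⁻¹).toMonoidHom)
      (fun A => by simpa [cjh_apply, mul_assoc] using (h2 A).map (MulAut.conj g⁻¹).toMonoidHom) with e | e
    · exact Or.inl (by rw [show c = g * (g⁻¹ * c * g) * g⁻¹ by group, e]; group)
    · exact Or.inr (by rw [cjh_apply, ← e]; group)
  out := by
    obtain ⟨t, M, M', h1, h2, h3⟩ := h.out
    exact ⟨_, M, M', h1.cjh g, h2.cjh g, h3⟩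

theorem re [Fintype F] (P : GL (Fin 2) F) (θ : F ≃+* F) : Pre (φ.comp ((cg P).comp (fm θ))) ψ := by
  have hn : φ.comp ((cg P).comp (fm θ)) (-1) = φ (-1) := by simp [fm_neg_one, cg_neg_one]
  have key : ∀ {c M σ}, ActS φ c M σ → ActS (φ.comp ((cg P).comp (fm θ))) c (gm θ⁻¹ (P⁻¹ * M * gm σ P)) σ :=
    fun {c M σ} a A => by
      simp only [MonoidHom.comp_apply]
      rw [a, fm_cg θ, ← gm_mul, mul_inv_cancel, gm_one, ← cg_mul P, fm_cg, ← cg_mul, ← fm_mul, ← fm_mul,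
        aut_comm h.twoF, ← mul_assoc, mul_inv_cancel_left]
  have hs : ∀ M σ, IsSquare (gm θ⁻¹ (P⁻¹ * M * gm σ P)).1.det ↔ IsSquare M.1.det := fun M σ => by
    rw [sq_det_gm, sq_det_mul, sq_det_mul, sq_det_inv, sq_det_gm]; tauto
  refine ⟨h.twoF, h.twoK, h.φ_inj.comp ((cg_inj P).comp (fm_inj θ)), h.ψ_inj, hn ▸ h.neg,
    fun A B => h.comm _ B, fun A B e => ?_, fun c hc => ?_, fun c h1 h2 => hn ▸ h.ker c (fun A => ?_) h2, ?_⟩
  · rcases h.inter _ B e with e | e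
    · exact Or.inl ((cg_inj P).comp (fm_inj θ) (by simpa using e))
    · exact Or.inr ((cg_inj P).comp (fm_inj θ) (by simpa [fm_neg_one, cg_neg_one] using e))
  · obtain ⟨N, σ, N', σ', a1, a2, o1, o2, e⟩ := h.act c (hn ▸ hc)
    exact ⟨_, σ, N', σ', key a1, a2, o1, o2, (hs _ _).trans e⟩
  · have := h1 (fm θ⁻¹ (cg P⁻¹ A))
    simp only [MonoidHom.comp_apply] at this
    rwa [← fm_mul, mul_inv_cancel, fm_one, cg_cg_inv] at this
  · obtain ⟨t, M, M', h1, h2, h3⟩ := h.out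
    exact ⟨t, _, M', actS_one.1 (key (actS_one.2 h1)), h2, fun h4 => h3 ((hs _ _).1 h4)⟩

theorem j_mul_j : φ (-1) * φ (-1) = 1 := by rw [← map_mul]; simp

theorem j_inv : (φ (-1))⁻¹ = φ (-1) := inv_eq_of_mul_eq_one_left h.j_mul_j

theorem neg_one_ne : (-1 : SL(2, F)) ≠ 1 := fun e => h.twoF (by
  have := congrArg (fun A : SL(2, F) => A.1 0 0) e
  simp at this; linear_combination -this)

theorem j_ne : φ (-1) ≠ 1 := fun e => h.neg_one_ne (h.φ_inj (e.trans φ.map_one.symm))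

theorem comm_jφ (A : SL(2, F)) : Commute (φ A) (φ (-1)) := (actG_self A).comm_j

theorem comm_jψ (B : SL(2, K)) : Commute (ψ B) (φ (-1)) := (h.comm _ B).symm

theorem actφ (B : SL(2, K)) : ActG φ (ψ B) 1 := actG_of_comm fun A => (h.comm A B).symm

theorem actψ (A : SL(2, F)) : ActG ψ (φ A) 1 := actG_of_comm fun B => h.comm A B

theorem act_mulφ (A : SL(2, F)) (B : SL(2, K)) : ActG φ (φ A * ψ B) (tg A) := by
  simpa using (actG_self A).mul (h.actφ B)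

theorem act_mulψ (A : SL(2, F)) (B : SL(2, K)) : ActG ψ (φ A * ψ B) (tg B) := by
  simpa using (h.actψ A).mul (actG_self B)

theorem φ_neg (A : SL(2, F)) : φ (-A) = φ (-1) * φ A := by rw [← map_mul, neg_one_mul]

theorem ψ_neg (B : SL(2, K)) : ψ (-B) = φ (-1) * ψ B := by rw [← h.neg, ← map_mul, neg_one_mul]

theorem mul_eq {A A' : SL(2, F)} {B B' : SL(2, K)} (e : φ A * ψ B = φ A' * ψ B') :
    (A = A' ∧ B = B') ∨ (A = -A' ∧ B = -B') := by
  have e1 : φ (A'⁻¹ * A) = ψ (B' * B⁻¹) := by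
    rw [map_mul, map_mul, map_inv, map_inv, inv_mul_eq_iff_eq_mul, ← mul_assoc, ← e]; group
  rcases h.inter _ _ e1 with e2 | e2
  · obtain rfl := inv_mul_eq_one.1 e2
    exact Or.inl ⟨rfl, h.ψ_inj (mul_left_cancel e)⟩
  · obtain rfl : A = -A' := by rw [← mul_inv_cancel_left A' A, e2, mul_neg, mul_one]
    refine Or.inr ⟨rfl, h.ψ_inj ?_⟩
    rw [h.φ_neg, ← (h.comm_jφ A').eq, mul_assoc] at e
    rw [h.ψ_neg, ← mul_left_cancel e, ← mul_assoc, h.j_mul_j, one_mul]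

/-- Elements acting with square determinant lie in `L₁ L₂`. -/
theorem inner {c : G} {M : GL (Fin 2) F} {M' : GL (Fin 2) K} (h1 : ActG φ c M) (h2 : ActG ψ c M')
    (hs : IsSquare M.1.det) : ∃ (A : SL(2, F)) (B : SL(2, K)) (r : F) (r' : K), r ≠ 0 ∧ r' ≠ 0 ∧
      M.1 = r • A.1 ∧ M'.1 = r' • B.1 ∧ c = φ A * ψ B := by
  obtain ⟨A, r, hr, e, a⟩ := h1.inner hs
  obtain ⟨B, r', hr', e', b⟩ := h2.inner ((h.sq_iff h1 h2).1 hs)
  rcases h.ker ((ψ B)⁻¹ * ((φ A)⁻¹ * c)) (fun X => (h.comm X B).symm.inv_left.mul_left (a X))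
    (fun X => by
      rw [← mul_assoc, ← (h.comm A B).inv_inv.eq, mul_assoc]
      exact (h.comm A X).inv_left.mul_left (b X)) with e1 | e1
  · exact ⟨A, B, r, r', hr, hr', e, e', by rw [inv_mul_eq_one] at e1; rw [e1]; group⟩
  · refine ⟨A, -B, r, -r', hr, neg_ne_zero.2 hr', e, by simp [e'], ?_⟩
    rw [h.ψ_neg, ← (h.comm_jψ B).eq, ← e1]; group

theorem mem_φ {c : G} {M : GL (Fin 2) F} (h1 : ActG φ c M) (h2 : ∀ B, Commute c (ψ B)) :
    ∃ (A : SL(2, F)) (r : F), r ≠ 0 ∧ M.1 = r • A.1 ∧ c = φ A := by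
  obtain ⟨A, r, hr, e, a⟩ := h1.inner ((h.sq_iff h1 (actG_of_comm h2)).2 (by simp))
  rcases h.ker _ a (fun X => (h.comm A X).inv_left.mul_left (h2 X)) with e1 | e1
  · exact ⟨A, r, hr, e, (inv_mul_eq_one.1 e1).symm⟩
  · exact ⟨-A, -r, neg_ne_zero.2 hr, by simp [e], by rw [h.φ_neg, ← (h.comm_jφ A).eq, ← e1]; group⟩

/-- Elements with a 2-power acting linearly act linearly. -/
theorem actG_of_pow {c : G} (hc : Commute c (φ (-1))) {k : ℕ} {N : GL (Fin 2) F} {N' : GL (Fin 2) K}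
    (h1 : ActG φ (c ^ 2 ^ k) N) (h2 : ActG ψ (c ^ 2 ^ k) N') : ∃ M M', ActG φ c M ∧ ActG ψ c M' := by
  obtain ⟨M, σ, M', σ', a1, a2, o1, o2, -⟩ := h.act c hc
  obtain rfl := eq_one_of_odd o1 (a1.of_pow h.φ_inj h1)
  obtain rfl := eq_one_of_odd o2 (a2.of_pow h.ψ_inj h2)
  exact ⟨M, M', actS_one.1 a1, actS_one.1 a2⟩

theorem actG_of_two {c : G} (hc : Commute c (φ (-1))) {k : ℕ} (e : c ^ 2 ^ k = 1) :
    ∃ M M', ActG φ c M ∧ ActG ψ c M' :=
  h.actG_of_pow hc (k := k) (e ▸ actG_one) (e ▸ actG_one)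

theorem trace_eq {t : G} (tt : t * t = 1) (t1 : t ≠ 1) (tj : t ≠ φ (-1)) {m : GL (Fin 2) F} {m' : GL (Fin 2) K}
    (a1 : ActG φ t m) (a2 : ActG ψ t m') : m'.1.trace = 0 := by
  have s := (a2.mul a2).isScal h.ψ_inj (fun A => tt ▸ Commute.one_left _)
  by_contra h0
  have s' : IsScal m'.1 := by
    obtain ⟨a, ha⟩ := isScal_iff.1 s
    rw [Units.val_mul, sq_eq, sub_eq_iff_eq_add, ← add_smul] at ha
    exact isScal_iff.2 ⟨_, by rw [← smul_smul, ← ha, smul_smul, inv_mul_cancel₀ h0, one_smul]⟩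
  obtain ⟨A, r, -, -, rfl⟩ := h.mem_φ a1 (a2.of_isScal s')
  rcases (SL_sq_eq_one_iff h.twoF).1 (h.φ_inj (by rw [sq, map_mul, tt, map_one])) with rfl | rfl
  · exact t1 φ.map_one
  · exact tj rfl

/-- Noncentral involutions act as matrices of trace zero. -/
theorem invol {t : G} (tt : t * t = 1) (t1 : t ≠ 1) (tj : t ≠ φ (-1)) (hc : Commute t (φ (-1))) :
    ∃ m m', ActG φ t m ∧ ActG ψ t m' ∧ m.1.trace = 0 ∧ m'.1.trace = 0 := by
  obtain ⟨m, m', a1, a2⟩ := h.actG_of_two hc (k := 1) (by simpa [sq] using tt)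
  exact ⟨m, m', a1, a2, h.symm.trace_eq tt t1 (h.neg ▸ tj) a2 a1, h.trace_eq tt t1 tj a1 a2⟩

end Pre

namespace Good

variable {φ : SL(2, F) →* G} {ψ : SL(2, K) →* G}

theorem of_pre (h : Pre φ ψ) (out : ∃ t M, t * t = 1 ∧ ActG φ t M ∧ ¬ IsSquare M.1.det)
    (fus : ∀ t, t * t = 1 → t ≠ 1 → t ≠ φ (-1) → Commute t (φ (-1)) →
      ∃ ρ, ρ * φ (-1) * ρ⁻¹ = t ∧ ρ * t * ρ⁻¹ = φ (-1) * t) : Good φ ψ :=
  { h with
    fus := fus
    out := by
      obtain ⟨t, M, tt, a, hs⟩ := out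
      obtain ⟨N, N', a1, a2⟩ := h.actG_of_two a.comm_j (k := 1) (by simpa [sq] using tt)
      exact ⟨t, M, N', tt, a, a2, hs⟩ }

variable (h : Good φ ψ)
include h

theorem symm : Good ψ φ :=
  of_pre h.pre.symm (by
    obtain ⟨t, M, M', tt, h1, h2, h3⟩ := h.out
    exact ⟨t, M', tt, h2, fun h4 => h3 ((h.pre.sq_iff h1 h2).2 h4)⟩) (h.neg ▸ h.fus)

theorem cjh (g : G) : Good (cjh g φ) (cjh g ψ) :=
  of_pre (h.pre.cjh g) (by
    obtain ⟨t, M, M', tt, h1, h2, h3⟩ := h.out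
    exact ⟨_, M, by rw [conj_mul, tt]; simp, h1.cjh g, h3⟩) fun t tt t1 tj hc => by
    obtain ⟨ρ, e1, e2⟩ := h.fus (g⁻¹ * t * g) (by rw [show g⁻¹ * t * g * (g⁻¹ * t * g) = g⁻¹ * (t * t) * g by group, tt]; simp)
      (fun e => t1 (by rw [show t = g * (g⁻¹ * t * g) * g⁻¹ by group, e]; simp))
      (fun e => tj (by rw [cjh_apply, ← e]; group))
      (by simpa [cjh_apply, mul_assoc] using hc.map (MulAut.conj g⁻¹).toMonoidHom)
    refine ⟨g * ρ * g⁻¹, ?_, ?_⟩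
    · rw [cjh_apply, show t = g * (g⁻¹ * t * g) * g⁻¹ by group, ← e1]; group
    · rw [cjh_apply, show g * φ (-1) * g⁻¹ * t = g * (φ (-1) * (g⁻¹ * t * g)) * g⁻¹ by group, ← e2]; group

theorem re [Fintype F] (P : GL (Fin 2) F) (θ : F ≃+* F) : Good (φ.comp ((cg P).comp (fm θ))) ψ := by
  have hn : φ.comp ((cg P).comp (fm θ)) (-1) = φ (-1) := by simp [fm_neg_one, cg_neg_one]
  refine of_pre (h.pre.re P θ) ?_ (hn ▸ h.fus)
  obtain ⟨t, M, M', tt, h1, h2, h3⟩ := h.out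
  obtain ⟨N, N', a1, a2⟩ := (h.pre.re P θ).actG_of_two (hn ▸ h1.comm_j) (k := 1) (by simpa [sq] using tt)
  exact ⟨t, N, tt, a1, fun h4 => h3 ((h.pre.sq_iff h1 a2).2 (((h.pre.re P θ).sq_iff a1 a2).1 h4))⟩

theorem cjh_left [Fintype F] {c : G} (hc : Commute c (φ (-1))) : Good (FW.cjh c φ) ψ := by
  obtain ⟨M, σ, -, -, a, -⟩ := h.act c hc
  exact a.cjh_eq ▸ h.re M σ

end Good

end Cfsg.Agent.FW
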