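import Mathlib
import Cfsg.Agent.FW.Act

/-!
The torus of a four-group `⟨j, t⟩` and its invariance under an element permuting `j, t, j t` cyclically.
-/

set_option autoImplicit false
set_option linter.unusedSectionVars false

namespace Cfsg.Agent.FW

open Cfsg.Agent.KSG.M2 hiding dg coe_dg
open Cfsg.Agent.KSG Cfsg.Agent.RootSub
open Cfsg.Agent.Comm.Hex (dg coe_dg coe_ww hom_ext)
open scoped MatrixGroups

variable {F K G : Type*} [Field F] [Field K] [Group G]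

section Mat

variable {m M N : GL (Fin 2) F}

/-- `M` anticommutes with `m`. -/
def Anti (M m : GL (Fin 2) F) : Prop := M.1 * m.1 = -(m.1 * M.1)

theorem commute_iff : Commute M m ↔ M.1 * m.1 = m.1 * M.1 := Units.ext_iff

theorem not_scal (h2 : (2 : F) ≠ 0) (hm : m.1.trace = 0) : ¬ IsScal m.1 := fun h => by
  have := h.disc
  rw [hm] at this
  have h4 : (2 : F) * 2 * m.1.det = 0 := by linear_combination -this
  exact mul_ne_zero (mul_ne_zero h2 h2) (det_ne m) h4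

theorem Anti.trace (h2 : (2 : F) ≠ 0) (h : Anti M m) : M.1.trace = 0 := by
  have e : M.1 = -(m.1 * M.1 * (m⁻¹).1) := by
    rw [← neg_mul, ← h, mul_assoc, Units.mul_inv, mul_one]
  have := congrArg Matrix.trace e
  rw [Matrix.trace_neg, Matrix.trace_mul_cycle, Units.inv_mul, one_mul] at this
  exact (mul_eq_zero.1 (by linear_combination this)).resolve_left h2

theorem sq_scal (hm : m.1.trace = 0) : IsScal (m * m).1 :=
  isScal_iff.2 ⟨-m.1.det, by rw [Units.val_mul, sq_eq, hm]; simp⟩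

theorem Anti.not_comm (h2 : (2 : F) ≠ 0) (h : Anti M m) : ¬ Commute M m := fun e => by
  have e1 : (2 : F) • (m * M).1 = 0 := by
    rw [two_smul, Units.val_mul]; nth_rewrite 1 [← commute_iff.1 e, h]; simp
  exact det_ne (m * M) (by rw [(smul_eq_zero.1 e1).resolve_left h2, Matrix.det_zero])

theorem Anti.mul (h : Anti M m) (h' : Anti N m) : Commute (M * N) m := commute_iff.2 (by
  rw [Units.val_mul, mul_assoc, h', mul_neg, ← mul_assoc, h]; simp [mul_assoc])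

theorem Anti.mul_comm (h : Anti M m) (h' : Commute N m) : Anti (M * N) m := by
  rw [Anti, Units.val_mul, mul_assoc, commute_iff.1 h', ← mul_assoc, h]; simp [mul_assoc]

theorem Anti.comm_mul (h : Anti M m) (h' : Commute N m) : Anti (N * M) m := by
  rw [Anti, Units.val_mul, mul_assoc, h, mul_neg, ← mul_assoc, commute_iff.1 h', mul_assoc]

theorem Anti.inv (h : Anti M m) : Anti M⁻¹ m := by
  have : (M⁻¹).1 * (M.1 * m.1) * (M⁻¹).1 = m.1 * (M⁻¹).1 := by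
    rw [← mul_assoc, Units.inv_mul, one_mul]
  rw [Anti, ← this, h]
  simp only [mul_neg, neg_mul, neg_neg, mul_assoc, Units.mul_inv, mul_one]

theorem comm_or_anti {r : F} (e : (M * m * M⁻¹).1 = r • m.1) : Commute M m ∨ Anti M m := by
  have h1 : M.1 * m.1 = r • (m.1 * M.1) := by
    rw [← Matrix.smul_mul, ← e, ← Units.val_mul, ← Units.val_mul, inv_mul_cancel_right]
  have h2 := congrArg Matrix.det h1
  rw [Matrix.det_smul, Matrix.det_mul, Matrix.det_mul, Fintype.card_fin] at h2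
  have h3 : (r - 1) * (r + 1) * (m.1.det * M.1.det) = 0 := by linear_combination -h2
  rcases mul_eq_zero.1 ((mul_eq_zero.1 h3).resolve_right (mul_ne_zero (det_ne m) (det_ne M))) with h | h
  · exact Or.inl (commute_iff.2 (by rw [h1, sub_eq_zero.1 h, one_smul]))
  · exact Or.inr (by rw [Anti, h1, eq_neg_of_add_eq_zero_left h, neg_smul, one_smul])

theorem exists_anti [Finite F] (h2 : (2 : F) ≠ 0) (hm : m.1.trace = 0) : ∃ W : SL(2, F), Anti (tg W) m := by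
  obtain ⟨P, hP, e⟩ := exists_similar_det_one (A := m.1) (B := -m.1) (not_scal h2 hm)
    (fun h => not_scal h2 hm (isScal_neg.1 h)) (by simp [hm]) (by simp [Matrix.det_neg]) (Or.inl (by
      rw [hm]; intro h
      exact mul_ne_zero (mul_ne_zero h2 h2) (det_ne m) (by linear_combination -h)))
  exact ⟨⟨P, hP⟩, e.trans (neg_mul _ _)⟩

theorem comm_of_smul {A : SL(2, F)} {r : F} (hr : r ≠ 0) (e : M.1 = r • A.1) :
    Commute M m ↔ Commute (tg A) m := by
  rw [commute_iff, commute_iff, e, Matrix.smul_mul, Matrix.mul_smul, (smul_right_injective _ hr).eq_iff, coe_tg]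

theorem scal_or (h2 : (2 : F) ≠ 0) (hm : m.1.trace = 0) (h : Commute M m) (hs : IsScal (M * M).1) :
    IsScal M.1 ∨ ∃ r : F, M.1 = r • m.1 := by
  obtain ⟨x, y, e⟩ := (comm_iff (not_scal h2 hm)).1 (commute_iff.1 h).symm
  have e2 : (M * M).1 = (x * x - y * y * m.1.det) • (1 : Matrix (Fin 2) (Fin 2) F) + (2 * x * y) • m.1 := by
    rw [Units.val_mul, e]
    simp only [add_mul, mul_add, Matrix.smul_mul, Matrix.mul_smul, one_mul, mul_one, sq_eq, hm]
    module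
  rw [e2, isScal_smul_add (not_scal h2 hm)] at hs
  rcases mul_eq_zero.1 hs with h0 | h0
  · exact Or.inr ⟨y, by rw [e, (mul_eq_zero.1 h0).resolve_left h2]; simp⟩
  · exact Or.inl (by rw [e, isScal_smul_add (not_scal h2 hm), h0])

theorem exists_comm_det [Finite F] (h2 : (2 : F) ≠ 0) (hm : m.1.trace = 0) (N : GL (Fin 2) F) :
    ∃ B : SL(2, F), Commute (tg B * N) m := by
  obtain ⟨x, y, e⟩ := norm_surj (t := m.1.trace) (d := m.1.det) (Or.inl (by
    rw [hm]; intro h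
    exact mul_ne_zero (mul_ne_zero h2 h2) (det_ne m) (by linear_combination -h))) N.1.det
  refine ⟨⟨(x • 1 + y • m.1) * (N⁻¹).1, ?_⟩, commute_iff.2 ?_⟩
  · rw [Matrix.det_mul, det_smul_add, e, ← Matrix.det_mul, Units.mul_inv, Matrix.det_one]
  · change (x • 1 + y • m.1) * (N⁻¹).1 * N.1 * m.1 = m.1 * ((x • 1 + y • m.1) * (N⁻¹).1 * N.1)
    rw [mul_assoc _ _ N.1, Units.inv_mul, mul_one]
    simp [add_mul, mul_add]

/-- `diag(r, 1)`. -/
def dm : Fˣ →* GL (Fin 2) F where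
  toFun r := ⟨!![(r : F), 0; 0, 1], !![((r⁻¹ : Fˣ) : F), 0; 0, 1], by simp [Matrix.one_fin_two],
    by simp [Matrix.one_fin_two]⟩
  map_one' := Units.ext (by simp [Matrix.one_fin_two])
  map_mul' r s := Units.ext (by simp)

theorem coe_dm (r : Fˣ) : (dm r).1 = !![(r : F), 0; 0, 1] := rfl

theorem cg_dm_xx (r : Fˣ) (s : F) : cg (dm r) (xx s) = xx (r * s) := cg_eq_iff.2 (by simp [coe_dm])

theorem cg_dm_yy (r : Fˣ) (s : F) : cg (dm r) (yy s) = yy ((r : F)⁻¹ * s) :=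
  cg_eq_iff.2 (by simp [coe_dm]; field_simp)

theorem trace_dm : (dm (-1 : Fˣ)).1.trace = 0 := by simp [coe_dm]

theorem det_dm (r : Fˣ) : (dm r).1.det = r := by simp [coe_dm]

theorem dg_eq (c : Fˣ) : (dm (c * c)).1 = (c : F) • (dg c).1 := by
  rw [coe_dg, coe_dm]; ext i j; fin_cases i <;> fin_cases j <;> simp

theorem anti_ww : Anti (tg (ww : SL(2, F))) (dm (-1)) := by
  rw [Anti, coe_tg, coe_ww, coe_dm]; ext i j; fin_cases i <;> fin_cases j <;> simp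

theorem diag_of_comm (h2 : (2 : F) ≠ 0) (h : Commute M (dm (-1))) : ∃ (r : Fˣ) (a : F), (dm r).1 = a • M.1 := by
  have e := commute_iff.1 h
  have e1 := congrFun (congrFun e 0) 1
  have e2 := congrFun (congrFun e 1) 0
  simp [mul_apply2, coe_dm] at e1 e2
  have h01 : M.1 0 1 = 0 := (mul_eq_zero.1 (by linear_combination e1)).resolve_left h2
  have h10 : M.1 1 0 = 0 := (mul_eq_zero.1 (by linear_combination -e2)).resolve_left h2
  have hd := det_ne M
  rw [Matrix.det_fin_two, h01, zero_mul, sub_zero] at hd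
  have h1 := right_ne_zero_of_mul hd
  refine ⟨Units.mk0 (M.1 0 0 / M.1 1 1) (div_ne_zero (left_ne_zero_of_mul hd) h1), (M.1 1 1)⁻¹, ?_⟩
  apply ext2 <;> simp [coe_dm, h01, h10, h1, div_eq_inv_mul]

theorem eq_dg (h2 : (2 : F) ≠ 0) {A : SL(2, F)} (h : Commute (tg A) (dm (-1))) : ∃ c, A = dg c := by
  obtain ⟨r, a, e⟩ := diag_of_comm h2 h
  obtain ⟨e0, e1, e2, e3⟩ := ext2_iff.1 e
  simp [coe_dm, coe_tg] at e0 e1 e2 e3
  have ha : a ≠ 0 := by rintro rfl; simp at e3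
  have hd := sl2_det A
  rw [e1.resolve_left ha, zero_mul, sub_zero] at hd
  refine ⟨Units.mkOfMulEqOne _ _ hd, Subtype.ext ?_⟩
  rw [coe_dg]
  apply ext2 <;> simp [e1.resolve_left ha, e2.resolve_left ha, eq_inv_of_mul_eq_one_right hd]

theorem exists_split [Finite F] (h2 : (2 : F) ≠ 0) (hm : m.1.trace = 0) (hs : IsSquare (-m.1.det)) :
    ∃ (P : SL(2, F)) (r : F), (dm (-1)).1 = r • (tg P * m * (tg P)⁻¹).1 := by
  obtain ⟨r, hr⟩ := hs
  have h0 : r ≠ 0 := fun h0 => det_ne m (by rw [h0] at hr; linear_combination -hr)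
  have hns : ¬ IsScal (r • (dm (-1 : Fˣ)).1) := fun h => by
    have := h.2.2
    simp [coe_dm] at this
    exact mul_ne_zero h2 h0 (by linear_combination -this)
  obtain ⟨P, hP, e⟩ := exists_similar_det_one (A := m.1) (B := r • (dm (-1 : Fˣ)).1) (not_scal h2 hm) hns
    (by simp [hm, trace_dm]) (by simp [det_dm]; linear_combination -hr) (Or.inl (by
      rw [hm]; intro h
      exact mul_ne_zero (mul_ne_zero h2 h2) (det_ne m) (by linear_combination -h)))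
  refine ⟨⟨P, hP⟩, r⁻¹, ?_⟩
  have : (tg ⟨P, hP⟩ * m).1 = r • (dm (-1) * tg ⟨P, hP⟩).1 := by
    exact e.trans (Matrix.smul_mul _ _ _)
  rw [Units.val_mul, this, Matrix.smul_mul, ← Units.val_mul, mul_inv_cancel_right, smul_smul,
    inv_mul_cancel₀ h0, one_smul]

end Mat

variable (φ : SL(2, F) →* G) (ψ : SL(2, K) →* G)

/-- The elements acting linearly on both factors. -/
def Hl : Subgroup G where
  carrier := {c | ∃ M M', ActG φ c M ∧ ActG ψ c M'}
  one_mem' := ⟨1, 1, actG_one, actG_one⟩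
  mul_mem' := fun ⟨_, _, a, b⟩ ⟨_, _, a', b'⟩ => ⟨_, _, a.mul a', b.mul b'⟩
  inv_mem' := fun ⟨_, _, a, b⟩ => ⟨_, _, a.inv, b.inv⟩

/-- The torus of an involution acting as `m`, `m'`. -/
def Tr (m : GL (Fin 2) F) (m' : GL (Fin 2) K) : Subgroup G where
  carrier := {c | ∃ M M', ActG φ c M ∧ ActG ψ c M' ∧ Commute M m ∧ Commute M' m'}
  one_mem' := ⟨1, 1, actG_one, actG_one, Commute.one_left _, Commute.one_left _⟩
  mul_mem' := fun ⟨_, _, a, b, c, d⟩ ⟨_, _, a', b', c', d'⟩ =>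
    ⟨_, _, a.mul a', b.mul b', c.mul_left c', d.mul_left d'⟩
  inv_mem' := fun ⟨_, _, a, b, c, d⟩ => ⟨_, _, a.inv, b.inv, c.inv_left, d.inv_left⟩

/-- A noncentral involution of `C(j)`. -/
structure Tv (t : G) (m : GL (Fin 2) F) (m' : GL (Fin 2) K) : Prop where
  pre : Pre φ ψ
  tt : t * t = 1
  a1 : ActG φ t m
  a2 : ActG ψ t m'
  tr1 : m.1.trace = 0
  tr2 : m'.1.trace = 0

variable {φ ψ}

theorem Tr_symm (m : GL (Fin 2) F) (m' : GL (Fin 2) K) : Tr ψ φ m' m = Tr φ ψ m m' :=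
  Subgroup.ext fun _ => ⟨fun ⟨_, _, a, b, c, d⟩ => ⟨_, _, b, a, d, c⟩, fun ⟨_, _, a, b, c, d⟩ => ⟨_, _, b, a, d, c⟩⟩

theorem Hl_symm : Hl ψ φ = Hl φ ψ :=
  Subgroup.ext fun _ => ⟨fun ⟨_, _, a, b⟩ => ⟨_, _, b, a⟩, fun ⟨_, _, a, b⟩ => ⟨_, _, b, a⟩⟩

theorem Tr_le (m : GL (Fin 2) F) (m' : GL (Fin 2) K) : Tr φ ψ m m' ≤ Hl φ ψ :=
  fun _ ⟨_, _, a, b, _⟩ => ⟨_, _, a, b⟩

theorem Hl.comm_j {c : G} (h : c ∈ Hl φ ψ) : Commute c (φ (-1)) := by
  obtain ⟨_, _, a, -⟩ := h; exact a.comm_j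

theorem Pre.tv (h : Pre φ ψ) {t : G} (tt : t * t = 1) (t1 : t ≠ 1) (tj : t ≠ φ (-1)) (hc : Commute t (φ (-1))) :
    ∃ m m', Tv φ ψ t m m' := by
  obtain ⟨m, m', h1⟩ := h.invol tt t1 tj hc
  exact ⟨m, m', h, tt, h1.1, h1.2.1, h1.2.2.1, h1.2.2.2⟩

/-- No `ρ`-invariant set splitting along `L₁ L₂` contains elements of even order. -/
theorem Pre.odd_of_inv [Finite G] (h : Pre φ ψ) {ρ : G} (h1 : ρ * φ (-1) * ρ⁻¹ ≠ φ (-1)) {S : Set G}
    (hS : ∀ x ∈ S, ∃ A B, φ A ∈ S ∧ ψ B ∈ S ∧ x = φ A * ψ B) (hρ : ∀ x ∈ S, ρ * x * ρ⁻¹ ∈ S) :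
    ∀ x ∈ S, Odd (orderOf x) := by
  obtain ⟨a, n, hn, e⟩ := Nat.exists_eq_two_pow_mul_odd (Nat.card_pos (α := G)).ne'
  have key : ∀ k, (∀ x ∈ S, x ^ (2 ^ (k + 1) * n) = 1) → ∀ x ∈ S, x ^ (2 ^ k * n) = 1 := fun k hk => by
    have h2 : ∀ x ∈ S, x ^ (2 ^ k * n) = 1 ∨ x ^ (2 ^ k * n) = φ (-1) := fun x hx => by
      obtain ⟨A, B, hA, hB, rfl⟩ := hS x hx
      have eA := (SL_sq_eq_one_iff (g := A ^ (2 ^ k * n)) h.twoF).1 (h.φ_inj (by
        rw [← pow_mul, map_pow, map_one, ← hk _ hA]; congr 1; ring))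
      have eB := (SL_sq_eq_one_iff (g := B ^ (2 ^ k * n)) h.twoK).1 (h.ψ_inj (by
        rw [← pow_mul, map_pow, map_one, ← hk _ hB]; congr 1; ring))
      rw [(h.comm A B).mul_pow, ← map_pow, ← map_pow]
      rcases eA with eA | eA <;> rcases eB with eB | eB <;> simp [eA, eB, h.neg, h.j_mul_j]
    intro x hx
    refine (h2 x hx).resolve_right fun e1 => ?_
    rcases h2 _ (hρ x hx) with e2 | e2 <;> rw [conj_pow, e1] at e2
    · exact h.j_ne (by simpa using e2)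
    · exact h1 e2
  have : ∀ k, (∀ x ∈ S, x ^ (2 ^ k * n) = 1) → ∀ x ∈ S, x ^ n = 1 := fun k => by
    induction k with
    | zero => simp
    | succ k ih => exact fun hk => ih (key k hk)
  exact fun x hx => hn.of_dvd_nat (orderOf_dvd_of_pow_eq_one (this a (fun y _ => e ▸ pow_card_eq_one') x hx))

namespace Tv

variable {t : G} {m : GL (Fin 2) F} {m' : GL (Fin 2) K} (h : Tv φ ψ t m m')
include h

local notation "j" => φ (-1)
local notation "T" => Tr φ ψ m m'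

theorem symm : Tv ψ φ t m' m := ⟨h.pre.symm, h.tt, h.a2, h.a1, h.tr2, h.tr1⟩

theorem cjh (g : G) : Tv (cjh g φ) (cjh g ψ) (g * t * g⁻¹) m m' :=
  ⟨h.pre.cjh g, by rw [conj_mul, h.tt]; simp, h.a1.cjh g, h.a2.cjh g, h.tr1, h.tr2⟩

theorem t_inv : t⁻¹ = t := inv_eq_of_mul_eq_one_left h.tt

theorem t_mem : t ∈ T := ⟨m, m', h.a1, h.a2, Commute.refl _, Commute.refl _⟩

theorem tj : Commute t j := h.a1.comm_j

theorem not_comm : ¬ ∀ A, Commute t (φ A) := fun e => not_scal h.pre.twoF h.tr1 (h.a1.isScal h.pre.φ_inj e)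

theorem t_ne_one : t ≠ 1 := fun e => h.not_comm fun _ => e ▸ Commute.one_left _

theorem t_ne_j : t ≠ j := fun e => h.not_comm fun A => e ▸ (h.pre.comm_jφ A).symm

theorem jt : Tv φ ψ (j * t) m m' :=
  ⟨h.pre, by rw [mul_assoc, ← mul_assoc t, h.tj.eq, mul_assoc, h.tt, mul_one, h.pre.j_mul_j],
    by simpa using (actG_of_comm fun A => (h.pre.comm_jφ A).symm).mul h.a1,
    by simpa using (h.pre.actψ (-1)).mul h.a2, h.tr1, h.tr2⟩

theorem mul_mem_T {A : SL(2, F)} {B : SL(2, K)} (hA : Commute (tg A) m) (hB : Commute (tg B) m') :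
    φ A * ψ B ∈ T := ⟨_, _, h.pre.act_mulφ A B, h.pre.act_mulψ A B, hA, hB⟩

theorem comm_φ {A : SL(2, F)} : Commute (φ A) t ↔ Commute (tg A) m :=
  ⟨fun e => commute_iff.2 (h.a1.of_comm h.pre.φ_inj e.symm).symm,
    fun e => (h.a1.comm (commute_iff.1 e).symm).symm⟩

theorem comm_ψ {B : SL(2, K)} : Commute (ψ B) t ↔ Commute (tg B) m' := h.symm.comm_φ

theorem φ_mem {A : SL(2, F)} (hA : Commute (φ A) t) : φ A ∈ T := by
  simpa using h.mul_mem_T (B := 1) (h.comm_φ.1 hA) (by simp)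

theorem ψ_mem {B : SL(2, K)} (hB : Commute (ψ B) t) : ψ B ∈ T :=
  (Tr_symm m m').le (h.symm.φ_mem hB)

theorem j_mem : j ∈ T := h.φ_mem h.tj.symm

theorem comm_act {c : G} (hc : c ∈ T) {M : GL (Fin 2) F} (a : ActG φ c M) : Commute M m := by
  obtain ⟨N, -, a', -, e, -⟩ := hc
  obtain ⟨r, -, e'⟩ := a'.unique h.pre.φ_inj a
  rw [commute_iff, e', Matrix.smul_mul, Matrix.mul_smul, commute_iff.1 e]

theorem comm_act' {c : G} (hc : c ∈ T) {M : GL (Fin 2) K} (a : ActG ψ c M) : Commute M m' :=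
  h.symm.comm_act ((Tr_symm m m').ge hc) a

theorem inner {c : G} (hc : c ∈ T) {M : GL (Fin 2) F} (a : ActG φ c M) (hs : IsSquare M.1.det) :
    ∃ A B, Commute (φ A) t ∧ Commute (ψ B) t ∧ c = φ A * ψ B := by
  obtain ⟨-, M', -, b, -, e⟩ := id hc
  obtain ⟨A, B, r, r', hr, hr', e1, e2, rfl⟩ := h.pre.inner a b hs
  exact ⟨A, B, h.comm_φ.2 ((comm_of_smul hr e1).1 (h.comm_act hc a)), h.comm_ψ.2 ((comm_of_smul hr' e2).1 e), rfl⟩

theorem comm_T1 {c : G} (hc : c ∈ T) {A : SL(2, F)} (hA : Commute (φ A) t) : Commute c (φ A) := by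
  obtain ⟨M, -, a, -, e, -⟩ := hc
  exact a.comm (comm_of_comm (not_scal h.pre.twoF h.tr1) (commute_iff.1 e).symm
    (commute_iff.1 (h.comm_φ.1 hA)).symm)

theorem comm_T2 {c : G} (hc : c ∈ T) {B : SL(2, K)} (hB : Commute (ψ B) t) : Commute c (ψ B) :=
  h.symm.comm_T1 ((Tr_symm m m').ge hc) hB

theorem anti_conj {W : SL(2, F)} (hW : Anti (tg W) m) : φ W * t * (φ W)⁻¹ = j * t := by
  have e : cg m W = -W := cg_eq_iff.2 (by
    rw [Matrix.SpecialLinearGroup.coe_neg, neg_mul, ← coe_tg, hW, neg_neg])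
  have := h.a1 W
  rw [e, h.pre.φ_neg, mul_inv_eq_iff_eq_mul, mul_assoc] at this
  rw [mul_inv_eq_iff_eq_mul, mul_assoc, this, ← mul_assoc, h.pre.j_mul_j, one_mul]

theorem anti_conj' {W : SL(2, K)} (hW : Anti (tg W) m') : ψ W * t * (ψ W)⁻¹ = j * t :=
  h.pre.neg ▸ h.symm.anti_conj hW

theorem anti_sq {W : SL(2, F)} (hW : Anti (tg W) m) : W * W = -1 :=
  SL_sq_eq_neg_one_iff.2 (hW.trace h.pre.twoF)

theorem anti_comm {W : SL(2, F)} {W' : SL(2, K)} (hW : Anti (tg W) m) (hW' : Anti (tg W') m') :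
    Commute (φ W * ψ W') t := by
  rw [Commute, SemiconjBy, ← mul_inv_eq_iff_eq_mul, mul_inv_rev,
    show φ W * ψ W' * t * ((ψ W')⁻¹ * (φ W)⁻¹) = φ W * (ψ W' * t * (ψ W')⁻¹) * (φ W)⁻¹ by group,
    h.anti_conj' hW', ← mul_assoc, (h.pre.comm_jφ W).eq, mul_assoc, mul_assoc, ← mul_assoc (φ W),
    h.anti_conj hW, ← mul_assoc, h.pre.j_mul_j, one_mul]

theorem anti_mul_sq {W : SL(2, F)} {W' : SL(2, K)} (hW : Anti (tg W) m) (hW' : Anti (tg W') m') :
    φ W * ψ W' * (φ W * ψ W') = 1 := by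
  rw [← sq, (h.pre.comm W W').mul_pow, sq, sq, ← map_mul, ← map_mul, h.anti_sq hW, h.symm.anti_sq hW',
    h.pre.neg, h.pre.j_mul_j]

theorem of_scal {c : G} {M : GL (Fin 2) F} {M' : GL (Fin 2) K} (a : ActG φ c M) (b : ActG ψ c M')
    (s : IsScal M.1) (s' : IsScal M'.1) : c = 1 ∨ c = j := h.pre.ker c (a.of_isScal s) (b.of_isScal s')

/-- The involutions of the torus. -/
theorem mem_V {c : G} (hc : c ∈ T) (e : c * c = 1) : c = 1 ∨ c = j ∨ c = t ∨ c = j * t := by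
  by_cases h1 : c = 1
  · exact Or.inl h1
  by_cases h2 : c = j
  · exact Or.inr (Or.inl h2)
  obtain ⟨M, M', a, b, e1, e2⟩ := hc
  have s := (a.mul a).isScal h.pre.φ_inj (fun A => e ▸ Commute.one_left _)
  have s' := (b.mul b).isScal h.pre.ψ_inj (fun A => e ▸ Commute.one_left _)
  obtain ⟨r, hr⟩ := (scal_or h.pre.twoF h.tr1 e1 s).resolve_left
    (not_scal h.pre.twoF (h.pre.symm.trace_eq e h1 (h.pre.neg ▸ h2) b a))
  obtain ⟨r', hr'⟩ := (scal_or h.pre.twoK h.tr2 e2 s').resolve_left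
    (not_scal h.pre.twoK (h.pre.trace_eq e h1 h2 a b))
  rcases h.of_scal (a.mul (h.a1.congr hr).inv) (b.mul (h.a2.congr hr').inv) (by simpa using isScal_one)
    (by simpa using isScal_one) with e3 | e3
  · exact Or.inr (Or.inr (Or.inl (mul_inv_eq_one.1 e3)))
  · exact Or.inr (Or.inr (Or.inr (mul_inv_eq_iff_eq_mul.1 e3)))

variable [Fintype F] [Fintype K]

theorem comm {c c' : G} (hc : c ∈ T) (hc' : c' ∈ T) : Commute c c' := by
  have key : ∀ {c c' : G}, c ∈ T → c' ∈ T → ∀ {M}, ActG φ c M → IsSquare M.1.det → Commute c c' :=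
    fun hc hc' _ a hs => by
      obtain ⟨A, B, hA, hB, rfl⟩ := h.inner hc a hs
      exact ((h.comm_T1 hc' hA).mul_right (h.comm_T2 hc' hB)).symm
  obtain ⟨M, -, a, -⟩ := id hc
  obtain ⟨M', -, a', -⟩ := id hc'
  by_cases s : IsSquare M.1.det
  · exact key hc hc' a s
  by_cases s' : IsSquare M'.1.det
  · exact (key hc' hc a' s').symm
  simpa using (Commute.refl c').mul_left (key (mul_mem (inv_mem hc') hc) hc' (a'.inv.mul a)
    (by rw [sq_det_mul, sq_det_inv]; tauto))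

theorem comm_t {c : G} (hc : c ∈ T) : Commute c t := h.comm hc h.t_mem

theorem cases {c : G} (hc : Commute c t) {M : GL (Fin 2) F} {M' : GL (Fin 2) K} (a : ActG φ c M)
    (b : ActG ψ c M') : (Commute M m ∧ Commute M' m') ∨ (Anti M m ∧ Anti M' m') := by
  have e : c * t * c⁻¹ = t := by rw [hc.eq, mul_inv_cancel_right]
  obtain ⟨r, -, e1⟩ := h.a1.unique h.pre.φ_inj (e ▸ (a.mul h.a1).mul a.inv)
  obtain ⟨r', -, e2⟩ := h.a2.unique h.pre.ψ_inj (e ▸ (b.mul h.a2).mul b.inv)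
  have hj : ∀ x, x * t * x⁻¹ = j * t → ¬ Commute (x * c) t := fun x hx hy => h.pre.j_ne (by
    have : Commute x t := by simpa using hy.mul_left hc.inv_left
    rw [this.eq, mul_inv_cancel_right] at hx
    exact right_eq_mul.1 hx)
  rcases comm_or_anti e1 with h1 | h1 <;> rcases comm_or_anti e2 with h2 | h2
  · exact Or.inl ⟨h1, h2⟩
  · obtain ⟨W, hW⟩ := exists_anti h.pre.twoK h.tr2
    exact (hj _ (h.anti_conj' hW) (h.comm_t ⟨_, _, (h.pre.actφ W).mul a, (actG_self W).mul b,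
      by simpa using h1, hW.mul h2⟩)).elim
  · obtain ⟨W, hW⟩ := exists_anti h.pre.twoF h.tr1
    exact (hj _ (h.anti_conj hW) (h.comm_t ⟨_, _, (actG_self W).mul a, (h.pre.actψ W).mul b,
      hW.mul h1, by simpa using h2⟩)).elim
  · exact Or.inr ⟨h1, h2⟩

theorem anti_of_not_mem {c : G} (hc : Commute c t) (hT : c ∉ T) {M : GL (Fin 2) F} {M' : GL (Fin 2) K}
    (a : ActG φ c M) (b : ActG ψ c M') : Anti M m ∧ Anti M' m' :=
  (h.cases hc a b).resolve_left fun e => hT ⟨_, _, a, b, e⟩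

theorem mul_mem_of_not_mem {c c' : G} (hH : c ∈ Hl φ ψ) (hc : Commute c t) (hT : c ∉ T)
    (hH' : c' ∈ Hl φ ψ) (hc' : Commute c' t) (hT' : c' ∉ T) : c * c' ∈ T := by
  obtain ⟨M, M', a, b⟩ := hH
  obtain ⟨N, N', a', b'⟩ := hH'
  obtain ⟨e1, e2⟩ := h.anti_of_not_mem hc hT a b
  obtain ⟨e3, e4⟩ := h.anti_of_not_mem hc' hT' a' b'
  exact ⟨_, _, a.mul a', b.mul b', e1.mul e3, e2.mul e4⟩

theorem sq_mem {c : G} (hH : c ∈ Hl φ ψ) (hc : Commute c t) (hT : c ∉ T) : c * c = 1 ∨ c * c = j := by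
  obtain ⟨M, M', a, b⟩ := hH
  obtain ⟨e1, e2⟩ := h.anti_of_not_mem hc hT a b
  exact h.of_scal (a.mul a) (b.mul b) (sq_scal (e1.trace h.pre.twoF)) (sq_scal (e2.trace h.pre.twoK))

theorem anti_not_mem {W : SL(2, F)} (hW : Anti (tg W) m) (B : SL(2, K)) : φ W * ψ B ∉ T := fun e =>
  hW.not_comm h.pre.twoF (h.comm_act e (h.pre.act_mulφ W B))

theorem surj {M : GL (Fin 2) F} (hM : Commute M m) : ∃ c ∈ T, ActG φ c M := by
  have key : ∀ {c N N'}, ActG φ c N → ActG ψ c N' → IsSquare (M * N⁻¹).1.det → ∃ c ∈ T, ActG φ c M :=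
    fun {c N N'} a b hs => by
      obtain ⟨r, hr⟩ := hs
      have h0 : r ≠ 0 := fun h0 => det_ne (M * N⁻¹) (by rw [hr, h0, mul_zero])
      let A : SL(2, F) := ⟨r⁻¹ • (M * N⁻¹).1, by rw [Matrix.det_smul, Fintype.card_fin, hr]; field_simp⟩
      obtain ⟨B, hB⟩ := exists_comm_det h.pre.twoK h.tr2 N'
      have a' : ActG φ (φ A * ψ B * c) M := ((h.pre.act_mulφ A B).mul a).congr (r := r) (by
        rw [Units.val_mul, coe_tg, Matrix.smul_mul, smul_smul, mul_inv_cancel₀ h0, one_smul, ← Units.val_mul,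
          inv_mul_cancel_right])
      exact ⟨_, ⟨_, _, a', (h.pre.act_mulψ A B).mul b, hM, hB⟩, a'⟩
  by_cases s : IsSquare M.1.det
  · exact key actG_one actG_one (by simpa using s)
  · obtain ⟨c, N, N', a, b, s'⟩ := h.pre.out
    exact key a b (by rw [sq_det_mul, sq_det_inv]; tauto)

theorem conj_H {g : G} (h1 : ∀ y, Commute y j → Commute y t → Commute (g * y * g⁻¹) j) {c : G}
    (hH : c ∈ Hl φ ψ) (hc : Commute c t) : g * c * g⁻¹ ∈ Hl φ ψ := by
  have key : ∀ y, Commute y j → Commute y t → y * y = 1 → g * y * g⁻¹ ∈ Hl φ ψ := fun y a b e =>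
    h.pre.actG_of_two (h1 y a b) (k := 1) (by rw [conj_pow, pow_one, sq, e]; simp)
  have : g * (c * c) * g⁻¹ ∈ Hl φ ψ := by
    by_cases hT : c ∈ T
    · obtain ⟨M, -, a, -⟩ := id hT
      obtain ⟨A, B, hA, hB, e⟩ := h.inner (mul_mem hT hT) (a.mul a) (by rw [sq_det_mul])
      obtain ⟨W, hW⟩ := exists_anti h.pre.twoF h.tr1
      obtain ⟨W', hW'⟩ := exists_anti h.pre.twoK h.tr2
      have hA' : Anti (tg (W * A)) m := map_mul tg W A ▸ hW.mul_comm (h.comm_φ.1 hA)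
      have hB' : Anti (tg (W' * B)) m' := map_mul tg W' B ▸ hW'.mul_comm (h.comm_ψ.1 hB)
      have := mul_mem (inv_mem (key _ (h.pre.act_mulφ W W').comm_j (h.anti_comm hW hW') (h.anti_mul_sq hW hW')))
        (key _ (h.pre.act_mulφ _ _).comm_j (h.anti_comm hA' hB') (h.anti_mul_sq hA' hB'))
      convert this using 1
      rw [e, map_mul, map_mul, mul_assoc (φ W), ← mul_assoc (φ A), (h.pre.comm A W').eq]; group
    · rcases h.sq_mem hH hc hT with e | e <;> rw [e]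
      · simp
      · exact key _ (Commute.refl _) h.tj.symm h.pre.j_mul_j
  obtain ⟨N, N', a, b⟩ := this
  exact h.pre.actG_of_pow (h1 c (Hl.comm_j hH) hc) (k := 1) (by rwa [conj_pow, pow_one, sq])
    (by rwa [conj_pow, pow_one, sq])

theorem exists_split' (hs : IsSquare (-m.1.det)) : ∃ P, Tv φ ψ (φ P * t * (φ P)⁻¹) (dm (-1)) m' := by
  obtain ⟨P, r, e⟩ := exists_split h.pre.twoF h.tr1 hs
  exact ⟨P, h.pre, by rw [conj_mul, h.tt]; simp, (((actG_self P).mul h.a1).mul (actG_self P).inv).congr e,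
    by simpa using ((h.pre.actψ P).mul h.a2).mul (h.pre.actψ P).inv, trace_dm, h.tr2⟩

variable {ρ : G} (hj : ρ * φ (-1) * ρ⁻¹ = t) (ht : ρ * t * ρ⁻¹ = φ (-1) * t)
include hj ht

omit [Fintype F] [Fintype K] in
theorem rho_jt : ρ * (j * t) * ρ⁻¹ = j := by
  rw [← conj_mul, hj, ht, ← mul_assoc, h.tj.eq, mul_assoc, h.tt, mul_one]

omit [Fintype F] [Fintype K] in
theorem rho_comm {y : G} (a : Commute y j) (b : Commute y t) :
    Commute (ρ * y * ρ⁻¹) j ∧ Commute (ρ * y * ρ⁻¹) t :=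
  ⟨h.rho_jt hj ht ▸ (a.mul_right b).map (MulAut.conj ρ).toMonoidHom, hj ▸ a.map (MulAut.conj ρ).toMonoidHom⟩

omit [Fintype F] [Fintype K] in
theorem rho_comm' {y : G} (a : Commute y j) (b : Commute y t) :
    Commute (ρ⁻¹ * y * ρ⁻¹⁻¹) j ∧ Commute (ρ⁻¹ * y * ρ⁻¹⁻¹) t := by
  constructor
  · simpa [← hj, mul_assoc] using b.map (MulAut.conj ρ⁻¹).toMonoidHom
  · simpa [← ht, mul_assoc] using (a.mul_right b).map (MulAut.conj ρ⁻¹).toMonoidHom

theorem rho_mem {c : G} (hc : c ∈ T) : ρ * c * ρ⁻¹ ∈ T := by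
  by_contra hx
  have cj := Hl.comm_j (Tr_le _ _ hc)
  have ct := h.comm_t hc
  have xH := h.conj_H (fun y a b => (h.rho_comm hj ht a b).1) (Tr_le _ _ hc) ct
  have xt := (h.rho_comm hj ht cj ct).2
  have yH := h.conj_H (fun y a b => (h.rho_comm' hj ht a b).1) (Tr_le _ _ hc) ct
  have yt := (h.rho_comm' hj ht cj ct).2
  have jt1 := h.jt.t_ne_one
  have jtj := h.jt.t_ne_j
  have jtt : j * t ≠ t := fun e => h.pre.j_ne (by simpa using e)
  have e1 : c * c = 1 ∨ c * c = j * t := by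
    rcases h.sq_mem xH xt hx with e | e <;> rw [conj_mul] at e
    · exact Or.inl (by simpa using e)
    · exact Or.inr (by simpa using e.trans (h.rho_jt hj ht).symm)
  have e2 : c * c = 1 := by
    refine e1.resolve_right fun e1 => ?_
    by_cases hy : ρ⁻¹ * c * ρ⁻¹⁻¹ ∈ T
    · have e3 : Commute c (ρ * c * ρ⁻¹) := by
        simpa [mul_assoc] using (h.comm hy hc).map (MulAut.conj ρ).toMonoidHom
      have e4 := h.sq_mem (mul_mem (Tr_le _ _ hc) xH) (ct.mul_left xt) fun e => hx ((mul_mem_cancel_left hc).1 e)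
      rw [← sq, e3.mul_pow, sq, sq, conj_mul, e1, h.rho_jt hj ht, mul_assoc, h.tj.eq, ← mul_assoc,
        h.pre.j_mul_j, one_mul] at e4
      exact e4.elim h.t_ne_one h.t_ne_j
    · rcases h.sq_mem yH yt hy with e | e <;> rw [conj_mul, e1] at e
      · exact jt1 (conj_eq_one_iff.1 e)
      · exact jtt (((congrArg (fun x => ρ * x * ρ⁻¹) e).trans hj).symm.trans (by group)).symm
  rcases h.mem_V hc e2 with rfl | rfl | rfl | rfl
  · exact hx (by simp)
  · exact hx (hj ▸ h.t_mem)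
  · exact hx (ht ▸ h.jt.t_mem)
  · exact hx ((h.rho_jt hj ht).symm ▸ h.j_mem)

variable [Finite G]

theorem rho_norm : ρ ∈ Subgroup.normalizer (T : Set G) :=
  Subgroup.mem_normalizer_fintype fun _ hc => h.rho_mem hj ht hc

theorem rho_inv_mem {c : G} (hc : c ∈ T) : ρ⁻¹ * c * ρ ∈ T := by
  simpa using (Subgroup.mem_normalizer_iff.1 (inv_mem (h.rho_norm hj ht)) c).1 hc

theorem sq_eq_one {c : G} (hH : c ∈ Hl φ ψ) (hc : Commute c t) (hT : c ∉ T) : c * c = 1 := by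
  refine (h.sq_mem hH hc hT).resolve_right fun e => ?_
  have := h.sq_mem (h.conj_H (fun y a b => (h.rho_comm hj ht a b).1) hH hc)
    (h.rho_comm hj ht (Hl.comm_j hH) hc).2 fun e => hT (by simpa [mul_assoc] using h.rho_inv_mem hj ht e)
  rw [conj_mul, e, hj] at this
  exact this.elim h.t_ne_one h.t_ne_j

/-- An inner involution is fused by `ρ` to an outer one. -/
theorem exists_fuse : ∃ (A : SL(2, F)) (B : SL(2, K)) (M : GL (Fin 2) F), A * A = -1 ∧ B * B = -1 ∧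
    ActG φ (ρ * (φ A * ψ B) * ρ⁻¹) M ∧ ¬ IsSquare M.1.det := by
  by_contra! hn
  obtain ⟨W, hW⟩ := exists_anti h.pre.twoF h.tr1
  obtain ⟨W', hW'⟩ := exists_anti h.pre.twoK h.tr2
  have key : ∀ {A B}, Anti (tg A) m → Anti (tg B) m' →
      ∃ M, ActG φ (ρ * (φ A * ψ B) * ρ⁻¹) M ∧ IsSquare M.1.det := fun {A B} hA hB => by
    obtain ⟨M, -, a, -⟩ := h.conj_H (fun y a b => (h.rho_comm hj ht a b).1)
      ⟨_, _, h.pre.act_mulφ A B, h.pre.act_mulψ A B⟩ (h.anti_comm hA hB)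
    exact ⟨M, a, hn A B M (h.anti_sq hA) (h.symm.anti_sq hB) a⟩
  have := h.pre.odd_of_inv (ρ := ρ) (hj ▸ h.t_ne_j)
    (S := {x | ∃ A B, Commute (φ A) t ∧ Commute (ψ B) t ∧ x = φ A * ψ B})
    (fun x ⟨A, B, hA, hB, e⟩ => ⟨A, B, ⟨A, 1, hA, by simp, by simp⟩, ⟨1, B, by simp, hB, by simp⟩, e⟩)
    (fun x ⟨A, B, hA, hB, e⟩ => by
      obtain ⟨M, a, s⟩ := key hW hW'
      obtain ⟨M', a', s'⟩ := key (map_mul tg W A ▸ hW.mul_comm (h.comm_φ.1 hA))
        (map_mul tg W' B ▸ hW'.mul_comm (h.comm_ψ.1 hB))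
      refine h.inner (h.rho_mem hj ht (e ▸ mul_mem (h.φ_mem hA) (h.ψ_mem hB))) (M := M⁻¹ * M') ?_
        (by rw [sq_det_mul, sq_det_inv]; tauto)
      convert a.inv.mul a' using 1
      rw [e, map_mul, map_mul, mul_assoc (φ W), ← mul_assoc (φ A), (h.pre.comm A W').eq]; group)
    j ⟨-1, 1, h.tj.symm, by simp, by simp⟩
  exact h.pre.j_ne (eq_one_of_odd (k := 1) this (by rw [pow_one, sq, h.pre.j_mul_j]))

end Tv

end Cfsg.Agent.FW
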