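import Mathlib
import Cfsg.Agent.FW.Tor
import Cfsg.Agent.FW.Mat
import Cfsg.Agent.Lyons.Tools

/-!
The subgroup `O(C(U))` for a root subgroup `U` of one of the two factors of `C(j)`.
-/

set_option autoImplicit false
set_option linter.unusedSectionVars false

namespace Cfsg.Agent.FW

open Cfsg.Agent.KSG.M2 hiding dg coe_dg
open Cfsg.Agent.KSG Cfsg.Agent.RootSub Subgroup
open scoped MatrixGroups

variable {F K G : Type*} [Field F] [Field K] [Group G]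

theorem eq_one_of_odd_sq {x : G} (o : Odd (orderOf x)) (e : x * x = 1) : x = 1 :=
  eq_one_of_odd (k := 1) o (by rw [pow_one, sq, e])

theorem exists_inv_cent [Finite G] {O : Subgroup G} (hO : Odd (Nat.card O)) {s : G} (ss : s * s = 1)
    (hs : ∀ o ∈ O, s * o * s⁻¹ ∈ O) {o : G} (ho : o ∈ O) :
    ∃ x ∈ O, ∃ c ∈ O, s * x * s⁻¹ = x⁻¹ ∧ Commute c s ∧ o = x * c := by
  have si : s⁻¹ = s := inv_eq_of_mul_eq_one_left ss
  have hy : o * (s * o⁻¹ * s⁻¹) ∈ O := mul_mem ho (hs _ (inv_mem ho))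
  have hi : s * (o * (s * o⁻¹ * s⁻¹)) * s⁻¹ = (o * (s * o⁻¹ * s⁻¹))⁻¹ := by
    rw [show s * (o * (s * o⁻¹ * s⁻¹)) * s⁻¹ = s * o * (s * o⁻¹ * (s * s)⁻¹) by group, ss]
    nth_rewrite 2 [← si]; group
  generalize hyy : o * (s * o⁻¹ * s⁻¹) = y at hy hi
  obtain ⟨k, hk⟩ := Lyons.odd_orderOf hO hy
  have hx : y ^ (k + 1) * y ^ (k + 1) = y := by
    rw [← pow_add, show k + 1 + (k + 1) = orderOf y + 1 by omega, pow_succ, pow_orderOf_eq_one, one_mul]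
  have hi' : s * y ^ (k + 1) * s⁻¹ = (y ^ (k + 1))⁻¹ := by rw [← conj_pow, hi, inv_pow]
  refine ⟨_, pow_mem hy (k + 1), (y ^ (k + 1))⁻¹ * o, mul_mem (inv_mem (pow_mem hy _)) ho, hi', ?_, by group⟩
  generalize y ^ (k + 1) = x at hx hi'
  have e1 : s * x⁻¹ = x * s := by rw [← hi', ← mul_assoc, ← mul_assoc, ss, one_mul, si]
  have e2 : o * s = x * x * s * o := by
    rw [hx, ← hyy, si, mul_assoc o, mul_assoc _ s s, ss]; group
  rw [Commute, SemiconjBy, mul_assoc, e2, ← mul_assoc s, e1]; group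

theorem odd_xx [Fintype F] (h2 : (2 : F) ≠ 0) (s : F) : Odd (orderOf (xx s)) :=
  (odd_card h2).of_dvd_nat (orderOf_dvd_of_pow_eq_one (by
    rw [xx_pow, FiniteField.cast_card_eq_zero, zero_mul, xx_zero]))

theorem eq_xx {M : GL (Fin 2) F} (h0 : M.1 1 0 = 0) (h1 : M.1 0 0 = M.1 1 1) :
    ∃ (s a : F), (tg (xx s)).1 = a • M.1 := by
  have hd := det_ne M
  rw [Matrix.det_fin_two, h0, ← h1, mul_zero, sub_zero] at hd
  have := left_ne_zero_of_mul hd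
  exact ⟨M.1 0 1 / M.1 0 0, (M.1 0 0)⁻¹, by apply ext2 <;> simp [coe_tg, h0, ← h1, this, div_eq_inv_mul]⟩

/-- The centraliser of the root subgroup. -/
def CU (φ : SL(2, F) →* G) : Subgroup G := centralizer (Set.range fun s => φ (xx s))

/-- `O(C(U))`. -/
def Oc (φ : SL(2, F) →* G) : Subgroup G := Lyons.oc (CU φ)

variable {φ : SL(2, F) →* G} {ψ : SL(2, K) →* G}

theorem mem_CU {c : G} : c ∈ CU φ ↔ ∀ s, Commute c (φ (xx s)) :=
  ⟨fun h s => (h _ ⟨s, rfl⟩).symm, fun h _ ⟨s, e⟩ => e ▸ (h s).symm⟩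

theorem xx_comm (s r : F) : Commute (φ (xx s)) (φ (xx r)) := by
  rw [Commute, SemiconjBy, ← map_mul, ← map_mul, xx_mul, xx_mul, add_comm]

theorem φ_xx_neg (s : F) : φ (xx (-s)) = (φ (xx s))⁻¹ := by rw [← xx_inv, map_inv]

theorem φ_xx_add (s r : F) : φ (xx (s + r)) = φ (xx s) * φ (xx r) := by rw [← xx_mul, map_mul]

variable [Finite G]

theorem Oc.comm {o : G} (ho : o ∈ Oc φ) (s : F) : Commute o (φ (xx s)) := mem_CU.1 (Lyons.oc_le _ ho) s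

theorem Oc.odd {o : G} (ho : o ∈ Oc φ) : Odd (orderOf o) := Lyons.odd_orderOf (Lyons.odd_oc _) ho

theorem Oc.conj {g : G} (hg : ∀ s, ∃ s', g⁻¹ * φ (xx s) * g = φ (xx s')) {o : G} (ho : o ∈ Oc φ) :
    g * o * g⁻¹ ∈ Oc φ := by
  refine (mem_normalizer_iff.1 (Lyons.norm_le_norm_oc _ (mem_normalizer_fintype fun c hc => ?_)) o).1 ho
  refine mem_CU.2 fun s => ?_
  obtain ⟨s', e⟩ := hg s
  simpa [← e, mul_assoc] using (mem_CU.1 hc s').map (MulAut.conj g).toMonoidHom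

theorem Oc.conj_of_comm {g : G} (hg : ∀ s, Commute g (φ (xx s))) {o : G} (ho : o ∈ Oc φ) : g * o * g⁻¹ ∈ Oc φ :=
  Oc.conj (fun s => ⟨s, by rw [mul_assoc, ← (hg s).eq, inv_mul_cancel_left]⟩) ho

theorem Oc.conj_dm {g : G} {r : Fˣ} (hg : ActG φ g (dm r)) {o : G} (ho : o ∈ Oc φ) : g * o * g⁻¹ ∈ Oc φ :=
  Oc.conj (fun s => ⟨_, by have := hg.inv (xx s); rwa [inv_inv, ← map_inv, cg_dm_xx] at this⟩) ho

omit [Finite G] in
theorem ActG.inv_xx {t : G} (a : ActG φ t (dm (-1))) (s : F) : t * φ (xx s) * t⁻¹ = (φ (xx s))⁻¹ := by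
  rw [a, cg_dm_xx, ← φ_xx_neg]; simp

namespace Pre

variable (h : Pre φ ψ)
include h

local notation "j" => φ (-1)

omit [Finite G] in
theorem cent_U {c : G} (hj : Commute c j) (hc : ∀ s, Commute c (φ (xx s))) :
    ∃ s, ActG φ c (tg (xx s)) := by
  obtain ⟨M, σ, -, -, a, -⟩ := h.act c hj
  obtain ⟨rfl, h0, h1⟩ := fix_xx fun s => a.of_comm h.φ_inj (hc s)
  obtain ⟨s, r, e⟩ := eq_xx h0 h1
  exact ⟨s, (actS_one.1 a).congr e⟩

omit [Finite G] in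
theorem cent_R {c : G} (hj : Commute c j) (hc : ∀ s, Commute c (φ (xx s))) (hc' : ∀ s, Commute c (ψ (xx s))) :
    ∃ s s', c = φ (xx s) * ψ (xx s') ∨ c = j * (φ (xx s) * ψ (xx s')) := by
  obtain ⟨s, a⟩ := h.cent_U hj hc
  obtain ⟨s', a'⟩ := h.symm.cent_U (h.neg ▸ hj) hc'
  refine ⟨s, s', ?_⟩
  rcases h.ker _ ((a.mul (h.act_mulφ (xx s) (xx s')).inv).of_isScal (by simpa using isScal_one))
    ((a'.mul (h.act_mulψ (xx s) (xx s')).inv).of_isScal (by simpa using isScal_one)) with e | e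
  · exact Or.inl (mul_inv_eq_one.1 e)
  · exact Or.inr (mul_inv_eq_iff_eq_mul.1 e)

omit [Finite G] in
theorem invol_CU {z : G} (hj : Commute z j) (hc : ∀ s, Commute z (φ (xx s))) (e : z * z = 1) : z = 1 ∨ z = j := by
  by_contra! hn
  obtain ⟨s, a⟩ := h.cent_U hj hc
  obtain ⟨-, M', -, b⟩ := h.actG_of_two hj (k := 1) (by rw [pow_one, sq, e])
  have := h.symm.trace_eq e hn.1 (h.neg ▸ hn.2) b a
  simp [coe_tg] at this
  exact h.twoF (by linear_combination this)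

omit [Finite G] in
theorem j_CU : j ∈ CU φ := mem_CU.2 fun _ => (h.comm_jφ _).symm

theorem decomp {g : G} (hg : g ∈ CU φ) : ∃ o ∈ Oc φ, ∃ c, Commute c j ∧ g = o * c := by
  have hi : IsIsolated (⟨j, h.j_CU⟩ : CU φ) := fun x hx => Subtype.ext (by
    refine (h.invol_CU (z := x * j * (x : G)⁻¹) (hx.map (CU φ).subtype).symm
      (mem_CU.1 (mul_mem (mul_mem x.2 h.j_CU) (inv_mem x.2))) (by rw [conj_mul, h.j_mul_j]; simp)).resolve_left ?_
    simpa using h.j_ne)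
  obtain ⟨o, ho, c, hc, e⟩ := Inv.exists_oddCore_mul_of_isIsolated hi
    ⟨1, Subtype.ext (by simpa [sq] using h.j_mul_j)⟩ ⟨g, hg⟩
  exact ⟨o, ⟨o, ho, rfl⟩, c, congrArg Subtype.val (mem_centralizer_singleton_iff.1 hc), congrArg Subtype.val e⟩

theorem conj_j {o : G} (ho : o ∈ Oc φ) : j * o * j⁻¹ ∈ Oc φ := Oc.conj_of_comm (mem_CU.1 h.j_CU) ho

theorem mem_Oc {u : G} (hu : ∀ s, Commute u (φ (xx s))) (ho : Odd (orderOf u)) (e : j * u * j⁻¹ = u⁻¹) :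
    u ∈ Oc φ := by
  obtain ⟨o, hO, c, hc, rfl⟩ := h.decomp (mem_CU.2 hu)
  refine Lyons.mem_of_odd_of_pow ho (k := 1) ?_
  have : (o * c) ^ 2 ^ 1 = (j * o * j⁻¹ * o⁻¹)⁻¹ := by
    rw [show j * o * j⁻¹ * o⁻¹ = j * o * (j⁻¹ * c) * (o * c)⁻¹ by group, ← hc.inv_right.eq, ← mul_assoc,
      mul_assoc j, e, pow_one, sq]; group
  exact this ▸ inv_mem (mul_mem (h.conj_j hO) (inv_mem hO))

variable [Fintype F] [Fintype K]

omit [Finite G] [Fintype K] in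
theorem odd_xx (s : F) : Odd (orderOf (φ (xx s))) := by
  rw [orderOf_injective φ h.φ_inj]; exact FW.odd_xx h.twoF s

omit [Fintype K] in
theorem xx_mem (s : F) : φ (xx s) ∈ Oc φ := by
  refine Lyons.le_oc (K := zpowers (φ (xx s))) (zpowers_le.2 (mem_CU.2 (xx_comm s))) (fun c hc => ?_)
    (by rw [Nat.card_zpowers]; exact h.odd_xx s) (mem_zpowers _)
  refine mem_normalizer_fintype fun x hx => ?_
  obtain ⟨k, rfl⟩ := mem_zpowers_iff.1 hx
  rw [((mem_CU.1 hc s).zpow_right k).eq, mul_inv_cancel_right]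
  exact hx

theorem cent_O {B : SL(2, K)} (hB : ψ B ∈ Oc φ) : B = 1 := by
  have : ((Oc φ).comap ψ).Normal := ⟨fun x hx y => by
    rw [mem_comap, map_mul, map_mul, map_inv]
    exact Oc.conj_of_comm (fun s => (h.comm _ y).symm) hx⟩
  have e := odd_normal_eq_bot (odd_card h.twoK) ((Oc φ).comap ψ)
    ((Lyons.odd_oc (CU φ)).of_dvd_nat (card_comap_dvd_of_injective _ _ h.ψ_inj))
  exact mem_bot.1 (e ▸ hB)

theorem eq_xx_of_comm {o : G} (ho : o ∈ Oc φ) (hj : Commute o j) : ∃ s, o = φ (xx s) := by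
  obtain ⟨s, a⟩ := h.cent_U hj (Oc.comm ho)
  have ho' := mul_mem (inv_mem (h.xx_mem s)) ho
  have hj' := (h.comm_jφ (xx s)).inv_left.mul_left hj
  obtain ⟨-, -, M', σ', -, b, -⟩ := h.act _ hj'
  rcases h.ker _ (((actG_self (xx s)).inv.mul a).of_isScal (by simpa using isScal_one)) (fun B => by
    have := h.cent_O (B := cg M' (fm σ' B) * B⁻¹) (by
      rw [map_mul, ← b, map_inv, mul_assoc, mul_assoc, ← mul_assoc (ψ B)]
      exact mul_mem ho' (Oc.conj_of_comm (fun s => (h.comm _ B).symm) (inv_mem ho')))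
    have e := b B
    rwa [mul_inv_eq_one.1 this, mul_inv_eq_iff_eq_mul] at e) with e | e
  · exact ⟨s, (inv_mul_eq_one.1 e).symm⟩
  · exact (h.j_ne (eq_one_of_odd_sq (e ▸ Oc.odd ho') h.j_mul_j)).elim

theorem inv_mod {o : G} (ho : o ∈ Oc φ) : ∃ s, j * o * j⁻¹ = φ (xx s) * o⁻¹ := by
  obtain ⟨x, hx, c, hc, e1, e2, rfl⟩ := exists_inv_cent (Lyons.odd_oc _) h.j_mul_j (fun _ => h.conj_j) ho
  obtain ⟨s, rfl⟩ := h.eq_xx_of_comm hc e2
  refine ⟨s + s, ?_⟩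
  rw [← conj_mul, e1, ← e2.eq, mul_inv_cancel_right, (Oc.comm hx s).inv_left.eq, φ_xx_add]; group

theorem comm_mod {o o' : G} (ho : o ∈ Oc φ) (ho' : o' ∈ Oc φ) : ∃ s, o * o' = o' * o * φ (xx s) := by
  obtain ⟨s, e⟩ := h.inv_mod (inv_mem ho)
  obtain ⟨s', e'⟩ := h.inv_mod (inv_mem ho')
  obtain ⟨s'', e''⟩ := h.inv_mod (mul_mem (inv_mem ho) (inv_mem ho'))
  rw [← conj_mul, e, e', inv_inv, inv_inv, mul_assoc, ← mul_assoc o, (Oc.comm ho s').eq, mul_inv_rev, inv_inv,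
    inv_inv, ← (Oc.comm (mul_mem ho' ho) s'').eq, ← mul_assoc, ← mul_assoc, ← φ_xx_add, mul_assoc,
    ← (Oc.comm (mul_mem ho ho') _).eq] at e''
  exact ⟨s'' + -(s + s'), by rw [φ_xx_add, φ_xx_neg, ← mul_assoc, ← e'']; group⟩

variable {t : G} (a : ActG φ t (dm (-1)))
include a

omit [Finite G] [Fintype K] in
theorem xx_eq_one {s : F} (e : Commute (φ (xx s)) t) : φ (xx s) = 1 := by
  have := a.inv_xx s
  rw [← e.eq, mul_inv_cancel_right] at this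
  exact eq_one_of_odd_sq (h.odd_xx s) (mul_eq_one_iff_eq_inv.2 this)

theorem inv_of_comm {b : G} (hb : b ∈ Oc φ) (e : Commute b t) : j * b * j⁻¹ = b⁻¹ := by
  obtain ⟨s, e1⟩ := h.inv_mod hb
  rw [e1, h.xx_eq_one a (s := s), one_mul]
  rw [← mul_inv_eq_iff_eq_mul, inv_inv] at e1
  exact e1 ▸ ((a.comm_j.symm.mul_left e).mul_left a.comm_j.symm.inv_left).mul_left e

theorem comm_of_comm {b b' : G} (hb : b ∈ Oc φ) (e : Commute b t) (hb' : b' ∈ Oc φ) (e' : Commute b' t) :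
    Commute b b' := by
  obtain ⟨s, e1⟩ := h.comm_mod hb hb'
  rw [Commute, SemiconjBy, e1, h.xx_eq_one a (s := s), mul_one]
  rw [← inv_mul_eq_iff_eq_mul] at e1
  exact e1 ▸ (e'.mul_left e).inv_left.mul_left (e.mul_left e')

theorem dec3 (tt : t * t = 1) {o : G} (ho : o ∈ Oc φ) :
    ∃ s, ∃ b ∈ Oc φ, ∃ c ∈ Oc φ, Commute b (j * t) ∧ Commute c t ∧ o = φ (xx s) * b * c := by
  obtain ⟨x, hx, c, hc, e1, e2, rfl⟩ := exists_inv_cent (Lyons.odd_oc _) tt (fun _ => Oc.conj_dm a) ho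
  have a' : ActG φ (j * t) (dm (-1)) := by simpa using (actG_of_comm fun A => (h.comm_jφ A).symm).mul a
  obtain ⟨y, hy, b, hb, e3, e4, rfl⟩ := exists_inv_cent (Lyons.odd_oc _) (s := j * t)
    (by rw [mul_assoc, ← mul_assoc t, a.comm_j.eq, mul_assoc, tt, mul_one, h.j_mul_j]) (fun _ => Oc.conj_dm a') hx
  obtain ⟨s, e5⟩ := h.inv_mod (inv_mem (mul_mem hy hb))
  have e6 : y⁻¹ * b = φ (xx s) * (y * b) := by
    rw [inv_inv, ← e1] at e5
    rw [← e5, ← e3, show j * t * y * (j * t)⁻¹ * b = j * t * y * (b * (j * t)⁻¹) by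
      rw [e4.inv_right.eq]; group]; group
  have e7 : y * y = φ (xx (-s)) := by
    rw [← mul_assoc, mul_left_inj, ← (Oc.comm hy s).eq, inv_eq_iff_mul_eq_one, ← mul_assoc] at e6
    rw [φ_xx_neg, eq_inv_iff_mul_eq_one, e6]
  have e8 : Commute y j := (Lyons.mem_cent.1 (Lyons.mem_of_odd_of_pow (Oc.odd hy) (k := 1)
    (Lyons.mem_cent.2 (by rw [pow_one, sq, e7]; exact (h.comm_jφ _).symm)))).symm
  obtain ⟨r, rfl⟩ := h.eq_xx_of_comm hy e8
  exact ⟨r, b, hb, c, hc, e4, e2, rfl⟩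

end Pre

end Cfsg.Agent.FW
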