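import Mathlib
import Cfsg.Agent.FW.Rad
import Cfsg.Agent.FW.Hex

/-!
From a commuting pair of root subgroups at 30 degrees to a hexagon datum.
-/

set_option autoImplicit false
set_option linter.unusedSectionVars false

namespace Cfsg.Agent.FW

open Cfsg.Agent.KSG.M2 hiding dg coe_dg
open Cfsg.Agent.KSG Cfsg.Agent.RootSub Subgroup
open Cfsg.Agent.Comm.Hex (dg coe_dg coe_ww)
open scoped MatrixGroups

variable {F K G : Type*} [Field F] [Field K] [Group G]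

theorem ww_mul_self : (ww : SL(2, F)) * ww = -1 := Subtype.ext (by
  rw [Matrix.SpecialLinearGroup.coe_mul, coe_ww]; ext i j; fin_cases i <;> fin_cases j <;> simp)

theorem cg_ww : cg (dm (-1)) (ww : SL(2, F)) = ww⁻¹ := by
  rw [inv_eq_of_mul_eq_one_right (show (ww : SL(2, F)) * -ww = 1 by rw [mul_neg, ww_mul_self, neg_neg]), cg_eq_iff,
    Matrix.SpecialLinearGroup.coe_neg, neg_mul, ← coe_tg, anti_ww, neg_neg]

theorem xx_yy_comm {f : F} (h : Commute (xx f) (yy 1)) : f = 0 := by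
  have := congrArg (fun A : SL(2, F) => A.1 0 0) h.eq
  simpa [mul_apply2] using this

theorem dm_comm (r s : Fˣ) : Commute (dm r) (dm s) := (Commute.all r s).map dm

variable {φ : SL(2, F) →* G} {ψ : SL(2, K) →* G}

theorem Pre.cjh_left [Fintype F] (h : Pre φ ψ) {c : G} (hc : Commute c (φ (-1))) : Pre (FW.cjh c φ) ψ := by
  obtain ⟨M, σ, -, -, a, -⟩ := h.act c hc
  exact a.cjh_eq ▸ h.re M σ

theorem cjh_of_comm {c : G} (h : ∀ A, Commute c (φ A)) : cjh c φ = φ :=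
  MonoidHom.ext fun A => by rw [cjh_apply, (h A).eq, mul_inv_cancel_right]

theorem comm_neg (A : SL(2, F)) : Commute (φ A) (φ (-1)) := (actG_self A).comm_j

theorem ActG.diag (h2 : (2 : F) ≠ 0) {c : G} {M : GL (Fin 2) F} (a : ActG φ c M) (e : Commute M (dm (-1))) :
    ∃ r, ActG φ c (dm r) := by
  obtain ⟨r, b, e⟩ := diag_of_comm h2 e
  exact ⟨r, a.congr e⟩

theorem actG_dg (c : Fˣ) : ActG φ (φ (dg c)) (dm (c * c)) := (actG_self _).congr (dg_eq c)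

theorem ActG.conj {c g : G} {M : GL (Fin 2) F} (a : ActG φ (g⁻¹ * c * g) M) : ActG (FW.cjh g φ) c M := by
  simpa [mul_assoc] using a.cjh g

variable (φ ψ) in
/-- The configuration of the two simple roots. -/
structure Cfg : Prop where
  p3 : Pre (cjh (φ ww * ψ ww) φ) ψ
  surj : ∀ r r', ∃ c, ActG φ c (dm r) ∧ ActG ψ c (dm r')
  φd : ∀ c, ∃ r, ActG ψ (φ (dg c)) (dm r)
  ψd : ∀ c, ∃ r, ActG φ (ψ (dg c)) (dm r)
  φn : ActG ψ (φ (-1)) (dm (-1))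
  ψn : ActG φ (ψ (-1)) (dm (-1))
  ls : ∀ s t, Commute (X0 ψ s) (X1 φ ψ t)

namespace Cfg

variable (h : Cfg φ ψ)
include h

local notation "m" => ψ ww
local notation "n" => φ ww
local notation "j" => ψ (-1)
local notation "v" => φ (-1)
local notation "φ₁" => cjh (ψ ww) φ
local notation "φ₃" => cjh (φ ww * ψ ww) φ
local notation "ψ₂" => cjh (ψ ww * φ ww) ψ
local notation "ψ₄" => cjh (φ ww) ψ
local notation "T" => Tr φ ψ (dm (-1)) (dm (-1))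

omit h in
variable (φ ψ) in
theorem X3_eq (t : F) : X3 φ ψ t = φ₃ (xx t) := by simp only [X3, X1, cjh_apply]; group

omit h in
variable (φ ψ) in
theorem X2_eq (s : K) : X2 φ ψ s = ψ₂ (xx s) := by simp only [X2, X4, cjh_apply]; group

theorem jn : j * n * j⁻¹ = n⁻¹ := by rw [h.ψn, cg_ww, map_inv]

theorem vm : v * m * v⁻¹ = m⁻¹ := by rw [h.φn, cg_ww, map_inv]

theorem jv : Commute j v := h.ψn.comm_j

theorem ψ₂_eq : cjh (n * m)⁻¹ ψ = ψ₂ := by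
  have : m * n = (n * m)⁻¹ * j := by
    rw [eq_inv_mul_iff_mul_eq, mul_assoc, ← mul_assoc m, ← map_mul, ww_mul_self, mul_inv_eq_iff_eq_mul.1 h.jn]; group
  rw [this, ← cjh_cjh, cjh_of_comm fun A => (comm_neg A).symm]

theorem p5 : Pre φ ψ₂ := by
  have := h.p3.cjh (n * m)⁻¹
  rwa [cjh_cjh, inv_mul_cancel, cjh_one, h.ψ₂_eq] at this

theorem c34 (s : K) (t : F) : Commute (X4 φ ψ s) (X3 φ ψ t) := (h.ls s t).map (MulAut.conj n).toMonoidHom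

theorem c23 (s : K) (t : F) : Commute (X2 φ ψ s) (X3 φ ψ t) := by
  have := (h.c34 s t).map (MulAut.conj m).toMonoidHom
  rwa [show (MulAut.conj m).toMonoidHom (X3 φ ψ t) = X3 φ ψ t from by
    rw [X3_eq]; exact mul_inv_eq_iff_eq_mul.2 (h.p3.comm _ _).symm.eq] at this

theorem c12 (t : F) (s : K) : Commute (X1 φ ψ t) (X2 φ ψ s) := by
  have := (h.c23 s t).symm.map (MulAut.conj n⁻¹).toMonoidHom
  rw [show (MulAut.conj n⁻¹).toMonoidHom (X2 φ ψ s) = X2 φ ψ s from by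
    rw [X2_eq]; exact mul_inv_eq_iff_eq_mul.2 (h.p5.comm _ _).inv_left.eq] at this
  simpa [X3, mul_assoc] using this

theorem c45 (s : K) (t : F) : Commute (X4 φ ψ s) (X5 φ t) := by
  simpa [X1, X2, X5, mul_assoc] using (h.c12 t s).symm.map (MulAut.conj m⁻¹).toMonoidHom

theorem symm : Cfg ψ φ := ⟨h.p5.symm, fun r r' => (h.surj r' r).imp fun _ => And.symm, h.ψd, h.φd, h.ψn, h.φn,
  fun s t => (h.c45 t s).symm⟩

theorem neg3 : φ₃ (-1) = j := h.p3.neg.symm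

theorem mvm : m⁻¹ * v * m = j * v := by
  rw [← h.vm, inv_mul_cancel_right, mul_assoc, ← map_mul, ww_mul_self, h.jv.eq]

theorem neg1 : φ₁ (-1) = j * v := by
  rw [cjh_apply, ← h.vm, ← mul_assoc, ← mul_assoc, mul_assoc m, h.p5.j_mul_j, mul_one, ← map_mul, ww_mul_self,
    h.p5.j_inv]

theorem act_jv : ActG φ (j * v) (dm (-1)) := by
  simpa using h.ψn.mul (actG_of_comm fun A => (comm_neg A).symm)

theorem v3 : ActG φ₃ v (dm (-1)) := ActG.conj (by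
  rw [show (n * m)⁻¹ * v * (n * m) = m⁻¹ * (n⁻¹ * v * n) * m by group, (comm_neg ww).inv_left.eq,
    inv_mul_cancel_right, h.mvm]
  exact h.act_jv)

theorem v1 : ActG φ₁ v (dm (-1)) := ActG.conj (h.mvm ▸ h.act_jv)

theorem j1 : ActG φ₁ j (dm (-1)) := ActG.conj (by
  rw [(comm_neg ww).inv_left.eq, inv_mul_cancel_right]; exact h.ψn)

theorem jv3 : ActG φ₃ (j * v) (dm (-1)) := by
  simpa using (actG_of_comm fun A => (h.neg3 ▸ comm_neg (φ := φ₃) A).symm).mul h.v3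

theorem mem_T {c : G} : c ∈ T ↔ ∃ r r', ActG φ c (dm r) ∧ ActG ψ c (dm r') :=
  ⟨fun ⟨_, _, a, b, e, e'⟩ => by
    obtain ⟨r, a⟩ := a.diag h.p3.twoF e
    obtain ⟨r', b⟩ := b.diag h.p3.twoK e'
    exact ⟨r, r', a, b⟩, fun ⟨r, r', a, b⟩ => ⟨_, _, a, b, dm_comm _ _, dm_comm _ _⟩⟩

theorem conj_n {c : G} (hc : c ∈ T) : n⁻¹ * c * n ∈ T := by
  obtain ⟨M, -, a, -, e, -⟩ := id hc
  obtain ⟨d, hd⟩ := eq_dg h.p3.twoF (A := cg M⁻¹ ww⁻¹ * ww) (by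
    rw [map_mul, tg_cg, map_inv]
    exact ((anti_ww.inv.comm_mul e.inv_left).mul_comm e.inv_left.inv_left).mul anti_ww)
  obtain ⟨r, b⟩ := h.φd d
  have : n⁻¹ * c * n = c * φ (dg d) := by rw [← hd, map_mul, ← a.inv, map_inv]; group
  exact this ▸ mul_mem hc (h.mem_T.2 ⟨_, r, actG_dg d, b⟩)

theorem conj_m {c : G} (hc : c ∈ T) : m⁻¹ * c * m ∈ T := (Tr_symm _ _).le (h.symm.conj_n ((Tr_symm _ _).ge hc))

theorem diag3 {c : G} (hc : c ∈ T) : ∃ r, ActG φ₃ c (dm r) := by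
  obtain ⟨r, -, a, -⟩ := h.mem_T.1 (h.conj_m (h.conj_n hc))
  exact ⟨r, ActG.conj (by simpa [mul_assoc] using a)⟩

theorem faith {c : G} (a : ∀ A, Commute c (φ A)) (b : ∀ B, Commute c (ψ B)) : c = 1 := by
  refine (h.p3.ker c (fun A => (((a _).mul_right (b _)).mul_right (a A)).mul_right
    ((a _).mul_right (b _)).inv_right) b).resolve_right fun e => ?_
  rw [h.neg3] at e
  exact not_scal h.p3.twoF trace_dm (h.ψn.isScal h.p5.φ_inj (e ▸ a))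

theorem uniq {c c' : G} {M : GL (Fin 2) F} {M' : GL (Fin 2) K} (a : ActG φ c M) (b : ActG ψ c M')
    (a' : ActG φ c' M) (b' : ActG ψ c' M') : c = c' :=
  mul_inv_eq_one.1 (h.faith ((a.mul a'.inv).of_isScal (by simpa using isScal_one))
    ((b.mul b'.inv).of_isScal (by simpa using isScal_one)))

/-- The torus. -/
noncomputable def τ : Kˣ × Fˣ →* G := MonoidHom.mk' (fun c => (h.surj c.2 c.1).choose) fun c d =>
  h.uniq (h.surj _ _).choose_spec.1 (h.surj _ _).choose_spec.2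
    (by simpa using (h.surj c.2 c.1).choose_spec.1.mul (h.surj d.2 d.1).choose_spec.1)
    (by simpa using (h.surj c.2 c.1).choose_spec.2.mul (h.surj d.2 d.1).choose_spec.2)

theorem τφ (c : Kˣ × Fˣ) : ActG φ (h.τ c) (dm c.2) := (h.surj c.2 c.1).choose_spec.1

theorem τψ (c : Kˣ × Fˣ) : ActG ψ (h.τ c) (dm c.1) := (h.surj c.2 c.1).choose_spec.2

variable [Fintype F] [Fintype K]

theorem p1 : Pre φ₁ ψ₄ := by
  have h1 := (h.p3.cjh n⁻¹).symm.cjh_left (c := n * n) (by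
    rw [← map_mul, ww_mul_self]
    exact ((comm_neg ww).symm.inv_right.mul_right h.jv.symm).mul_right (comm_neg ww).symm.inv_right.inv_right)
  rw [cjh_cjh, cjh_cjh, mul_inv_cancel_right, inv_mul_cancel_left] at h1
  exact h1.symm

variable [Finite G]

theorem X0_mem (s : K) : X0 ψ s ∈ Oc φ₁ :=
  h.p1.mem_Oc (h.ls s) (h.p3.symm.odd_xx s) (by
    rw [h.neg1, h.jv.eq]; exact h.symm.act_jv.inv_xx s)

theorem X2_mem1 (s : K) : X2 φ ψ s ∈ Oc φ₁ :=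
  h.p1.mem_Oc (fun t => (h.c12 t s).symm) (X2_eq φ ψ s ▸ h.p5.symm.odd_xx s) (by
    rw [h.neg1, h.jv.eq, X2_eq]; exact h.symm.jv3.inv_xx s)

theorem X2_mem3 (s : K) : X2 φ ψ s ∈ Oc φ₃ :=
  h.p3.mem_Oc (fun t => X3_eq φ ψ t ▸ h.c23 s t) (X2_eq φ ψ s ▸ h.p5.symm.odd_xx s) (by
    rw [h.neg3, X2_eq]; exact h.symm.v3.inv_xx s)

theorem X4_mem3 (s : K) : X4 φ ψ s ∈ Oc φ₃ :=
  h.p3.mem_Oc (fun t => X3_eq φ ψ t ▸ h.c34 s t) (h.p1.symm.odd_xx s) (by rw [h.neg3]; exact h.symm.v1.inv_xx s)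

theorem X0_conj (s : K) {o : G} (ho : o ∈ Oc φ₃) : X0 ψ s * o * (X0 ψ s)⁻¹ ∈ Oc φ₃ :=
  Oc.conj_of_comm (fun _ => (h.p3.comm _ _).symm) ho

theorem c02 (s u : K) : ∃ a, X0 ψ s * X2 φ ψ u * (X0 ψ s)⁻¹ = X2 φ ψ u * X1 φ ψ a := by
  obtain ⟨a, e⟩ := h.p1.comm_mod (h.X0_mem s) (h.X2_mem1 u)
  exact ⟨a, by rw [e, mul_assoc _ (X0 ψ s), show X0 ψ s * φ₁ (xx a) = X1 φ ψ a * X0 ψ s from (h.ls s a).eq]; group⟩

theorem dich : (∀ t u, Commute (X1 φ ψ t) (X3 φ ψ u)) ∨ ∀ t u, Commute (X1 ψ φ t) (X3 ψ φ u) := by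
  refine or_iff_not_imp_right.2 fun hn => ?_
  have : ∃ a, a ≠ 0 ∧ X1 φ ψ a ∈ Oc φ₃ := by
    by_contra! h0
    refine hn fun t u => ?_
    obtain ⟨a, e⟩ := h.c02 t u
    have ha : X1 φ ψ a ∈ Oc φ₃ := by
      rw [← inv_mul_eq_iff_eq_mul] at e
      exact e ▸ mul_mem (inv_mem (h.X2_mem3 u)) (h.X0_conj t (h.X2_mem3 u))
    obtain rfl : a = 0 := by by_contra h1; exact h0 a h1 ha
    rw [X1, xx_zero, map_one, mul_one, mul_inv_cancel, mul_one, mul_inv_eq_iff_eq_mul] at e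
    have := (show Commute _ _ from e).map (MulAut.conj n).toMonoidHom
    rwa [show (MulAut.conj n).toMonoidHom (X2 φ ψ u) = X2 φ ψ u from by
      rw [X2_eq]; exact mul_inv_eq_iff_eq_mul.2 (h.p5.comm _ _).eq] at this
  obtain ⟨a, ha, hO⟩ := this
  intro t u
  rcases eq_or_ne t 0 with rfl | ht
  · simp [X1, xx_zero]
  obtain ⟨c, a1, a2⟩ := h.surj (Units.mk0 (t / a) (div_ne_zero ht ha)) 1
  obtain ⟨r, a3⟩ := h.diag3 (h.mem_T.2 ⟨_, _, a1, a2⟩)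
  have a4 : ActG φ₁ c _ := ActG.conj (by
    rwa [(a2.of_isScal (by simpa using isScal_one) ww).symm.inv_left.eq, inv_mul_cancel_right])
  have := Oc.comm (Oc.conj_dm a3 hO) u
  rwa [show c * X1 φ ψ a * c⁻¹ = _ from a4 (xx a), cg_dm_xx, Units.val_mk0, div_mul_cancel₀ _ ha, ← X3_eq] at this

variable (ll : ∀ t u, Commute (X1 φ ψ t) (X3 φ ψ u))
include ll

theorem c35 (t u : F) : Commute (X5 φ t) (X3 φ ψ u) := by
  have := (ll t u).map (MulAut.conj m⁻¹).toMonoidHom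
  rw [show (MulAut.conj m⁻¹).toMonoidHom (X3 φ ψ u) = X3 φ ψ u from by
    rw [X3_eq]; exact mul_inv_eq_iff_eq_mul.2 (h.p3.comm _ _).symm.inv_left.eq] at this
  simpa [X1, X5, mul_assoc] using this

theorem X1_mem (t : F) : X1 φ ψ t ∈ Oc φ₃ :=
  h.p3.mem_Oc (fun u => X3_eq φ ψ u ▸ ll t u) (h.p1.odd_xx t) (by rw [h.neg3]; exact h.j1.inv_xx t)

theorem X5_mem (t : F) : X5 φ t ∈ Oc φ₃ :=
  h.p3.mem_Oc (fun u => X3_eq φ ψ u ▸ h.c35 ll t u) (h.p5.odd_xx t) (by rw [h.neg3]; exact h.ψn.inv_xx t)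

theorem X3_mem (t : F) : X3 φ ψ t ∈ Oc φ₁ :=
  h.p1.mem_Oc (fun u => (ll u t).symm) (X3_eq φ ψ t ▸ h.p3.odd_xx t) (by rw [h.neg1, X3_eq]; exact h.jv3.inv_xx t)

theorem X5_zero {f : F} (e : ∀ t, Commute (X5 φ f) (X1 φ ψ t)) : f = 0 := by
  have h1 : X5 φ f ∈ Oc φ₁ := h.p1.mem_Oc e (h.p5.odd_xx f) (by rw [h.neg1]; exact h.act_jv.inv_xx f)
  have e1 : φ (yy 1) = n⁻¹ * X5 φ (-1) * n := by
    rw [X5, ← neg_neg (1 : F), neg_neg, ← ww_conj_yy, map_mul, map_mul, map_inv]; group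
  have h2 : φ (yy 1) ∈ Oc φ₁ := h.p1.mem_Oc (fun t => by
      simpa [e1, X3, X1, cjh_apply, mul_assoc] using (h.c35 ll (-1) t).map (MulAut.conj n⁻¹).toMonoidHom)
    (by
      have := orderOf_injective (MulAut.conj n⁻¹).toMonoidHom (MulAut.conj _).injective (X5 φ (-1))
      rw [e1, show n⁻¹ * X5 φ (-1) * n = (MulAut.conj n⁻¹).toMonoidHom (X5 φ (-1)) by simp, this]
      exact h.p5.odd_xx (-1))
    (by rw [h.neg1, h.act_jv, cg_dm_yy, ← map_inv, yy_inv]; simp)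
  exact xx_yy_comm (h.p5.φ_inj (by
    simpa only [map_mul, X5] using (h.p1.comm_of_comm h.v1 h1 (comm_neg _) h2 (comm_neg _)).eq))

theorem dec {o : G} (ho : o ∈ Oc φ₃) :
    ∃ d b e f c, o = X3 φ ψ d * (X1 φ ψ b * X4 φ ψ e) * (X5 φ f * X2 φ ψ c) := by
  obtain ⟨d, x, hx, y, hy, ex, ey, rfl⟩ := h.p3.dec3 h.v3 h.p5.j_mul_j ho
  rw [h.neg3] at ex
  obtain ⟨b, e, e1⟩ := h.p1.cent_R (h.neg1 ▸ ex)
    (fun t => h.p3.comm_of_comm h.jv3 hx ex (h.X1_mem ll t) (h.neg1 ▸ comm_neg (φ := φ₁) _))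
    (fun s => h.p3.comm_of_comm h.jv3 hx ex (h.X4_mem3 s) (h.neg1 ▸ h.p1.comm_jψ _))
  obtain ⟨f, c, e2⟩ := h.p5.cent_R ey
    (fun t => h.p3.comm_of_comm h.v3 hy ey (h.X5_mem ll t) (comm_neg _))
    (fun s => h.p3.comm_of_comm h.v3 hy ey (X2_eq φ ψ s ▸ h.X2_mem3 s) (h.p5.comm_jψ _))
  refine ⟨d, b, e, f, c, ?_⟩
  rw [e1.resolve_right fun e1 => h.p1.j_ne (eq_one_of_odd_sq (Oc.odd ((mul_mem_cancel_right
      (mul_mem (h.X1_mem ll b) (h.X4_mem3 e))).1 (e1 ▸ hx))) h.p1.j_mul_j),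
    e2.resolve_right fun e2 => h.p5.j_ne (eq_one_of_odd_sq (Oc.odd ((mul_mem_cancel_right
      (mul_mem (h.X5_mem ll f) (X2_eq φ ψ c ▸ h.X2_mem3 c))).1 (e2 ▸ hy))) h.p5.j_mul_j), X3_eq, X2_eq]
  rfl

theorem dec' {o : G} (ho : o ∈ Oc φ₃) (hc : o ∈ CU φ₁) :
    ∃ e d c b, o = X4 φ ψ e * X3 φ ψ d * X2 φ ψ c * X1 φ ψ b := by
  obtain ⟨d, b, e, f, c, rfl⟩ := h.dec ll ho
  have h1 : X3 φ ψ d * (X1 φ ψ b * X4 φ ψ e) ∈ CU φ₁ := mul_mem (mem_CU.2 fun t => (ll t d).symm)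
    (mul_mem (mem_CU.2 (xx_comm (φ := φ₁) b)) (mem_CU.2 fun t => (h.p1.comm _ _).symm))
  obtain rfl := h.X5_zero ll (mem_CU.1 ((mul_mem_cancel_right (mem_CU.2 fun t => (h.c12 t c).symm)).1
    ((mul_mem_cancel_left h1).1 hc)))
  refine ⟨e, d, c, b, ?_⟩
  rw [X5, xx_zero, map_one, one_mul, show X1 φ ψ b * X4 φ ψ e = X4 φ ψ e * X1 φ ψ b from (h.p1.comm _ _).eq,
    ← mul_assoc, ← (h.c34 e d).eq, mul_assoc, (h.c12 b c).eq, ← mul_assoc]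

theorem c04 (s u : K) : ∃ a b c, X0 ψ s * X4 φ ψ u * (X0 ψ s)⁻¹ = X4 φ ψ u * X3 φ ψ a * X2 φ ψ b * X1 φ ψ c := by
  have h1 : (X4 φ ψ u)⁻¹ * (X0 ψ s * X4 φ ψ u * (X0 ψ s)⁻¹) ∈ Oc φ₁ := by
    have := mul_mem (Oc.conj_of_comm (g := (X4 φ ψ u)⁻¹) (fun t => (h.p1.comm _ _).symm.inv_left) (h.X0_mem s))
      (inv_mem (h.X0_mem s))
    simpa [mul_assoc] using this
  obtain ⟨e, d, c, b, e1⟩ := h.dec' ll (mul_mem (inv_mem (h.X4_mem3 u)) (h.X0_conj s (h.X4_mem3 u)))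
    (Lyons.oc_le _ h1)
  rw [e1] at h1
  have := h.p1.cent_O ((mul_mem_cancel_right (h.X3_mem ll d)).1 ((mul_mem_cancel_right (h.X2_mem1 c)).1
    ((mul_mem_cancel_right (h.p1.xx_mem b)).1 h1)))
  rw [show X4 φ ψ e = 1 by rw [X4, this]; simp, one_mul, inv_mul_eq_iff_eq_mul] at e1
  exact ⟨d, c, b, by rw [e1]; simp only [mul_assoc]⟩

theorem c05 (s : K) (t : F) : ∃ a b c d,
    X0 ψ s * X5 φ t * (X0 ψ s)⁻¹ = X5 φ t * X4 φ ψ a * X3 φ ψ b * X2 φ ψ c * X1 φ ψ d := by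
  have hx : X0 ψ s = X0 ψ (s / 2) * v * (X0 ψ (s / 2))⁻¹ * v⁻¹ := by
    rw [mul_assoc, mul_assoc, ← mul_assoc v, ← conj_inv, show v * X0 ψ (s / 2) * v⁻¹ = _ from h.φn.inv_xx _,
      inv_inv, X0, X0, ← φ_xx_add, show s / 2 + s / 2 = s by have := h.p3.twoK; field_simp; ring]
  have hv : ∀ c ∈ CU φ₁, v * c * v⁻¹ ∈ CU φ₁ := fun c hc => mem_CU.2 fun r => by
    have := ((mem_CU.1 hc r).map (MulAut.conj v).toMonoidHom).inv_right
    rwa [show (MulAut.conj v).toMonoidHom (φ₁ (xx r)) = _ from h.v1.inv_xx r, inv_inv] at this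
  have key : ∀ o ∈ Oc φ₃, o⁻¹ * (v * o * v⁻¹) ∈ CU φ₁ := fun o ho => by
    obtain ⟨d, b, e, f, c, rfl⟩ := h.dec ll ho
    have h1 : X3 φ ψ d * (X1 φ ψ b * X4 φ ψ e) ∈ CU φ₁ := mul_mem (mem_CU.2 fun t => (ll t d).symm)
      (mul_mem (mem_CU.2 (xx_comm (φ := φ₁) b)) (mem_CU.2 fun t => (h.p1.comm _ _).symm))
    have h2 : X3 φ ψ d * (X1 φ ψ b * X4 φ ψ e) ∈ Oc φ₃ :=
      mul_mem (X3_eq φ ψ d ▸ h.p3.xx_mem d) (mul_mem (h.X1_mem ll b) (h.X4_mem3 e))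
    have h3 : Commute (X5 φ f * X2 φ ψ c) v := (comm_neg _).mul_left (X2_eq φ ψ c ▸ h.p5.comm_jψ _)
    generalize X3 φ ψ d * (X1 φ ψ b * X4 φ ψ e) = x at h1 h2
    obtain ⟨r, e1⟩ := h.p3.comm_mod (mul_mem (inv_mem h2) (Oc.conj_dm h.v3 h2))
      (mul_mem (h.X5_mem ll f) (h.X2_mem3 c))
    generalize X5 φ f * X2 φ ψ c = y at h3 e1
    rw [← conj_mul, ← h3.eq, mul_inv_cancel_right, mul_inv_rev, mul_assoc, ← mul_assoc x⁻¹, e1, mul_assoc,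
      inv_mul_cancel_left]
    exact mul_mem (mul_mem (inv_mem h1) (hv _ h1)) (mem_CU.2 fun t => (X3_eq φ ψ r ▸ ll t r).symm)
  have h1 : (X0 ψ (s / 2))⁻¹ * X5 φ t * (X0 ψ (s / 2))⁻¹⁻¹ ∈ Oc φ₃ :=
    Oc.conj_of_comm (fun _ => (h.p3.comm _ _).symm.inv_left) (h.X5_mem ll t)
  have h2 : X0 ψ (s / 2) ∈ CU φ₁ := mem_CU.2 (h.ls (s / 2))
  obtain ⟨e, d, c, b, e1⟩ := h.dec' ll (mul_mem (inv_mem (h.X5_mem ll t)) (h.X0_conj s (h.X5_mem ll t))) (by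
    convert mul_mem (mul_mem h2 (key _ h1)) (inv_mem h2) using 1
    have : v⁻¹ * X5 φ t * v = X5 φ t := by rw [X5, mul_assoc, (comm_neg _).eq]; group
    rw [hx]; nth_rewrite 4 [← this]; group)
  exact ⟨e, d, c, b, by rw [inv_mul_eq_iff_eq_mul.1 e1]; simp only [mul_assoc]⟩

theorem nd (a : K) (b : F) (c : K) (d : F) (e : K) (f : F)
    (he : X0 ψ a * X1 φ ψ b * X2 φ ψ c * X3 φ ψ d * X4 φ ψ e * X5 φ f = 1) :
    a = 0 ∧ b = 0 ∧ c = 0 ∧ d = 0 ∧ e = 0 ∧ f = 0 := by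
  have z : ∀ {s : F}, xx s = 1 → s = 0 := fun e => xx_injective (e.trans xx_zero.symm)
  have z' : ∀ {s : K}, xx s = 1 → s = 0 := fun e => xx_injective (e.trans xx_zero.symm)
  obtain rfl := z' (h.p3.cent_O ((mul_mem_cancel_right (h.X1_mem ll b)).1 ((mul_mem_cancel_right (h.X2_mem3 c)).1
    ((mul_mem_cancel_right (X3_eq φ ψ d ▸ h.p3.xx_mem d)).1 ((mul_mem_cancel_right (h.X4_mem3 e)).1
      ((mul_mem_cancel_right (h.X5_mem ll f)).1 (he ▸ one_mem _)))))))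
  rw [X0, xx_zero, map_one, one_mul] at he
  have h1 : X1 φ ψ b * X2 φ ψ c * X3 φ ψ d ∈ Oc φ₁ :=
    mul_mem (mul_mem (h.p1.xx_mem b) (h.X2_mem1 c)) (h.X3_mem ll d)
  obtain rfl := h.X5_zero ll (mem_CU.1 ((mul_mem_cancel_left (mul_mem (Lyons.oc_le _ h1)
    (mem_CU.2 fun t => (h.p1.comm _ _).symm))).1 (he ▸ one_mem _)))
  rw [X5, xx_zero, map_one, mul_one] at he
  obtain rfl := z' (h.p1.cent_O ((mul_mem_cancel_left h1).1 (he ▸ one_mem _)))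
  rw [X4, xx_zero, map_one, mul_one, mul_inv_cancel, mul_one] at he
  have h2 : X3 φ ψ d = 1 := by
    refine eq_one_of_odd_sq (X3_eq φ ψ d ▸ h.p3.odd_xx d) ?_
    have e1 := congrArg (fun x => j * x * j⁻¹) he
    simp only [← conj_mul] at e1
    rw [show j * X1 φ ψ b * j⁻¹ = (X1 φ ψ b)⁻¹ from h.j1.inv_xx b, X2_eq, h.symm.v3.inv_xx, ← X2_eq,
      ← mul_inv_rev, ← (h.c12 b c).eq, eq_inv_of_mul_eq_one_left he, inv_inv,
      ← show X3 φ ψ d * j = j * X3 φ ψ d from X3_eq φ ψ d ▸ (h.p3.comm _ _).eq, mul_inv_cancel_right] at e1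
    simpa using e1
  rw [h2, mul_one] at he
  have h3 : X1 φ ψ b = 1 := h.p1.xx_eq_one h.v1 (by
    rw [show φ₁ (xx b) = _ from eq_inv_of_mul_eq_one_left he, X2_eq]; exact (h.p5.comm_jψ _).inv_left)
  rw [h3, one_mul, X2_eq] at he
  rw [X3_eq] at h2
  exact ⟨rfl, z (h.p1.φ_inj (h3.trans (map_one _).symm)), z' (h.p5.ψ_inj (he.trans (map_one _).symm)),
    z (h.p3.φ_inj (h2.trans (map_one _).symm)), rfl, rfl⟩

theorem exists_hex : ∃ E : Hex F K G, E.φ = φ ∧ E.ψ = ψ :=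
  ⟨{ φ := φ
     ψ := ψ
     τ := h.τ
     τ_ψx := fun c s => by rw [h.τψ, cg_dm_xx]
     τ_ψy := fun c s => by rw [h.τψ, cg_dm_yy]
     τ_φx := fun c s => by rw [h.τφ, cg_dm_xx]
     τ_φy := fun c s => by rw [h.τφ, cg_dm_yy]
     ψ_dg := fun c => by
       obtain ⟨r, a⟩ := h.ψd c
       exact ⟨(c * c, r), h.uniq (h.τφ _) (h.τψ _) a (actG_dg c)⟩
     φ_dg := fun c => by
       obtain ⟨r, a⟩ := h.φd c
       exact ⟨(r, c * c), h.uniq (h.τφ _) (h.τψ _) (actG_dg c) a⟩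
     ψ_neg := h.uniq h.ψn (by simpa using actG_of_comm fun A => (comm_neg A).symm) (h.τφ (1, -1)) (h.τψ _)
     φ_neg := h.uniq (by simpa using actG_of_comm fun A => (comm_neg A).symm) h.φn (h.τφ (-1, 1)) (h.τψ _)
     orth := h.p3.comm
     c01 := h.ls
     c13 := ll
     c02 := h.c02
     c15 := fun t u => by
       obtain ⟨a, e⟩ := h.p3.comm_mod (h.X1_mem ll t) (h.X5_mem ll u)
       exact ⟨a, by rw [e, ← X3_eq, mul_assoc _ (X1 φ ψ t), (ll t a).eq]; group⟩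
     c04 := h.c04 ll
     c05 := h.c05 ll
     nd := h.nd ll }, rfl, rfl⟩

end Cfg

end Cfsg.Agent.FW
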