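import Mathlib
import Cfsg.Agent.FW.Cfg

/-!
The centraliser of `j`: field automorphisms, the index of `L₁ L₂` in the linear part, classes of involutions.
-/

set_option autoImplicit false
set_option linter.unusedSectionVars false

namespace Cfsg.Agent.FW

open Cfsg.Agent.KSG.M2 hiding dg coe_dg
open Cfsg.Agent.KSG Cfsg.Agent.RootSub
open Cfsg.Agent.Comm.Hex (dg coe_dg coe_ww hom_ext)
open scoped MatrixGroups

variable {F K G : Type*} [Field F] [Field K] [Group G]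

theorem exists_sl {M : GL (Fin 2) F} (hs : IsSquare M.1.det) : ∃ (A : SL(2, F)) (r : F), M.1 = r • (tg A).1 := by
  obtain ⟨r, hr⟩ := hs
  have h0 : r ≠ 0 := fun h0 => det_ne M (by rw [hr, h0, mul_zero])
  exact ⟨⟨r⁻¹ • M.1, by rw [Matrix.det_smul, Fintype.card_fin, hr]; field_simp⟩, r,
    (smul_inv_smul₀ h0 _).symm⟩

theorem exists_conj_smul [Fintype F] (h2 : (2 : F) ≠ 0) {m n : GL (Fin 2) F} (hm : m.1.trace = 0)
    (hn : n.1.trace = 0) (e : IsSquare m.1.det ↔ IsSquare n.1.det) :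
    ∃ (P : SL(2, F)) (r : F), n.1 = r • (tg P * m * (tg P)⁻¹).1 := by
  obtain ⟨s, hs⟩ := (sq_mul_iff (det_ne m) (det_ne n)).2 e
  have hn0 := det_ne n
  have h0 : s / n.1.det ≠ 0 := div_ne_zero (fun h0 => mul_ne_zero (det_ne m) hn0 (by rw [hs, h0, mul_zero])) hn0
  have hns : ¬ IsScal ((s / n.1.det) • n.1) := fun h => not_scal h2 hn (by
    simpa [IsScal, h0] using h)
  obtain ⟨P, hP, e⟩ := exists_similar_det_one (A := m.1) (B := (s / n.1.det) • n.1) (not_scal h2 hm) hns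
    (by simp [hm, hn]) (by
      rw [Matrix.det_smul, Fintype.card_fin]
      field_simp
      linear_combination hs) (Or.inl (by
      rw [hm]; intro h
      exact mul_ne_zero (mul_ne_zero h2 h2) (det_ne m) (by linear_combination -h)))
  refine ⟨⟨P, hP⟩, (s / n.1.det)⁻¹, ?_⟩
  have : (tg ⟨P, hP⟩ * m).1 = (s / n.1.det) • (n * tg ⟨P, hP⟩).1 := e.trans (Matrix.smul_mul _ _ _)
  rw [Units.val_mul, this, Matrix.smul_mul, ← Units.val_mul, mul_inv_cancel_right, smul_smul,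
    inv_mul_cancel₀ h0, one_smul]

variable {φ : SL(2, F) →* G} {ψ : SL(2, K) →* G}

theorem ActS.pure_pow {c : G} {σ : F ≃+* F} (h : ActS φ c 1 σ) (k : ℕ) : ActS φ (c ^ k) 1 (σ ^ k) := by
  induction k with
  | zero => simpa using actS_one.2 actG_one
  | succ k ih => simpa [pow_succ] using ih.mul h

theorem ActS.conj {c a : G} {M N : GL (Fin 2) F} {σ : F ≃+* F} (h : ActS φ c M σ) (h' : ActG φ a N) :
    ActG φ (c * a * c⁻¹) (M * gm σ N * M⁻¹) := by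
  have := (h.mul (actS_one.2 h')).mul h.inv
  rwa [mul_one, mul_inv_cancel, ← gm_mul, mul_inv_cancel, gm_one, actS_one] at this

theorem gm_dm (σ : F ≃+* F) : gm σ (dm (-1)) = dm (-1) := Units.ext (by
  rw [coe_gm, coe_dm]; ext i j; fin_cases i <;> fin_cases j <;> simp)

theorem fm_ww' (σ : F ≃+* F) : fm σ ww = ww := Subtype.ext (by
  rw [coe_fm, coe_ww]; ext i j; fin_cases i <;> fin_cases j <;> simp)

theorem cg_dm_ww (r : Fˣ) : cg (dm r) (ww : SL(2, F)) = dg r * ww :=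
  cg_eq_iff.2 (by simp [coe_dm, coe_dg, coe_ww])

theorem ActS.norm {c : G} {M : GL (Fin 2) F} {σ : F ≃+* F} (h : ActS φ c M σ) {x : G} (hx : x ∈ φ.range) :
    c * x * c⁻¹ ∈ φ.range := by
  obtain ⟨A, rfl⟩ := hx
  exact ⟨_, (h A).symm⟩

theorem mem_of_odd {D : Subgroup G} {c : G} {k : ℕ} (hk : Odd k) (h1 : c ^ k ∈ D) (h2 : c * c ∈ D) : c ∈ D := by
  obtain ⟨l, rfl⟩ := hk
  rw [pow_succ, pow_mul, sq] at h1
  exact (mul_mem_cancel_left (pow_mem h2 l)).1 h1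

variable (φ) in
/-- Elements acting semilinearly and diagonally. -/
def Dg : Subgroup G where
  carrier := {g | ∃ N θ, ActS φ g N θ ∧ Commute N (dm (-1))}
  one_mem' := ⟨1, 1, actS_one.2 actG_one, Commute.one_left _⟩
  mul_mem' := fun ⟨_, θ, a, b⟩ ⟨_, _, a', b'⟩ => ⟨_, _, a.mul a', b.mul_left (gm_dm θ ▸ b'.map (gm θ))⟩
  inv_mem' := fun ⟨_, θ, a, b⟩ => ⟨_, _, a.inv, gm_dm θ⁻¹ ▸ b.inv_left.map (gm θ⁻¹)⟩

theorem sq_mem_Dg (hφ : Function.Injective φ) {c j : G} {N : GL (Fin 2) F} {θ : F ≃+* F} (a : ActS φ c N θ)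
    (b : ActG φ j (dm (-1))) (e : Commute c j) : c * c ∈ Dg φ := by
  have h1 := a.conj b
  rw [e.eq, mul_inv_cancel_right, gm_dm] at h1
  obtain ⟨r, -, hr⟩ := b.unique hφ h1
  refine ⟨_, _, a.mul a, ?_⟩
  rcases comm_or_anti hr with h | h
  · exact h.mul_left (gm_dm θ ▸ h.map (gm θ))
  · refine h.mul ?_
    have := congrArg (fun X : Matrix (Fin 2) (Fin 2) F => X.map θ) h
    simp only [Matrix.map_neg _ (map_neg θ)] at this
    rw [Anti, ← gm_dm θ]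
    simpa only [coe_gm, ← RingEquiv.coe_toRingHom, Matrix.map_mul] using this

theorem Dg.exists (h2 : (2 : F) ≠ 0) {c : G} (h : c ∈ Dg φ) : ∃ r θ, ActS φ c (dm r) θ := by
  obtain ⟨N, θ, a, b⟩ := h
  obtain ⟨r, s, e⟩ := diag_of_comm h2 b
  exact ⟨r, θ, fun A => by rw [cg_congr e, a]⟩

variable [Fintype F] [Fintype K]

namespace Pre

variable (h : Pre φ ψ)
include h

theorem real {M : GL (Fin 2) F} {M' : GL (Fin 2) K} (e : IsSquare M.1.det ↔ IsSquare M'.1.det) :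
    ∃ c, ActG φ c M ∧ ActG ψ c M' := by
  have key : ∀ {c N N'}, ActG φ c N → ActG ψ c N' → IsSquare (M * N⁻¹).1.det →
      IsSquare (M' * N'⁻¹).1.det → ∃ c, ActG φ c M ∧ ActG ψ c M' := fun {c N N'} a b hs hs' => by
    obtain ⟨A, r, hr⟩ := exists_sl hs
    obtain ⟨B, r', hr'⟩ := exists_sl hs'
    exact ⟨_, ((h.act_mulφ A B).mul a).congr (r := r) (by
      rw [Units.val_mul, ← Matrix.smul_mul, ← hr, ← Units.val_mul, inv_mul_cancel_right]),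
      ((h.act_mulψ A B).mul b).congr (r := r') (by
      rw [Units.val_mul, ← Matrix.smul_mul, ← hr', ← Units.val_mul, inv_mul_cancel_right])⟩
  by_cases s : IsSquare M.1.det
  · exact key actG_one actG_one (by simpa using s) (by simpa using e.1 s)
  · obtain ⟨c, N, N', a, b, s'⟩ := h.out
    have := h.sq_iff a b
    exact key a b (by rw [sq_det_mul, sq_det_inv]; tauto) (by rw [sq_det_mul, sq_det_inv]; tauto)

theorem exists_pure {c : G} (hc : Commute c (φ (-1))) : ∃ a ∈ Hl φ ψ, ∃ σ σ', ActS φ (a⁻¹ * c) 1 σ ∧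
    ActS ψ (a⁻¹ * c) 1 σ' ∧ ∃ k, Odd k ∧ ((a⁻¹ * c) ^ k = 1 ∨ (a⁻¹ * c) ^ k = φ (-1)) := by
  obtain ⟨M, σ, M', σ', a1, a2, o1, o2, e⟩ := h.act c hc
  obtain ⟨a, b1, b2⟩ := h.real e
  have c1 : ActS φ (a⁻¹ * c) 1 σ := by simpa [gm_one] using (actS_one.2 b1.inv).mul a1
  have c2 : ActS ψ (a⁻¹ * c) 1 σ' := by simpa [gm_one] using (actS_one.2 b2.inv).mul a2
  refine ⟨a, ⟨_, _, b1, b2⟩, σ, σ', c1, c2, _, o1.mul o2, h.ker _ (fun A => ?_) fun A => ?_⟩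
  · have := c1.pure_pow (orderOf σ * orderOf σ') A
    rwa [pow_mul σ, pow_orderOf_eq_one, one_pow, fm_one, cg_one, mul_inv_eq_iff_eq_mul] at this
  · have := c2.pure_pow (orderOf σ * orderOf σ') A
    rwa [pow_mul' σ', pow_orderOf_eq_one, one_pow, fm_one, cg_one, mul_inv_eq_iff_eq_mul] at this

theorem conj_Hl {c a : G} (hc : Commute c (φ (-1))) (ha : a ∈ Hl φ ψ) : c * a * c⁻¹ ∈ Hl φ ψ := by
  obtain ⟨M, σ, M', σ', a1, a2, -⟩ := h.act c hc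
  obtain ⟨N, N', b1, b2⟩ := ha
  exact ⟨_, _, a1.conj b1, a2.conj b2⟩

theorem mul_mem_Y (A : SL(2, F)) (B : SL(2, K)) : φ A * ψ B ∈ φ.range ⊔ ψ.range :=
  mul_mem (Subgroup.mem_sup_left ⟨A, rfl⟩) (Subgroup.mem_sup_right ⟨B, rfl⟩)

theorem Y_le : φ.range ⊔ ψ.range ≤ Hl φ ψ :=
  sup_le (by rintro _ ⟨A, rfl⟩; exact ⟨_, _, actG_self A, h.actψ A⟩)
    (by rintro _ ⟨A, rfl⟩; exact ⟨_, _, h.actφ A, actG_self A⟩)

theorem mem_Y {c : G} {M : GL (Fin 2) F} {M' : GL (Fin 2) K} (a : ActG φ c M) (b : ActG ψ c M') :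
    c ∈ φ.range ⊔ ψ.range ↔ IsSquare M.1.det := by
  refine ⟨fun hc => ?_, fun hs => ?_⟩
  · let D : Subgroup G :=
      { carrier := {g | ∃ N, ActG φ g N ∧ IsSquare N.1.det}
        one_mem' := ⟨1, actG_one, by simp⟩
        mul_mem' := fun ⟨_, a, b⟩ ⟨_, a', b'⟩ => ⟨_, a.mul a', (sq_det_mul _ _).2 (iff_of_true b b')⟩
        inv_mem' := fun ⟨_, a, b⟩ => ⟨_, a.inv, (sq_det_inv _).2 b⟩ }
    obtain ⟨N, c1, c2⟩ := (show φ.range ⊔ ψ.range ≤ D from sup_le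
      (by rintro _ ⟨A, rfl⟩; exact ⟨_, actG_self A, sq_det_tg A⟩)
      (by rintro _ ⟨A, rfl⟩; exact ⟨_, h.actφ A, by simp⟩)) hc
    exact (a.sq_iff h.φ_inj c1).2 c2
  · obtain ⟨A, B, -, -, -, -, -, -, rfl⟩ := h.inner a b hs
    exact h.mul_mem_Y A B

theorem relIndex_Y : (φ.range ⊔ ψ.range).relIndex (Hl φ ψ) = 2 := by
  obtain ⟨t, M, M', a, b, s⟩ := h.out
  refine Subgroup.index_eq_two_iff.2 ⟨⟨t, M, M', a, b⟩, ?_⟩
  rintro ⟨c, N, N', a', b'⟩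
  simp only [Subgroup.mem_subgroupOf, Subgroup.coe_mul, h.mem_Y a' b', h.mem_Y (a'.mul a) (b'.mul b),
    sq_det_mul]
  tauto

theorem Hl_le {L : Subgroup G} (hL : φ.range ⊔ ψ.range ≤ L) {t : G} (ht : t ∈ L) {M : GL (Fin 2) F}
    {M' : GL (Fin 2) K} (a : ActG φ t M) (b : ActG ψ t M') (s : ¬ IsSquare M'.1.det) : Hl φ ψ ≤ L := by
  rintro c ⟨N, N', a', b'⟩
  by_cases s' : IsSquare N.1.det
  · exact hL ((h.mem_Y a' b').2 s')
  · exact (mul_mem_cancel_right ht).1 (hL ((h.mem_Y (a'.mul a) (b'.mul b)).2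
      ((sq_det_mul _ _).2 (iff_of_false s' (mt (h.sq_iff a b).1 s)))))

end Pre

theorem Tv.exists_conj {t t' : G} {m n : GL (Fin 2) F} {m' n' : GL (Fin 2) K} (h : Tv φ ψ t m m')
    (h' : Tv φ ψ t' n n') (e : IsSquare m.1.det ↔ IsSquare n.1.det) :
    ∃ y ∈ φ.range ⊔ ψ.range, y * t * y⁻¹ = t' := by
  have p := h.pre
  obtain ⟨P, r, hP⟩ := exists_conj_smul p.twoF h.tr1 h'.tr1 e
  obtain ⟨Q, r', hQ⟩ := exists_conj_smul p.twoK h.tr2 h'.tr2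
    ((p.sq_iff h.a1 h.a2).symm.trans (e.trans (p.sq_iff h'.a1 h'.a2)))
  have a := ((((p.act_mulφ P Q).mul h.a1).mul (p.act_mulφ P Q).inv).congr hP).mul h'.a1.inv
  have b := ((((p.act_mulψ P Q).mul h.a2).mul (p.act_mulψ P Q).inv).congr hQ).mul h'.a2.inv
  rw [mul_inv_cancel] at a b
  rcases h.of_scal a b (by simp [IsScal]) (by simp [IsScal]) with e | e
  · exact ⟨_, p.mul_mem_Y P Q, mul_inv_eq_one.1 e⟩
  · obtain ⟨W, hW⟩ := exists_anti p.twoF h'.tr1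
    refine ⟨(φ W)⁻¹ * (φ P * ψ Q), mul_mem (inv_mem (Subgroup.mem_sup_left ⟨W, rfl⟩)) (p.mul_mem_Y P Q), ?_⟩
    rw [mul_inv_eq_iff_eq_mul, ← h'.anti_conj hW] at e
    rw [show (φ W)⁻¹ * (φ P * ψ Q) * t * ((φ W)⁻¹ * (φ P * ψ Q))⁻¹ =
      (φ W)⁻¹ * (φ P * ψ Q * t * (φ P * ψ Q)⁻¹) * φ W by group, e]
    group

theorem Pre.tv_inner (h : Pre φ ψ) {A : SL(2, F)} {B : SL(2, K)} (hA : A * A = -1) (hB : B * B = -1) :
    Tv φ ψ (φ A * ψ B) (tg A) (tg B) :=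
  ⟨h, by rw [(h.comm A B).symm.mul_mul_mul_comm, ← map_mul, ← map_mul, hA, hB, h.neg, h.j_mul_j],
    h.act_mulφ A B, h.act_mulψ A B, SL_sq_eq_neg_one_iff.1 hA, SL_sq_eq_neg_one_iff.1 hB⟩

/-- All involutions of `C(j)` are conjugate to `j` under `L₁ L₂` and `ρ`. -/
theorem Tv.one_class [Finite G] {v ρ : G} {m : GL (Fin 2) F} {m' : GL (Fin 2) K} (h : Tv φ ψ v m m')
    (hj : ρ * φ (-1) * ρ⁻¹ = v) (hv : ρ * v * ρ⁻¹ = φ (-1) * v) {L : Subgroup G}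
    (hL : φ.range ⊔ ψ.range ≤ L) (hρ : ρ ∈ L) {t : G} (tt : t * t = 1) (t1 : t ≠ 1)
    (hc : Commute t (φ (-1))) : ∃ g ∈ L, g * φ (-1) * g⁻¹ = t := by
  have p := h.pre
  by_cases tj : t = φ (-1)
  · exact ⟨1, one_mem _, by simp [tj]⟩
  obtain ⟨n, n', h'⟩ := p.tv tt t1 tj hc
  by_cases e : IsSquare m.1.det ↔ IsSquare n.1.det
  · obtain ⟨y, hy, e⟩ := h.exists_conj h' e
    exact ⟨y * ρ, mul_mem (hL hy) hρ, by rw [← e, ← hj]; group⟩
  obtain ⟨A, B, M, hA, hB, a, s⟩ := h.exists_fuse hj hv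
  have h1 := p.tv_inner hA hB
  obtain ⟨k, k', h2⟩ := p.tv (t := ρ * (φ A * ψ B) * ρ⁻¹) (by rw [conj_mul, h1.tt]; simp)
    (by simpa using h1.t_ne_one) (fun e => s ((a.sq_iff p.φ_inj (e ▸ actG_self (-1))).2 (sq_det_tg _)))
    a.comm_j
  have s2 := mt (a.sq_iff p.φ_inj h2.a1).2 s
  by_cases s1 : IsSquare m.1.det
  · obtain ⟨y, hy, e1⟩ := h.exists_conj h1 (iff_of_true s1 (sq_det_tg A))
    obtain ⟨z, hz, e2⟩ := h2.exists_conj h' (iff_of_false s2 (by tauto))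
    exact ⟨z * ρ * y * ρ, mul_mem (mul_mem (mul_mem (hL hz) hρ) (hL hy)) hρ, by
      rw [← e2, ← e1, ← hj]; group⟩
  · obtain ⟨y, hy, e1⟩ := h.exists_conj h2 (iff_of_false s1 s2)
    obtain ⟨z, hz, e2⟩ := h1.exists_conj h' (iff_of_true (sq_det_tg A) (by tauto))
    refine ⟨z * ρ⁻¹ * y * ρ, mul_mem (mul_mem (mul_mem (hL hz) (inv_mem hρ)) (hL hy)) hρ, ?_⟩
    rw [← e2, ← inv_mul_cancel_left ρ (φ A * ψ B), ← inv_mul_cancel_right (ρ * _) ρ, ← e1, ← hj]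
    group

end Cfsg.Agent.FW
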