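import Mathlib
import Cfsg.Agent.FW.Ex
import Cfsg.Agent.ABG.Easy
import Cfsg.Agent.ABG.ThmA
import Cfsg.Agent.ABG.OrdU
import Cfsg.Agent.S0516
import Cfsg.Agent.S1141
import Cfsg.Agent.PLocal.SigCoprime
import Cfsg.Agent.CT.AutSL2

/-! Fong–Wong: if `C(j)` has a normal `SL₂(q)` with `C(j)/O` of type `GL₂^ε(q)` and `j` is not
isolated, the centralizer of a root subgroup `U` is not contained in `C(j)` (via ABG).
Version for an arbitrary involution `t ≠ j`, `q > 3`. -/

set_option autoImplicit false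

namespace Cfsg.Agent.FW

open Subgroup Cfsg.Agent.PLocal Cfsg.Agent.PLocal.Amb Cfsg.Agent.PLocal.SL2Nat Matrix
open scoped MatrixGroups

variable {F : Type*} [Field F] [Fintype F] {D : Type*} [Group D]

/-- The hypotheses on `C(j)`, `j = ι (-1)`. -/
structure Ex2 (ι : SL(2, F) →* D) (t : D) : Prop where
  odd : Odd (Fintype.card F)
  inj : Function.Injective ι
  norm : ∀ c, c * ι (-1) = ι (-1) * c → ∀ y, ∃ y', c * ι y * c⁻¹ = ι y'
  pgl : ∀ c, c * ι (-1) = ι (-1) * c → c * c = 1 → ∃ g, Rep ι c g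
  comm : ∀ c s, c * ι (-1) = ι (-1) * c → c * c = 1 → s * s = ι (-1) →
    (∀ y, s * ι y = ι y * s) → c * s = s * c
  uniq : ∀ s, s * s = 1 → (∀ y, s * ι y = ι y * s) → s = 1 ∨ s = ι (-1)
  tt : t * t = 1
  tj : t * ι (-1) = ι (-1) * t
  t_ne : ¬ (t = 1 ∨ t = ι (-1))
  big : 3 < Fintype.card F

namespace Ex2

variable {ι : SL(2, F) →* D} {t : D} (h : Ex2 ι t)
include h

local notation "j" => ι (-1)

theorem two_ne : (2 : F) ≠ 0 := Inv.two_ne_zero_of_odd h.odd

theorem j_ne : j ≠ 1 := fun e =>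
  Class.Dickson.neg_one_ne_one_SL h.two_ne (h.inj (e.trans (map_one ι).symm))

theorem ord_j : orderOf j = 2 := Inv.orderOf_two_of_mul_self (j_mul_j ι) h.j_ne

theorem eq_of_comm {z : D} (hz : z * j = j * z) (h2 : z * z = 1) {a b : SL(2, F)}
    (ha : z * ι a = ι a * z) (hb : z * ι b = ι b * z) (hab : a * b ≠ b * a) : z = 1 ∨ z = j := by
  obtain ⟨g, hg⟩ := h.pgl z hz h2
  exact h.uniq z h2 fun _ => hg.comm_of ((hg.sc h.inj ha hb hab).comm _)

theorem eq_of_comm_uu {z : D} (hz : z * j = j * z) (h2 : z * z = 1)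
    (ha : z * ι (uu 1) = ι (uu 1) * z) : z = 1 ∨ z = j := by
  obtain ⟨g, hg⟩ := h.pgl z hz h2
  refine h.uniq z h2 (by_contra fun hn => hg.1 ?_)
  have h1 := hg.trace h.inj h2 hn
  have h3 := hg.of_comm h.inj ha
  have a1 := congrFun (congrFun h3 0) 0
  have a2 := congrFun (congrFun h3 0) 1
  simp [Matrix.mul_apply, Fin.sum_univ_two, coe_uu] at a1 a2
  have h0 : g 0 0 = 0 := mul_left_cancel₀ h.two_ne (by linear_combination h1 + a2)
  rw [det_fin_two, h0, a1]; ring

theorem no_anti {s s' : D} {g g' : Matrix (Fin 2) (Fin 2) F} (hg : Rep ι s g) (hg' : Rep ι s' g')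
    (hs : s * s = 1) (hs' : s' * s' = 1) (hj : s' * j = j * s') (hc : s' * s = s * s')
    (h0 : g 0 0 + g 1 1 = 0) (ha : g * g' = -(g' * g)) : ¬ IsSquare g.det := fun hsq => by
  obtain ⟨a, r, hr, rfl, hsa⟩ := hg.inner hsq
  have ha0 : a.1.trace = 0 := by
    rw [trace_fin_two]
    refine mul_left_cancel₀ hr ?_
    simpa [mul_add] using h0
  have haa : a * a = -1 := KSG.M2.SL_sq_eq_neg_one_iff.2 ha0
  have hk : ∀ y, (ι a)⁻¹ * s * ι y = ι y * ((ι a)⁻¹ * s) := fun y => by
    rw [mul_assoc, mul_inv_eq_iff_eq_mul.1 (hsa y)]; group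
  have hsa' : s * ι a = ι a * s := by
    have := hsa a
    rwa [mul_inv_cancel_right, mul_inv_eq_iff_eq_mul] at this
  have hkk : (ι a)⁻¹ * s * ((ι a)⁻¹ * s) = j := by
    have : s * (ι a)⁻¹ = (ι a)⁻¹ * s := (Commute.inv_right hsa').eq
    rw [mul_assoc, ← mul_assoc s, this, mul_assoc, hs, mul_one, ← _root_.mul_inv_rev, ← map_mul,
      haa, ← map_inv]
    simp
  have h1 := h.comm s' _ hj hs' hkk hk
  have h2 : s' * ι a = ι a * s' := by
    rw [mul_assoc, ← hc, ← mul_assoc, ← mul_assoc, mul_left_inj] at h1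
    exact (Commute.inv_right_iff.1 h1).eq
  have h3 := hg'.of_comm h.inj h2
  rw [Matrix.smul_mul, Matrix.mul_smul, h3] at ha
  have h4 : (2 * r) • (a.1 * g') = 0 := by
    rw [mul_smul, two_smul]; exact add_eq_zero_iff_eq_neg.2 ha
  have h5 := (smul_eq_zero.1 h4).resolve_left (mul_ne_zero h.two_ne hr)
  have h6 := congrArg det h5
  rw [det_mul, a.2, one_mul, det_zero] at h6
  exact hg'.1 h6

theorem rank {s s' : D} (hs : s * s = 1) (hs' : s' * s' = 1) (hj : s * j = j * s)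
    (hj' : s' * j = j * s') (hc : s * s' = s' * s) :
    (s = 1 ∨ s = j) ∨ (s' = 1 ∨ s' = j) ∨ (s * s' = 1 ∨ s * s' = j) := by
  by_contra hn
  simp only [not_or] at hn
  have h2 : s * s' * (s * s') = 1 := by
    rw [mul_assoc, ← mul_assoc s', ← hc, mul_assoc, hs', mul_one, hs]
  obtain ⟨g, hg⟩ := h.pgl s hj hs
  obtain ⟨g', hg'⟩ := h.pgl s' hj' hs'
  have t1 := hg.trace h.inj hs fun e => (not_or.2 hn.1) (h.uniq _ hs e)
  have t2 := hg'.trace h.inj hs' fun e => (not_or.2 hn.2.1) (h.uniq _ hs' e)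
  have t3 := (hg.mul hg').trace h.inj h2 fun e => (not_or.2 hn.2.2) (h.uniq _ h2 e)
  have an := anti_of_trace t1 t2 t3
  have n1 := h.no_anti hg hg' hs hs' hj' hc.symm t1 an
  have n2 := h.no_anti hg' hg hs' hs hj hc t2 (by rw [an, neg_neg])
  have n3 := h.no_anti (hg.mul hg') hg h2 hs hj (by rw [mul_assoc, ← hc]) t3
    (by rw [an, Matrix.mul_neg, neg_neg, ← Matrix.mul_assoc, an])
  classical
  have hc2 : ringChar F ≠ 2 := fun e => h.two_ne (by
    have h1 : ((2 : ℕ) : F) = 0 := by rw [← e]; exact ringChar.Nat.cast_ringChar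
    exact_mod_cast h1)
  rw [← quadraticChar_neg_one_iff_not_isSquare] at n1 n2
  rw [det_mul, ← quadraticChar_one_iff_isSquare (mul_ne_zero hg.1 hg'.1), map_mul, n1, n2] at n3
  exact n3 (by norm_num)

variable [Finite D]

theorem range_norm : centralizer ({j} : Set D) ≤ 𝐍[ι.range] := fun c hc =>
  mem_normalizer_of_cj_le (cj_le_iff_forall.2 (by
    rintro _ ⟨y, rfl⟩
    obtain ⟨y', e⟩ := h.norm c (mem_centralizer_singleton_iff.1 hc) y
    exact ⟨y', e.symm⟩))

theorem exists_quat {R : Subgroup D} (hR : IsSyl 2 R (centralizer ({j} : Set D))) :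
    ∃ a b : SL(2, F), ι a ∈ R ∧ ι b ∈ R ∧ a * a = -1 ∧ b * b = -1 ∧ a * b ≠ b * a := by
  obtain ⟨a, b, hab⟩ := Class.Dickson.exists_quatPair h.two_ne
  have hL : ι.range ≤ centralizer ({j} : Set D) := by
    rintro _ ⟨y, rfl⟩; exact mem_centralizer_singleton_iff.2 (comm_j ι y)
  obtain ⟨P, hP⟩ := (hR.inf_of_le hL h.range_norm).exists_sylow_map
  let e := MonoidHom.ofInjective h.inj
  have h4 : ∀ {x : SL(2, F)}, x * x = -1 → (e x) ^ 2 ^ 2 = 1 := fun {x} hx => by
    rw [← map_pow, show x ^ 2 ^ 2 = x * x * (x * x) by simp [pow_succ, mul_assoc], hx]; simp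
  obtain ⟨g, h1, h2⟩ := Class.Dickson.exists_conj_pair_mem_sylow (h4 hab.sq_left)
    (h4 hab.sq_right) (by
      rw [← map_inv, ← map_mul, ← map_mul, hab.inverts, map_inv]
      exact inv_mem (mem_zpowers _)) P
  obtain ⟨c, rfl⟩ := e.surjective g
  rw [← map_inv, ← map_mul, ← map_mul] at h1 h2
  have hq := hab.conj c
  refine ⟨_, _, (hP.le (mem_map_of_mem _ h1)).1, (hP.le (mem_map_of_mem _ h2)).1, hq.sq_left,
    hq.sq_right, fun e => Class.Dickson.neg_one_ne_one_SL h.two_ne ?_⟩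
  have := hq.anticomm
  rw [← e, ← neg_one_mul] at this
  exact (mul_eq_right.1 this.symm)

theorem central {R : Subgroup D} (hR : IsSyl 2 R (centralizer ({j} : Set D))) {z : D} (hz : z ∈ R)
    (h2 : z * z = 1) (hc : ∀ s ∈ R, z * s = s * z) : z = 1 ∨ z = j := by
  obtain ⟨a, b, ha, hb, -, -, hab⟩ := h.exists_quat hR
  exact h.eq_of_comm (mem_centralizer_singleton_iff.1 (hR.le hz)) h2 (hc _ ha) (hc _ hb) hab

theorem j_mem {R : Subgroup D} (hR : IsSyl 2 R (centralizer ({j} : Set D))) : j ∈ R := by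
  obtain ⟨a, -, ha, -, e, -⟩ := h.exists_quat hR
  rw [← e, map_mul]; exact mul_mem ha ha

theorem isSyl_top {R : Subgroup D} (hR : IsSyl 2 R (centralizer ({j} : Set D))) :
    IsSyl 2 R ⊤ := by
  refine isSyl_of_isSyl_normalizer (hR.mono (le_inf le_top le_normalizer) fun n hn => ?_)
  have h1 := h.central hR (conj_mem_of_mem_normalizer hn.2 (h.j_mem hR))
    (by rw [conj_mul, j_mul_j]; simp) fun s hs => by
      have := mem_centralizer_singleton_iff.1 (hR.le (inv_conj_mem_of_mem_normalizer hn.2 hs))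
      calc _ = n * (j * (n⁻¹ * s * n)) * n⁻¹ := by group
        _ = _ := by rw [← this]; group
  rcases h1 with e | e
  · exact absurd (by simpa using e) h.j_ne
  · exact mem_centralizer_singleton_iff.2 (mul_inv_eq_iff_eq_mul.1 e)

theorem prank : Cfsg.PRankLE 2 2 D := by
  intro A hA h2
  obtain ⟨R, hR⟩ := exists_isSyl 2 (centralizer ({j} : Set D))
  obtain ⟨g, -, hg⟩ := (h.isSyl_top hR).exists_cj_le (R := A)
    (isPGroup_iff.2 fun x hx => ⟨1, by rw [pow_one, h2 x hx]⟩) le_top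
  rw [← card_cj g A]
  have hsq : ∀ x ∈ cj(g, A), x * x = 1 := fun x hx => by
    have := h2 _ (mem_cj.1 hx)
    rw [pow_two] at this
    calc x * x = g * (g⁻¹ * x * g * (g⁻¹ * x * g)) * g⁻¹ := by group
      _ = 1 := by rw [this]; simp
  have hj : ∀ x ∈ cj(g, A), x * j = j * x := fun x hx =>
    mem_centralizer_singleton_iff.1 (hR.le (hg hx))
  generalize cj(g, A) = B at hsq hj
  obtain ⟨s, hs⟩ : ∃ s : D, ∀ x ∈ B, x ∈ ({1, j, s, s * j} : Set D) := by
    by_cases hB : ∀ x ∈ B, x = 1 ∨ x = j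
    · exact ⟨1, fun x hx => (hB x hx).elim Or.inl fun e => Or.inr (Or.inl e)⟩
    · push Not at hB
      obtain ⟨s, hs, h1⟩ := hB
      refine ⟨s, fun x hx => ?_⟩
      have hc : s * x = x * s := by
        rw [← inv_eq_of_mul_eq_one_right (hsq _ (mul_mem hs hx)), _root_.mul_inv_rev,
          inv_eq_of_mul_eq_one_right (hsq _ hs), inv_eq_of_mul_eq_one_right (hsq _ hx)]
      have e1 : x = s * (s * x) := by rw [← mul_assoc, hsq _ hs, one_mul]
      rcases h.rank (hsq _ hs) (hsq _ hx) (hj _ hs) (hj _ hx) hc with e | (e | e) | e | e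
      · exact absurd e (not_or.2 h1)
      · exact Or.inl e
      · exact Or.inr (Or.inl e)
      · exact Or.inr (Or.inr (Or.inl (by rw [e1, e, mul_one])))
      · exact Or.inr (Or.inr (Or.inr (by rw [e1, e]; rfl)))
  refine (Set.ncard_le_ncard hs (Set.toFinite _)).trans ?_
  refine (Set.ncard_insert_le _ _).trans (Nat.succ_le_succ ((Set.ncard_insert_le _ _).trans
    (Nat.succ_le_succ ((Set.ncard_insert_le _ _).trans ?_))))
  simp

theorem j_mem_normal (hO : Cfsg.oddCore D = ⊥) (N : Subgroup D) [hN : N.Normal] (h1 : N ≠ ⊥) :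
    j ∈ N := by
  obtain ⟨R, hR⟩ := exists_isSyl 2 (centralizer ({j} : Set D))
  have h2 := (h.isSyl_top hR).inf_of_le (le_top : N ≤ ⊤) le_normalizer_of_normal
  have h3 : R ⊓ N ≠ ⊥ := fun e => h1 (eq_bot_iff.2 (hO ▸ Grp.le_pPrimeCore hN
    ((Nat.Prime.coprime_iff_not_dvd Nat.prime_two).2 (h2.eq_bot_iff.1 e)).symm))
  obtain ⟨z, hz, hz2⟩ := Inv.exists_involution_of_isPGroup (h2.pgrp.to_le inf_le_left)
    (inf_centralizer_ne_bot hR.pgrp h2.pgrp (le_normalizer_inf le_normalizer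
      le_normalizer_of_normal) h3)
  rcases h.central hR hz.1.1 (Inv.mul_self_of_orderOf_two hz2) fun s hs => (hz.2 s hs).symm
    with e | e
  · exact absurd e (Inv.ne_one_of_orderOf_two hz2)
  · exact e ▸ hz.1.2

omit [Finite D] in
theorem mem_of_t_mem (N : Subgroup D) [hN : N.Normal] (ht : t ∈ N) (y : SL(2, F)) : ι y ∈ N := by
  have h4 : 4 ≤ Nat.card F := by rw [Nat.card_eq_fintype_card]; exact h.big
  rcases normal_cases h4 (N.comap ι) inferInstance with e | e
  · exact (e ▸ mem_top y : y ∈ N.comap ι)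
  · exfalso
    obtain ⟨g, hg⟩ := h.pgl t h.tj h.tt
    have key : ∀ y, ∃ y', t * ι y * t⁻¹ = ι y' ∧ y' * y⁻¹ ∈ center SL(2, F) := fun y => by
      obtain ⟨y', e'⟩ := h.norm t h.tj y
      refine ⟨y', e', e (mem_comap.2 ?_)⟩
      rw [map_mul, ← e', map_inv, mul_assoc, mul_assoc, ← mul_assoc (ι y)]
      exact mul_mem ht (hN.conj_mem _ (inv_mem ht) _)
    obtain ⟨p, hc, n, hp, hn'⟩ := FiniteField.card' F
    have hp2 : Odd p := (hn' ▸ h.odd).of_dvd_nat (dvd_pow_self p n.ne_zero)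
    have k2 : ∀ y, y ^ p = 1 → t * ι y = ι y * t := fun y hy => by
      obtain ⟨y', e1, e2⟩ := key y
      have h1 : y' ^ p = 1 := h.inj (by rw [map_pow, ← e1, conj_pow, ← map_pow, hy]; simp)
      have h2 : Commute (y' * y⁻¹) y := (mem_center_iff.1 e2 y).symm
      have h3 : (y' * y⁻¹) ^ p = 1 := by
        have := h2.mul_pow p
        rw [inv_mul_cancel_right, h1, hy, mul_one] at this
        exact this.symm
      have h5 : y' * y⁻¹ = 1 := by
        obtain ⟨m, hm⟩ := hp2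
        rwa [hm, pow_succ, pow_mul, pow_two, Inv.SL2_sq_eq_one e2, one_pow, one_mul] at h3
      rw [mul_inv_eq_one.1 h5] at e1
      exact mul_inv_eq_iff_eq_mul.1 e1
    refine h.t_ne (h.eq_of_comm h.tj h.tt (k2 (uu 1) ?_) (k2 (ll 1) ?_) uu_ll_ne)
    · rw [uu_pow]; simp [uu_zero]
    · have : ∀ m : ℕ, ll (1 : F) ^ m = ll (m : F) := fun m => by
        induction m with
        | zero => simp [ll_zero]
        | succ m ih => rw [pow_succ, ih, ← ll_add]; simp
      rw [this]; simp [ll_zero]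

omit [Finite D] in
theorem restrict (N : Subgroup D) (ht : t ∈ N) (hL : ∀ y, ι y ∈ N) :
    Ex2 (ι.codRestrict N hL) ⟨t, ht⟩ where
  odd := h.odd
  inj := fun _ _ e => h.inj (congrArg Subtype.val e)
  norm := fun c hc y => (h.norm c (congrArg Subtype.val hc) y).imp fun _ e => Subtype.ext e
  pgl := fun c hc h2 => (h.pgl c (congrArg Subtype.val hc) (congrArg Subtype.val h2)).imp
    fun _ hg => ⟨hg.1, fun y => (hg.2 y).imp fun _ e => ⟨Subtype.ext e.1, e.2⟩⟩
  comm := fun c s hc h2 hs hk => Subtype.ext (h.comm c s (congrArg Subtype.val hc)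
    (congrArg Subtype.val h2) (congrArg Subtype.val hs) fun y => congrArg Subtype.val (hk y))
  uniq := fun s hs hk => (h.uniq s (congrArg Subtype.val hs)
    fun y => congrArg Subtype.val (hk y)).imp Subtype.ext Subtype.ext
  tt := Subtype.ext h.tt
  tj := Subtype.ext h.tj
  t_ne := fun e => h.t_ne (e.imp (congrArg Subtype.val) (congrArg Subtype.val))
  big := h.big

theorem not_dvd_index (hN : ∀ d ∈ 𝐍[(Up F).map ι], d * j = j * d) {p m : ℕ} [hp : Fact p.Prime]
    [CharP F p] (hm : Nat.card (centralizer ({j} : Set D)) ∣ Fintype.card F * m) (hpm : ¬ p ∣ m) :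
    ∃ n, ¬ p ∣ n ∧ Nat.card D = Fintype.card F * n := by
  have hU : IsPGroup p ((Up F).map ι) := (isPGroup_Up p).map _
  have hc : Nat.card ((Up F).map ι) = Fintype.card F := by
    rw [card_map_of_injective h.inj, card_Up, Nat.card_eq_fintype_card]
  have : IsSyl p ((Up F).map ι) ⊤ := by
    refine isSyl_of_isSyl_normalizer ⟨le_inf le_top le_normalizer, hU, fun R hR h1 h2 => ?_⟩
    refine (eq_of_le_of_card_ge h1 (Nat.le_of_dvd Nat.card_pos ?_)).ge
    obtain ⟨k, hk⟩ := hR.exists_card_eq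
    have h3 := (card_dvd_of_le (fun d hd => mem_centralizer_singleton_iff.2
      (hN d (h2 hd).2) : R ≤ centralizer {j})).trans hm
    rw [hc]
    refine Nat.Coprime.dvd_of_dvd_mul_right ?_ h3
    rw [hk]
    exact Nat.Coprime.pow_left _ ((Nat.Prime.coprime_iff_not_dvd hp.out).2 hpm)
  refine ⟨_, by simpa using this.not_dvd_relIndex, ?_⟩
  rw [← hc, card_mul_index]

theorem card_eq {H : Type*} [Group H] [Finite H] {K : Type*} [Field K] [Fintype K]
    (hK : Odd (Fintype.card K)) (Z : Subgroup H) [Z.Normal] (hZ : Odd (Nat.card Z))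
    (φ : centralizer ({j} : Set D) ≃* H ⧸ Z) (σ : SL(2, K) →* H) (hσ : Function.Injective σ)
    (hc : _root_.commutator H ≤ σ.range) :
    Fintype.card F = Fintype.card K ∧ Nat.card (centralizer ({j} : Set D)) ∣ Nat.card H := by
  let π : H →* centralizer ({j} : Set D) := φ.symm.toMonoidHom.comp (QuotientGroup.mk' Z)
  have hπ : Function.Surjective π := φ.symm.surjective.comp (QuotientGroup.mk'_surjective Z)
  refine ⟨card_eq_of_normal h.two_ne (Inv.two_ne_zero_of_odd hK)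
    (ι.codRestrict _ fun y => mem_centralizer_singleton_iff.2 (comm_j ι y))
    (fun _ _ e => h.inj (congrArg Subtype.val e)) ⟨?_⟩ (π.comp σ) ?_ ?_,
    card_dvd_of_surjective π hπ⟩
  · rintro _ ⟨y, rfl⟩ c
    obtain ⟨y', e⟩ := h.norm c (mem_centralizer_singleton_iff.1 c.2) y
    exact ⟨y', Subtype.ext e.symm⟩
  · rw [← MonoidHom.ker_eq_bot_iff]
    refine odd_normal_eq_bot hK _ (hZ.of_dvd_nat ?_)
    rw [← MonoidHom.comap_ker, ← MonoidHom.comap_ker,
      (MonoidHom.ker_eq_bot_iff _).2 φ.symm.injective, MonoidHom.comap_bot, QuotientGroup.ker_mk']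
    exact card_comap_dvd_of_injective _ _ hσ
  · rw [MonoidHom.range_comp]
    refine le_trans (le_of_eq ?_) (map_mono hc)
    rw [commutator_def, commutator_def, map_commutator, map_top_of_surjective _ hπ]

theorem simple_false [IsSimpleGroup D] (hN : ∀ d ∈ 𝐍[(Up F).map ι], d * j = j * d) : False := by
  obtain ⟨R, hR, hR'⟩ := exists_isSyl_ge (L := centralizer ({j} : Set D))
    (Inv.isPGroup_zpowers_of_orderOf_two
      (Inv.orderOf_two_of_mul_self h.tt fun e => h.t_ne (Or.inl e)))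
    (zpowers_le.2 (mem_centralizer_singleton_iff.2 h.tj))
  have htR : t ∈ R := hR' (mem_zpowers t)
  obtain ⟨S, rfl⟩ := (h.isSyl_top hR).exists_sylow_top
  have hz : ∀ s ∈ (S : Subgroup D), s * j = j * s := fun s hs =>
    mem_centralizer_singleton_iff.1 (hR.le hs)
  obtain ⟨a, b, ha, hb, ha2, hb2, hab⟩ := h.exists_quat hR
  have hab' : ι a * ι b ≠ ι b * ι a := fun e => hab (h.inj (by rwa [map_mul, map_mul]))
  have := Fintype.ofFinite (GaloisField 2 4)
  have h16 : Fintype.card (GaloisField 2 4) = 16 := by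
    rw [← Nat.card_eq_fintype_card, GaloisField.card 2 4 (by norm_num)]; norm_num
  obtain ⟨P⟩ : Nonempty (Sylow 2 (Cfsg.PSU 3 (GaloisField 2 4) 4)) := inferInstance
  have hS : Cfsg.IsQuasiDihedral (S : Subgroup D) ∨ Cfsg.IsWreathed (S : Subgroup D) := by
    rcases S0516.result (fun e => hab' (e.is_comm.comm _ _)) h.prank S h16 P with
      ⟨n, -, ⟨e⟩⟩ | e | e | ⟨⟨e⟩⟩
    · exfalso
      have key : ∀ (x : SL(2, F)) (hx : ι x ∈ (S : Subgroup D)), x * x = -1 →
          ∃ i, e ⟨_, hx⟩ = DihedralGroup.r i := fun x hx hx2 => by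
        rcases e1 : e ⟨_, hx⟩ with i | i
        · exact ⟨i, rfl⟩
        · refine absurd ?_ h.j_ne
          rw [← hx2, map_mul]
          exact congrArg Subtype.val (e.injective (by rw [map_mul, e1]; simp) :
            (⟨_, hx⟩ * ⟨_, hx⟩ : (S : Subgroup D)) = 1)
      obtain ⟨i, hi⟩ := key a ha ha2
      obtain ⟨k, hk⟩ := key b hb hb2
      exact hab' (congrArg Subtype.val (e.injective (by
        rw [map_mul, map_mul, hi, hk, DihedralGroup.r_mul_r, DihedralGroup.r_mul_r, add_comm]) :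
        (⟨_, ha⟩ * ⟨_, hb⟩ : (S : Subgroup D)) = ⟨_, hb⟩ * ⟨_, ha⟩))
    · exact Or.inl e
    · exact Or.inr e
    · exfalso
      obtain ⟨-, -, -, -, K, -, hK⟩ := (S1141.result (n := 2) le_rfl h16 P).2.2
      obtain ⟨k, hk, -⟩ := hK (e ⟨_, h.j_mem hR⟩) (e ⟨t, htR⟩)
        (fun e1 => h.j_ne (congrArg Subtype.val ((map_eq_one_iff _ e.injective).1 e1)))
        (by rw [← map_mul, ← map_one e]; exact congrArg e (Subtype.ext (j_mul_j ι)))
        (fun e1 => h.t_ne (Or.inl (congrArg Subtype.val ((map_eq_one_iff _ e.injective).1 e1))))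
        (by rw [← map_mul, ← map_one e]; exact congrArg e (Subtype.ext h.tt))
      refine h.t_ne (h.central hR htR h.tt fun s hs => ?_)
      obtain ⟨u, hu⟩ := (e.trans k.1).surjective (e ⟨s, hs⟩)
      have h1 : (⟨_, h.j_mem hR⟩ * u : (S : Subgroup D)) = u * ⟨_, h.j_mem hR⟩ :=
        Subtype.ext (hz u u.2).symm
      have h2 := congrArg (e.trans k.1) h1
      rw [map_mul, map_mul, hu, MulEquiv.trans_apply, hk, ← map_mul, ← map_mul] at h2
      exact congrArg Subtype.val (e.injective h2)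
  obtain ⟨p, hc, n, hp, hn⟩ := FiniteField.card' F
  have := Fact.mk hp
  have hpq : p ∣ Fintype.card F := hn ▸ dvd_pow_self p n.ne_zero
  have h1 : ¬ p ∣ Fintype.card F - 1 := fun e => hp.one_lt.ne' (Nat.dvd_one.1
    ((Nat.dvd_sub_iff_right Fintype.card_pos hpq).1 e))
  have h2 : ¬ p ∣ Fintype.card F + 1 := fun e => hp.one_lt.ne' (Nat.dvd_one.1
    ((Nat.dvd_add_right hpq).1 e))
  have fin : ∀ {n z c : ℕ}, ¬ p ∣ n → ¬ p ∣ z →
      Fintype.card F * n * z ≠ Fintype.card F ^ 3 * c := fun {n z c} a1 a2 e => by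
    have : n * z = Fintype.card F * (Fintype.card F * c) :=
      Nat.eq_of_mul_eq_mul_left Fintype.card_pos (by rw [← mul_assoc, e]; ring)
    exact ((Nat.Prime.dvd_mul hp).1 (this ▸ hpq.mul_right _)).elim a1 a2
  rcases ABG.easy_end S hS h.ord_j hz (ABG.thmA S hS h.ord_j hz) with
    ⟨K, _, _, hK, -, Z, _, hZ, hZo, ⟨φ⟩⟩ | ⟨K, _, _, q, hq, hK, -, Z, _, hZ, hZo, ⟨φ⟩⟩
  · obtain ⟨e, hd⟩ := h.card_eq hK Z hZo φ SpecialLinearGroup.toGL
      SpecialLinearGroup.toGL_injective (by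
        exact fun x hx => ⟨⟨x.1, congrArg Units.val
          (Abelianization.commutator_subset_ker GeneralLinearGroup.det hx)⟩, Units.ext rfl⟩)
    rw [Class.card_GL2, ← e, mul_left_comm] at hd
    obtain ⟨m, hm, hD⟩ := h.not_dvd_index hN hd fun e =>
      ((Nat.Prime.dvd_mul hp).1 e).elim h2 fun e => h1 (hp.dvd_of_dvd_pow e)
    classical
    have := Fintype.ofFinite D
    obtain ⟨⟨v, w, s, s₂, P, H, T₂, p', h'⟩, hL, hS⟩ :=
      ABG.Cent.exists_tor_GL hK Z hZ hZo h.ord_j ⟨φ⟩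
    rcases h'.order (F := (⊤ : Subfield K)) (Fintype.card_congr Subfield.topEquiv.toEquiv) hL
      fun S => ⟨fun e => (hS S).1 (by omega), fun e => (hS S).2 (by omega)⟩ with
      ⟨h5, h6⟩ | ⟨h5, h4⟩
    · have h7 : Nat.card D * Nat.card Z =
          Fintype.card K ^ 3 * ((Fintype.card K ^ 2 - 1) * (Fintype.card K ^ 3 - 1)) := by
        have h3 : ∀ k, 1 ≤ Fintype.card K ^ k := fun k => Nat.one_le_pow _ _ Fintype.card_pos
        zify [h3]
        linear_combination h6
      rw [hD, ← e] at h7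
      refine fin hm (fun e' => h1 ((h5 ▸ e').trans ((Nat.gcd_dvd_right _ _).trans ?_))) h7
      have := Fintype.card_pos (α := K)
      rw [e]; exact dvd_of_eq (by omega)
    · have h3 : Fintype.card F = 3 := by rw [e]; exact_mod_cast h5
      rw [h4, h3] at hD
      rw [h3] at hpq
      obtain rfl := (Nat.prime_dvd_prime_iff_eq hp Nat.prime_three).1 hpq
      omega
  · have := Class.U.UF.of_card hK
    have := Fintype.ofFinite (RingHom.eqLocusField (Class.U.conj K q) (RingHom.id K))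
    have hk := CT.card_fixedField (F := K) (q := q)
    obtain ⟨f⟩ := Class.U.nonempty_SU2_equiv (F := K) hk
    rw [Nat.card_eq_fintype_card] at hk
    obtain ⟨e, hd⟩ := h.card_eq (by rwa [hk]) Z hZo φ (Class.U.toGU.comp f.symm.toMonoidHom)
      (Class.U.toGU_injective.comp f.symm.injective) (by
        rw [MonoidHom.range_comp, MonoidHom.range_eq_top.2 f.symm.surjective,
          ← MonoidHom.range_eq_map, Class.U.range_toGU]
        exact Abelianization.commutator_subset_ker _)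
    rw [hk] at e
    subst e
    rw [Class.U.card_GU] at hd
    simp [Finset.prod_range_succ] at hd
    obtain ⟨m, hm, hD⟩ := h.not_dvd_index hN hd fun e =>
      ((Nat.Prime.dvd_mul hp).1 e).elim h2 fun e => hp.one_lt.ne' (Nat.dvd_one.1
        ((Nat.dvd_sub_iff_right (Nat.one_le_pow _ _ Fintype.card_pos)
          (dvd_pow hpq two_ne_zero)).1 e))
    obtain ⟨h3, h4⟩ := ABG.OrdU.order_GU _ hq hK Z hZ hZo _ h.ord_j ⟨φ⟩
    rw [hD, mul_assoc (_ ^ 3)] at h4
    exact fin hm (fun e' => h2 ((h3 ▸ e').trans (Nat.gcd_dvd_right _ _))) h4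

section Quot

local notation "π" => QuotientGroup.mk' (Cfsg.oddCore D)

theorem inj_quot : Function.Injective ((π).comp ι) := by
  rw [← MonoidHom.ker_eq_bot_iff]
  refine odd_normal_eq_bot h.odd _
    ((Nat.coprime_two_right.1 (Grp.pPrimeCore_coprime 2 D)).of_dvd_nat ?_)
  rw [← MonoidHom.comap_ker, QuotientGroup.ker_mk']
  exact card_comap_dvd_of_injective _ _ h.inj

theorem comm_quot {d : D} (hd : d * j = j * d) (hc : ∀ y, π d * π (ι y) = π (ι y) * π d)
    (y : SL(2, F)) : d * ι y = ι y * d := by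
  obtain ⟨y', e⟩ := h.norm d hd y
  have h1 := congrArg π e
  rw [map_mul, map_mul, hc, map_inv, mul_inv_cancel_right] at h1
  rw [← h.inj_quot h1] at e
  exact mul_inv_eq_iff_eq_mul.1 e

theorem quot : Ex2 ((π).comp ι) (π t) where
  odd := h.odd
  inj := h.inj_quot
  norm := fun c hc y => by
    obtain ⟨d, h1, rfl, -⟩ := Ex.lift (j_mul_j ι) hc
    obtain ⟨y', e⟩ := h.norm d h1 y
    exact ⟨y', by simpa using congrArg π e⟩
  pgl := fun c hc h2 => by
    obtain ⟨d, h1, rfl, h3⟩ := Ex.lift₂ (j_mul_j ι) hc h2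
    obtain ⟨g, hg⟩ := h.pgl d h1 h3
    exact ⟨g, hg.1, fun y => (hg.2 y).imp fun _ e => ⟨by simpa using congrArg π e.1, e.2⟩⟩
  comm := fun c s hc h2 hs hk => by
    obtain ⟨d, h1, rfl, h3⟩ := Ex.lift₂ (j_mul_j ι) hc h2
    obtain ⟨k, k1, rfl, k3⟩ := Ex.lift (j_mul_j ι) (hk (-1))
    have hs' : π k * π k = π j := hs
    have k4 := k3 (by
      rw [show 4 = 2 * 2 from rfl, pow_mul, pow_two (π k), hs', pow_two, ← map_mul, j_mul_j,
        map_one])
    have k5 : k * k * j = 1 := Ex.eq_one_of_sq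
      (by rw [map_mul, map_mul, hs', ← map_mul, j_mul_j, map_one]) (by
        have k6 : Commute (k * k) j := Commute.mul_left k1 k1
        rw [k6.symm.mul_mul_mul_comm, j_mul_j, mul_one, ← k4]
        simp only [pow_succ, pow_zero, one_mul, mul_assoc])
    rw [← map_mul, ← map_mul, h.comm d k h1 h3 ((eq_inv_of_mul_eq_one_left k5).trans
      (inv_eq_of_mul_eq_one_left (j_mul_j ι))) (h.comm_quot k1 hk)]
  uniq := fun s hs hk => by
    obtain ⟨d, h1, rfl, h3⟩ := Ex.lift₂ (j_mul_j ι) (hk (-1)) hs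
    exact (h.uniq d h3 (h.comm_quot h1 hk)).imp (fun e => by rw [e, map_one]) fun e => by
      rw [e]; rfl
  tt := by rw [← map_mul, h.tt, map_one]
  tj := by simpa using congrArg π h.tj
  t_ne := by
    rintro (e | e)
    · exact h.t_ne (Or.inl (Ex.eq_one_of_sq e h.tt))
    · refine h.t_ne (Or.inr (mul_inv_eq_one.1 (Ex.eq_one_of_sq ?_ ?_)))
      · rw [map_mul, e]; simp
      · rw [inv_eq_of_mul_eq_one_right (j_mul_j ι), mul_assoc, ← mul_assoc j, ← h.tj, mul_assoc,
          j_mul_j, mul_one, h.tt]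
  big := h.big

end Quot

theorem core_false (hO : Cfsg.oddCore D = ⊥) (ht : IsConj j t)
    (hN : ∀ d ∈ 𝐍[(Up F).map ι], d * j = j * d) : False := by
  let N := normalClosure ({j} : Set D)
  have hjN : j ∈ N := subset_normalClosure rfl
  have htN : t ∈ N := by
    obtain ⟨g, rfl⟩ := isConj_iff.1 ht
    exact normalClosure_normal.conj_mem _ hjN g
  have hL := h.mem_of_t_mem N htN
  have h' := h.restrict N htN hL
  have hO' : Cfsg.oddCore N = ⊥ := by
    rw [Cfsg.oddCore, Grp.pPrimeCore_eq_subgroupOf_of_normal, ← Cfsg.oddCore, hO, bot_subgroupOf]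
  have : Nontrivial N := ⟨⟨⟨_, hjN⟩, 1, fun e => h.j_ne (congrArg Subtype.val e)⟩⟩
  have : IsSimpleGroup N := ⟨fun M hM => or_iff_not_imp_left.2 fun h1 => by
    have h2 : N ≤ (M.map N.subtype).normalCore := normalClosure_le_normal (by
      rintro _ rfl d
      obtain ⟨x, hx, e⟩ := h'.j_mem_normal hO' (M.map (MulAut.conjNormal d⁻¹).toMonoidHom)
        (hN := hM.map _ (MulEquiv.surjective _))
        (mt (map_eq_bot_iff_of_injective _ (MulEquiv.injective _)).1 h1)
      refine ⟨x, hx, ?_⟩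
      have : d⁻¹ * x * d⁻¹⁻¹ = j := congrArg Subtype.val e
      rw [← this]; simp [mul_assoc])
    exact eq_top_iff.2 fun x _ => mem_map_subtype.1 (normalCore_le _ (h2 x.2))⟩
  refine h'.simple_false fun d hd => Subtype.ext (hN d (mem_normalizer_of_cj_le
    (cj_le_iff_forall.2 ?_)))
  rintro _ ⟨y, hy, rfl⟩
  obtain ⟨y', hy', e⟩ := conj_mem_of_mem_normalizer hd (mem_map_of_mem _ hy)
  exact ⟨y', hy', congrArg Subtype.val e⟩

/-- The centralizer of the root subgroup is not contained in `C(j)`. -/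
theorem main (ht : IsConj j t) :
    ∃ d, (∀ a, d * ι (uu a) = ι (uu a) * d) ∧ d * j ≠ j * d := by
  by_contra hn
  push Not at hn
  refine h.quot.core_false (Grp.pPrimeCore_quotient_pPrimeCore 2 D)
    ((QuotientGroup.mk' _).map_isConj ht) fun d hd => ?_
  obtain ⟨d, rfl⟩ := QuotientGroup.mk'_surjective _ d
  obtain ⟨p, hc, n, hp, hn'⟩ := FiniteField.card' F
  have := Fact.mk hp
  have hp2 : Odd p := (hn' ▸ h.odd).of_dvd_nat (dvd_pow_self p n.ne_zero)
  set U := (Up F).map ι with hUdef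
  have hU : IsPGroup p U := (isPGroup_Up p).map _
  have hUj : U ≤ 𝐂[zpowers j] := by
    rw [Amb.centralizer_zpowers]
    rintro _ ⟨y, -, rfl⟩
    exact mem_centralizer_singleton_iff.2 (comm_j ι y)
  have hCU : 𝐂[U] ≤ 𝐂[zpowers j] := fun d hd => by
    rw [Amb.centralizer_zpowers]
    exact mem_centralizer_singleton_iff.2
      (hn d fun a => (hd _ (mem_map_of_mem _ (uu_mem a))).symm)
  have hjU := (le_centralizer_iff.1 hUj).trans (centralizer_le_normalizer' U)
  have hz : Nat.card (zpowers j) = 2 := by rw [Nat.card_zpowers, h.ord_j]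
  have hodd : Odd (Nat.card (U ⊔ Cfsg.oddCore D : Subgroup D)) := by
    obtain ⟨k, hk⟩ := hU.exists_card_eq
    refine Odd.of_dvd_nat ?_ (Grp.card_sup_dvd U (Cfsg.oddCore D))
    exact (hk ▸ hp2.pow).mul (Nat.coprime_two_right.1 (Grp.pPrimeCore_coprime 2 D))
  obtain ⟨P, hP, hUP, hjP⟩ := Sig.exists_invSyl_ge (A := zpowers j)
    (le_normalizer_sup hjU le_normalizer_of_normal)
    (by rw [hz]; exact (Nat.coprime_two_right.2 hodd).symm) (Or.inl inferInstance) p le_sup_left hU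
    hjU
  have h1 := Solv.p_times_q p U (zpowers j) P hU
    (by rw [hz]; exact (Nat.coprime_two_right.2 hp2).symm) hP.pgrp hUj (hUP.trans le_normalizer) hjP
    (inf_le_right.trans hCU)
  have h2 : ∀ x ∈ 𝐍[P], x * j = j * x := fun x hx => by
    have h3 := hUP.trans (le_centralizer_iff.1 (zpowers_le.2 (conj_mem_of_mem_normalizer
      (normalizer_le_normalizer_centralizer P hx) (h1 (mem_zpowers _)))))
    have h4 := hCU (le_centralizer_iff.1 h3 (mem_zpowers _))
    rcases h.eq_of_comm_uu (h4 _ (mem_zpowers _)).symm (by rw [conj_mul, j_mul_j]; simp)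
      (h3 (mem_map_of_mem _ (uu_mem 1)) _ (mem_zpowers _)) with e | e
    · exact absurd (by simpa using e) h.j_ne
    · exact mul_inv_eq_iff_eq_mul.1 e
  have h3 : d ∈ 𝐍[U ⊔ Cfsg.oddCore D] := by
    refine mem_normalizer_of_cj_le ?_
    rw [cj_sup, cj_of_normal d (Cfsg.oddCore D)]
    refine sup_le (cj_le_iff_forall.2 ?_) le_sup_right
    rintro _ ⟨y, hy, rfl⟩
    obtain ⟨y', hy', e⟩ := conj_mem_of_mem_normalizer hd (mem_map_of_mem _ hy)
    have : (ι y')⁻¹ * (d * ι y * d⁻¹) ∈ Cfsg.oddCore D := QuotientGroup.eq.1 e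
    simpa using mul_mem (mem_sup_left (mem_map_of_mem ι hy')) (mem_sup_right this)
  obtain ⟨m, hm, x, hx, rfl⟩ := hP.frattini h3
  obtain ⟨u, hu, o, ho, rfl⟩ := mem_sup_of_le_normalizer_right le_normalizer_of_normal |>.1 hm
  have ho' : QuotientGroup.mk' (Cfsg.oddCore D) o = 1 := (QuotientGroup.eq_one_iff _).2 ho
  rw [map_mul, map_mul, ho', mul_one, MonoidHom.comp_apply, ← map_mul, ← map_mul, ← map_mul,
    mul_assoc, h2 x hx, ← mul_assoc, ← hUj hu _ (mem_zpowers _), mul_assoc]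

end Ex2

/-- `Ex2.main` inside a subgroup `X` of an ambient group. -/
theorem ex_in2 [Finite D] (X : Subgroup D) (ι : SL(2, F) →* D) (hL : ∀ y, ι y ∈ X) {t g : D}
    (hg : g ∈ X) (hgt : g * ι (-1) * g⁻¹ = t) (odd : Odd (Fintype.card F))
    (inj : Function.Injective ι)
    (norm : ∀ c ∈ X, c * ι (-1) = ι (-1) * c → ∀ y, ∃ y', c * ι y * c⁻¹ = ι y')
    (pgl : ∀ c ∈ X, c * ι (-1) = ι (-1) * c → c * c = 1 → ∃ g, Rep ι c g)
    (comm : ∀ c ∈ X, ∀ s ∈ X, c * ι (-1) = ι (-1) * c → c * c = 1 → s * s = ι (-1) →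
      (∀ y, s * ι y = ι y * s) → c * s = s * c)
    (uniq : ∀ s ∈ X, s * s = 1 → (∀ y, s * ι y = ι y * s) → s = 1 ∨ s = ι (-1))
    (tj : t * ι (-1) = ι (-1) * t) (hne : t ≠ ι (-1)) (h3 : 3 < Fintype.card F) :
    ∃ d ∈ X, (∀ a, d * ι (uu a) = ι (uu a) * d) ∧ d * ι (-1) ≠ ι (-1) * d := by
  have ht : t ∈ X := hgt ▸ mul_mem (mul_mem hg (hL _)) (inv_mem hg)
  have h : Ex2 (ι.codRestrict X hL) ⟨t, ht⟩ :=
    { odd := odd
      inj := fun _ _ e => inj (congrArg Subtype.val e)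
      norm := fun c hc y => (norm c c.2 (congrArg Subtype.val hc) y).imp fun _ e => Subtype.ext e
      pgl := fun c hc h2 => (pgl c c.2 (congrArg Subtype.val hc) (congrArg Subtype.val h2)).imp
        fun _ hg => ⟨hg.1, fun y => (hg.2 y).imp fun _ e => ⟨Subtype.ext e.1, e.2⟩⟩
      comm := fun c s hc h2 hs hk => Subtype.ext (comm c c.2 s s.2 (congrArg Subtype.val hc)
        (congrArg Subtype.val h2) (congrArg Subtype.val hs) fun y => congrArg Subtype.val (hk y))
      uniq := fun s hs hk => (uniq s s.2 (congrArg Subtype.val hs)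
        fun y => congrArg Subtype.val (hk y)).imp Subtype.ext Subtype.ext
      tt := Subtype.ext (by
        change t * t = 1
        rw [← hgt, conj_mul, j_mul_j]; simp)
      tj := Subtype.ext tj
      t_ne := by
        rintro (e | e)
        · have e' : t = 1 := congrArg Subtype.val e
          rw [← hgt, conj_eq_one_iff, ← map_one ι] at e'
          exact Class.Dickson.neg_one_ne_one_SL (Inv.two_ne_zero_of_odd odd) (inj e')
        · exact hne (congrArg Subtype.val e)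
      big := h3 }
  obtain ⟨d, h1, h2⟩ := h.main (isConj_iff.2 ⟨⟨g, hg⟩, Subtype.ext hgt⟩)
  exact ⟨d, d.2, fun a => congrArg Subtype.val (h1 a), fun e => h2 (Subtype.ext e)⟩

end Cfsg.Agent.FW
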