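import Mathlib
import Cfsg.Agent.FW.Cfg

/-!
If the root subgroup of the smaller factor has centraliser outside `C(j)`, then there are commuting root subgroups
of different types at 30 degrees.
-/

set_option autoImplicit false
set_option linter.unusedSectionVars false

namespace Cfsg.Agent.FW

open Cfsg.Agent.KSG.M2 hiding dg coe_dg
open Cfsg.Agent.KSG Cfsg.Agent.RootSub Subgroup Cfsg.Agent.PLocal.Amb
open Cfsg.Agent.Comm.Hex (dg coe_dg coe_ww dg_mul)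
open scoped MatrixGroups

variable {F K G : Type*} [Field F] [Field K] [Group G]

theorem ne_neg_of_odd (h2 : (2 : F) ≠ 0) {A B : SL(2, F)} (hA : Odd (orderOf A)) (hB : Odd (orderOf B)) :
    A ≠ -B := by
  rintro rfl
  have h1 : (-B) ^ (orderOf (-B) * orderOf B) = 1 := by rw [pow_mul, pow_orderOf_eq_one, one_pow]
  have h3 : B ^ (orderOf (-B) * orderOf B) = 1 := by rw [mul_comm, pow_mul, pow_orderOf_eq_one, one_pow]
  rw [(hA.mul hB).neg_pow, h3] at h1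
  have := congrArg (fun A : SL(2, F) => A.1 0 0) h1
  simp at this
  exact h2 (by linear_combination -this)

theorem odd_cg (M : GL (Fin 2) F) {A : SL(2, F)} (hA : Odd (orderOf A)) : Odd (orderOf (cg M A)) := by
  rwa [orderOf_injective _ (cg_inj M)]

/-- `A` has odd order, is inverted by `m` and commutes with its conjugates under the torus of `m`. -/
structure Rt (m : GL (Fin 2) F) (A : SL(2, F)) : Prop where
  odd : Odd (orderOf A)
  inv : cg m A = A⁻¹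
  comm : ∀ M, Commute M m → Commute A (cg M A)

theorem Rt.cases (h2 : (2 : F) ≠ 0) {A : SL(2, F)} (h : Rt (dm (-1)) A) : (∃ s, A = xx s) ∨ ∃ s, A = yy s := by
  have e := cg_eq_iff.1 h.inv
  have e0 := congrFun (congrFun e 0) 0
  rw [SL_coe_inv] at e0
  simp [mul_apply2, coe_dm, Matrix.trace_fin_two] at e0
  have hd : A.1 0 0 * A.1 1 1 - A.1 0 1 * A.1 1 0 = 1 := sl2_det A
  have h0 : A.1 0 0 ≠ 0 := fun h0 => ne_neg_of_odd h2 (A := A * A) (B := 1)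
    (sq A ▸ h.odd.of_dvd_nat (orderOf_pow_dvd 2)) (by simp)
    (SL_sq_eq_neg_one_iff.2 (by rw [Matrix.trace_fin_two, ← e0, h0, add_zero]))
  have hz : A.1 0 1 * A.1 1 0 = 0 := by
    by_cases h1 : A.1 0 0 * A.1 0 0 = 1
    · rw [← e0] at hd; linear_combination h1 - hd
    have e1 := congrArg (fun X : SL(2, F) => X.1 0 0) (h.comm (dm (Units.mk0 _ h0)) (dm_comm _ _)).eq
    simp only [Matrix.SpecialLinearGroup.coe_mul, coe_cg, ← map_inv, coe_dm, mul_apply2] at e1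
    simp at e1
    field_simp at e1
    exact (mul_eq_zero.1 (by linear_combination -e1)).resolve_right (sub_ne_zero.2 h1)
  have h1 : A.1 0 0 = 1 := by
    rw [hz, ← e0] at hd
    refine (mul_self_eq_one_iff.1 (by linear_combination hd)).resolve_right fun h1 => ?_
    have hx : ∃ s, -A = xx s ∨ -A = yy s := by
      rcases mul_eq_zero.1 hz with hz | hz
      · exact ⟨-A.1 1 0, Or.inr (Subtype.ext (by apply ext2 <;> simp [hz, h1, ← e0]))⟩
      · exact ⟨-A.1 0 1, Or.inl (Subtype.ext (by apply ext2 <;> simp [hz, h1, ← e0]))⟩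
    obtain ⟨k, hk⟩ := h.odd
    have e2 := congrArg (fun X : SL(2, F) => X.1 0 0) (pow_orderOf_eq_one A)
    obtain ⟨s, hs | hs⟩ := hx <;> rw [neg_eq_iff_eq_neg] at hs <;>
      rw [hk, hs, (show Odd (2 * k + 1) from ⟨k, rfl⟩).neg_pow] at e2
    · simp [xx_pow] at e2; exact h2 (by linear_combination -e2)
    · simp [yy_pow] at e2; exact h2 (by linear_combination -e2)
  rcases mul_eq_zero.1 hz with hz | hz
  · exact Or.inr ⟨A.1 1 0, Subtype.ext (by apply ext2 <;> simp [hz, h1, ← e0])⟩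
  · exact Or.inl ⟨A.1 0 1, Subtype.ext (by apply ext2 <;> simp [hz, h1, ← e0])⟩

theorem Rt.eq_one (h2 : (2 : F) ≠ 0) {m : GL (Fin 2) F} (hm : m.1.trace = 0) (hs : ¬ IsSquare (-m.1.det))
    {A : SL(2, F)} (h : Rt m A) : A = 1 := by
  have hd : (1 + m.1).det ≠ 0 := fun e => hs ⟨1, by
    have := det_smul_add m.1 1 1
    rw [one_smul, one_smul, e, hm] at this
    linear_combination this⟩
  have c := (h.comm (Matrix.GeneralLinearGroup.mkOfDetNeZero _ hd) (commute_iff.2 (by simp [add_mul, mul_add]))).eq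
  generalize hX : cg (Matrix.GeneralLinearGroup.mkOfDetNeZero _ hd) A = X at c
  have e1 : (1 + m.1) * A.1 = X.1 * (1 + m.1) := cg_eq_iff.1 hX
  have e2 := cg_eq_iff.1 h.inv
  rw [SL_coe_inv] at e2
  have e3 : (1 + m.1) * A.1 * ((1 - m.1) * A.1) = A.1 * ((1 + m.1) * A.1 * (1 - m.1)) := by
    have e4 : (1 + m.1) * (1 - m.1) = (1 + m.1.det) • (1 : Matrix (Fin 2) (Fin 2) F) := by
      rw [add_mul, mul_sub, mul_sub, sq_eq m.1, hm]; simp [add_smul]; abel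
    rw [e1, mul_assoc, ← mul_assoc (1 + m.1), mul_assoc X.1, e4, Matrix.smul_mul, Matrix.mul_smul, Matrix.mul_smul,
      Matrix.mul_smul, one_mul, mul_one]
    exact congrArg _ (congrArg Subtype.val c).symm
  by_contra h1
  have hns : ¬ IsScal A.1 := fun hA => by
    have e := h.inv
    rw [show cg m A = A from cg_eq_iff.2 (hA.comm _).symm, ← mul_eq_one_iff_eq_inv] at e
    exact h1 (eq_one_of_odd_sq h.odd e)
  have a0 := (ext2_iff.1 e2).1
  have b1 := (ext2_iff.1 e3).2.1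
  rw [Matrix.trace_fin_two] at hm
  rw [Matrix.det_fin_two] at hs
  simp [mul_apply2, Matrix.trace_fin_two] at a0 b1
  rw [IsScal] at hns
  generalize A.1 0 0 = x at *; generalize A.1 0 1 = y at *; generalize A.1 1 0 = z at *
  generalize A.1 1 1 = x' at *; generalize m.1 0 0 = u at *; generalize m.1 0 1 = v at *
  generalize m.1 1 0 = w at *; generalize m.1 1 1 = u' at *
  obtain rfl : u' = -u := by linear_combination hm
  have hv : v ≠ 0 := fun e => hs ⟨u, by rw [e]; ring⟩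
  have k0 : (x - x') * u + y * w + z * v = 0 := by linear_combination a0
  have k1 : (x - x') ^ 2 + 4 * y * z = 0 :=
    mul_left_cancel₀ hv (by linear_combination b1 + (2 * y * (1 + u) - v * (x - x')) * k0)
  by_cases hy : y = 0
  · subst hy
    have h5 : x - x' = 0 := pow_eq_zero_iff two_ne_zero |>.1 (by linear_combination k1)
    exact hns ⟨rfl, mul_right_cancel₀ hv (by linear_combination k0 - u * h5), sub_eq_zero.1 h5⟩
  · refine hs ⟨(2 * u * y - (x - x') * v) / (2 * y), ?_⟩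
    field_simp
    linear_combination 4 * y * v * k0 - v ^ 2 * k1

theorem eq_bot_of_neg_not_mem [Fintype F] (h2 : (2 : F) ≠ 0) (N : Subgroup SL(2, F)) [N.Normal] (h : -1 ∉ N) :
    N = ⊥ := by
  refine odd_normal_eq_bot (odd_card h2) N (Nat.not_even_iff_odd.1 fun e => ?_)
  obtain ⟨x, hx⟩ := exists_prime_orderOf_dvd_card' (G := N) 2 e.two_dvd
  rcases (SL_sq_eq_one_iff (g := x.1) h2).1 (by exact_mod_cast hx ▸ pow_orderOf_eq_one x) with e | e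
  · rw [show x = 1 from Subtype.ext e] at hx; simp at hx
  · exact h (e ▸ x.2)

variable {φ : SL(2, F) →* G} {ψ : SL(2, K) →* G} [Fintype F] [Fintype K]

theorem Good.exists_tv (h : Good φ ψ) : ∃ t m', Tv φ ψ t (dm (-1)) m' := by
  by_cases hs : IsSquare (-1 : F)
  · obtain ⟨m, m', h1⟩ := h.pre.tv (t := φ ww * ψ ww) (by
        rw [← sq, (h.comm _ _).mul_pow, sq, sq, ← map_mul, ← map_mul, ww_mul_self, ww_mul_self, h.neg,
          h.pre.j_mul_j])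
      (fun e => not_scal h.twoF (anti_ww.trace h.twoF)
        ((h.pre.act_mulφ ww ww).isScal h.φ_inj fun _ => e ▸ Commute.one_left _))
      (fun e => not_scal h.twoF (anti_ww.trace h.twoF)
        ((h.pre.act_mulφ ww ww).isScal h.φ_inj fun _ => e ▸ (comm_neg _).symm)) (h.pre.act_mulφ ww ww).comm_j
    obtain ⟨P, h2⟩ := h1.exists_split' (neg_one_mul m.1.det ▸ hs.mul
      ((h1.a1.sq_iff h.φ_inj (h.pre.act_mulφ ww ww)).2 (sq_det_tg _)))
    exact ⟨_, _, h2⟩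
  · obtain ⟨t, M, M', tt, a, -, hM⟩ := h.out
    have key : ¬ ∀ A, Commute t (φ A) := fun e => hM ((a.sq_iff h.φ_inj (actG_of_comm e)).2 (by simp))
    obtain ⟨m, m', h1⟩ := h.pre.tv tt (fun e => key fun _ => e ▸ Commute.one_left _)
      (fun e => key fun _ => e ▸ (comm_neg _).symm) a.comm_j
    obtain ⟨P, h2⟩ := h1.exists_split' (by
      rw [← neg_one_mul, sq_mul_iff (by simp) (det_ne m), h1.a1.sq_iff h.φ_inj a]; tauto)
    exact ⟨_, _, h2⟩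

namespace Tv

variable {t : G} {m' : GL (Fin 2) K}

local notation "j" => φ (-1)

theorem split_elt {m : GL (Fin 2) F} (h : Tv φ ψ t m m') {a : G} (aj : Commute a j) (ho : Odd (orderOf a))
    (hi : t * a * t⁻¹ = a⁻¹) (hc : ∀ c ∈ Tr φ ψ m m', Commute a (c * a * c⁻¹)) :
    ∃ A B, a = φ A * ψ B ∧ Rt m A ∧ Rt m' B := by
  have aH : a ∈ Hl φ ψ := (mul_mem_cancel_left (Tr_le _ _ h.t_mem)).1
    (h.pre.actG_of_two (h.tj.mul_left aj) (k := 1) (by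
      rw [pow_one, sq, ← mul_assoc, show t * a * t = a⁻¹ by rw [← hi, h.t_inv], inv_mul_cancel]))
  obtain ⟨A, B, rfl, hA, hB⟩ : ∃ A B, a = φ A * ψ B ∧ Odd (orderOf A) ∧ Odd (orderOf B) := by
    obtain ⟨k, hk⟩ := id ho
    obtain ⟨M, M', a1, a2⟩ := pow_mem aH (k + 1)
    have e : a ^ (k + 1) * a ^ (k + 1) = a := by
      rw [← pow_add, show k + 1 + (k + 1) = orderOf a + 1 by omega, pow_succ, pow_orderOf_eq_one, one_mul]
    obtain ⟨A, B, -, -, -, -, -, -, e1⟩ := h.pre.inner (e ▸ a1.mul a1) (e ▸ a2.mul a2) (by rw [sq_det_mul])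
    have e2 := pow_orderOf_eq_one a
    nth_rewrite 1 [e1] at e2
    rw [(h.pre.comm A B).mul_pow, ← map_pow, ← map_pow, ← mul_one (1 : G)] at e2
    rcases h.pre.mul_eq (A' := 1) (B' := 1) (e2.trans (by rw [map_one, map_one])) with ⟨e3, e4⟩ | ⟨e3, e4⟩
    · exact ⟨A, B, e1, ho.of_dvd_nat (orderOf_dvd_of_pow_eq_one e3), ho.of_dvd_nat (orderOf_dvd_of_pow_eq_one e4)⟩
    · refine ⟨-A, -B, ?_, ho.of_dvd_nat (orderOf_dvd_of_pow_eq_one (by rw [ho.neg_pow, e3, neg_neg])),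
        ho.of_dvd_nat (orderOf_dvd_of_pow_eq_one (by rw [ho.neg_pow, e4, neg_neg]))⟩
      rw [h.pre.φ_neg, h.pre.ψ_neg, e1, ← (comm_neg A).eq, mul_assoc, ← mul_assoc j, h.pre.j_mul_j, one_mul]
  rw [← conj_mul, h.a1, h.a2, mul_inv_rev, ← (h.pre.comm A B).inv_inv.eq, ← map_inv, ← map_inv] at hi
  obtain ⟨e1, e2⟩ := (h.pre.mul_eq hi).resolve_right fun e =>
    ne_neg_of_odd h.pre.twoF (odd_cg m hA) (by simpa using hA) e.1
  have key : ∀ {c M M'}, c ∈ Tr φ ψ m m' → ActG φ c M → ActG ψ c M' →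
      Commute A (cg M A) ∧ Commute B (cg M' B) := fun {c M M'} hT a1 a2 => by
    have e := (hc c hT).eq
    rw [← conj_mul, a1, a2, (h.pre.comm _ _).symm.mul_mul_mul_comm, (h.pre.comm _ _).symm.mul_mul_mul_comm,
      ← map_mul, ← map_mul, ← map_mul, ← map_mul] at e
    refine (h.pre.mul_eq e).resolve_right fun e => ne_neg_of_odd h.pre.twoF (A := A * cg M A * A⁻¹)
      (by rw [PLocal.Amb.orderOf_conj']; exact odd_cg M hA) (odd_cg M hA) ?_
    rw [e.1, neg_mul, mul_inv_cancel_right]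
  refine ⟨A, B, rfl, ⟨hA, e1, fun M hM => ?_⟩, ⟨hB, e2, fun M hM => ?_⟩⟩
  · obtain ⟨c, hT, a1⟩ := h.surj hM
    obtain ⟨-, M', -, a2, -⟩ := id hT
    exact (key hT a1 a2).1
  · obtain ⟨c, hT, a2⟩ := h.symm.surj hM
    obtain ⟨-, M', -, a1, -⟩ := id hT
    exact (key ((Tr_symm _ _).le hT) a1 a2).2

theorem diag (h : Tv φ ψ t (dm (-1)) m') {c : G} (hc : c ∈ Tr φ ψ (dm (-1)) m') : ∃ r, ActG φ c (dm r) := by
  obtain ⟨M, -, a, -, e, -⟩ := hc
  exact a.diag h.pre.twoF e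

theorem anti_norm [Finite G] {m : GL (Fin 2) F} (h : Tv φ ψ t m m') {W : SL(2, F)} (hW : Anti (tg W) m) :
    φ W ∈ 𝐍[Tr φ ψ m m'] := mem_normalizer_fintype fun c ⟨M, M', a, b, e, e'⟩ =>
  ⟨_, _, ((actG_self W).mul a).mul (actG_self W).inv, ((h.pre.actψ W).mul b).mul (h.pre.actψ W).inv,
    (hW.mul_comm e).mul hW.inv, by simpa using e'⟩

theorem act_of_mem {m : GL (Fin 2) F} (h : Tv φ ψ t m m') {u : G} (hu : u ∈ Tr φ ψ m m') (e : u * u = 1)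
    (h1 : u ≠ 1) (hj : u ≠ j) : Tv φ ψ u m m' := by
  rcases h.mem_V hu e with e | e | rfl | rfl
  exacts [(h1 e).elim, (hj e).elim, h, h.jt]

theorem cfg_of [Finite G] (h : Tv φ ψ t (dm (-1)) (dm (-1))) {g : G} (hg : g ∈ 𝐍[Tr φ ψ (dm (-1)) (dm (-1))])
    (gj : g * j * g⁻¹ ≠ j) (ls : ∀ s r, Commute (ψ (xx s)) (g * φ (xx r) * g⁻¹)) :
    ∃ φ' c, Cfg φ' ψ ∧ Commute c j ∧ FW.cjh (φ' ww * ψ ww) φ' = FW.cjh c φ := by
  replace h := h.act_of_mem (conj_mem_of_mem_normalizer hg h.j_mem) (by rw [conj_mul, h.pre.j_mul_j]; simp)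
    (by simpa using h.pre.j_ne) gj
  generalize ht : g * j * g⁻¹ = t at h
  have hm : ψ ww ∈ 𝐍[Tr φ ψ (dm (-1)) (dm (-1))] := Tr_symm (φ := φ) (ψ := ψ) _ _ ▸ h.symm.anti_norm anti_ww
  have hg' := mul_mem (inv_mem hm) hg
  have e5 : (ψ ww)⁻¹ * g * j * ((ψ ww)⁻¹ * g)⁻¹ = j * t := by
    rw [← h.anti_conj' (W := ww⁻¹) (by rw [map_inv]; exact anti_ww.inv), ← ht, map_inv]; group
  have eg : g = ψ ww * ((ψ ww)⁻¹ * g) := by group
  generalize (ψ ww)⁻¹ * g = g' at hg' e5 eg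
  subst eg
  have key : ∀ {u}, Tv φ ψ u (dm (-1)) (dm (-1)) ∨ u = j → u ≠ j * t → Tv φ ψ (g'⁻¹ * u * g') (dm (-1)) (dm (-1)) :=
    fun {u} hu hne => by
      obtain ⟨h1, h2, h3⟩ : u ∈ Tr φ ψ (dm (-1)) (dm (-1)) ∧ u * u = 1 ∧ u ≠ 1 := by
        rcases hu with hu | rfl
        exacts [⟨hu.t_mem, hu.tt, hu.t_ne_one⟩, ⟨h.j_mem, h.pre.j_mul_j, h.pre.j_ne⟩]
      refine h.act_of_mem (inv_conj_mem_of_mem_normalizer hg' h1)
        (by rw [show g'⁻¹ * u * g' * (g'⁻¹ * u * g') = g'⁻¹ * (u * u) * g' by group, h2]; simp)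
        (fun e => h3 (by rw [show u = g' * (g'⁻¹ * u * g') * g'⁻¹ by group, e]; simp))
        fun e => hne (by rw [← e5, ← e]; group)
  have hc : Commute (FW.cjh g' φ ww * ψ ww * g') j := by
    have := (key (Or.inl h) fun e => h.pre.j_ne (by simpa using e)).anti_conj anti_ww
    rw [Commute, SemiconjBy, ← mul_inv_eq_iff_eq_mul, cjh_apply,
      show g' * φ ww * g'⁻¹ * ψ ww * g' * j * (g' * φ ww * g'⁻¹ * ψ ww * g')⁻¹ =
        g' * (φ ww * (g'⁻¹ * (ψ ww * g' * j * (ψ ww * g')⁻¹) * g') * (φ ww)⁻¹) * g'⁻¹ by group, ht, this,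
      ← conj_mul, e5, mul_assoc, show g' * (g'⁻¹ * t * g') * g'⁻¹ = t by group, h.tt, mul_one]
  have p3 : Pre (FW.cjh (FW.cjh g' φ ww * ψ ww) (FW.cjh g' φ)) ψ := cjh_cjh _ g' φ ▸ h.pre.cjh_left hc
  have aj : ActG (FW.cjh g' φ) j (dm (-1)) := (key (Or.inr rfl) fun e => h.t_ne_one (by simpa using e)).a1.conj
  have dT : ∀ c ∈ Tr φ ψ (dm (-1)) (dm (-1)), ∃ r, ActG (FW.cjh g' φ) c (dm r) := fun c hc => by
    obtain ⟨r, a⟩ := h.diag (inv_conj_mem_of_mem_normalizer hg' hc)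
    exact ⟨r, a.conj⟩
  have dgT : ∀ c, φ (dg c) ∈ Tr φ ψ (dm (-1)) (dm (-1)) := fun c => ⟨_, _, actG_dg c, h.pre.actψ _, dm_comm _ _, by simp⟩
  refine ⟨FW.cjh g' φ, _, ⟨p3, fun r r' => ?_,
    fun c => h.symm.diag ((Tr_symm _ _).ge (conj_mem_of_mem_normalizer hg' (dgT c))),
    fun c => dT _ ⟨_, _, h.pre.actφ _, actG_dg c, by simp, dm_comm _ _⟩, by rw [cjh_apply, e5]; exact h.jt.a2,
    h.pre.neg ▸ aj, fun s r => by simpa [X0, X1, cjh_apply, mul_assoc] using ls s r⟩, hc, cjh_cjh _ _ _⟩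
  choose e he using fun c => dT _ (dgT c)
  have inj : Function.Injective e := fun c c' ec => by
    have a := ((he c).mul (ec ▸ (he c').inv)).of_isScal (by simpa using isScal_one)
    have b : ∀ B, Commute (φ (dg c) * (φ (dg c'))⁻¹) (ψ B) := fun B =>
      (h.pre.comm _ B).mul_left (h.pre.comm _ B).inv_left
    rcases p3.ker _ (fun A => (((a _).mul_right (b _)).mul_right (a A)).mul_right
      ((a _).mul_right (b _)).inv_right) b with e1 | e1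
    · have := congrArg (fun A : SL(2, F) => A.1 0 0) (h.pre.φ_inj (mul_inv_eq_one.1 e1))
      exact Units.ext (by simpa [coe_dg] using this)
    · rw [← p3.neg, h.pre.neg] at e1
      exact (not_scal h.pre.twoF trace_dm (aj.isScal (cjh_inj h.pre.φ_inj _) (e1 ▸ a))).elim
  obtain ⟨τ, hτ, a2⟩ := h.symm.surj (dm_comm r' (-1))
  obtain ⟨r0, a1⟩ := dT τ ((Tr_symm _ _).le hτ)
  obtain ⟨c, hc⟩ := Finite.injective_iff_surjective.1 inj (r * r0⁻¹)
  exact ⟨φ (dg c) * τ, by simpa [← map_mul, hc] using (he c).mul a1, by simpa using (h.pre.actψ _).mul a2⟩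

variable [Finite G] (h : Tv φ ψ t (dm (-1)) m')
include h

theorem conj_jt {W : SL(2, K)} (hW : Anti (tg W) m') {b : G} (hb : b ∈ Oc φ) (e : Commute b (j * t)) :
    ψ W * b * (ψ W)⁻¹ ∈ Oc φ ∧ Commute (ψ W * b * (ψ W)⁻¹) t := by
  refine ⟨Oc.conj_of_comm (fun _ => (h.pre.comm _ _).symm) hb, ?_⟩
  have := e.map (MulAut.conj (ψ W)).toMonoidHom
  rwa [show (MulAut.conj (ψ W)).toMonoidHom (j * t) = t from by
    rw [show (MulAut.conj (ψ W)).toMonoidHom (j * t) = _ from h.jt.anti_conj' hW, ← mul_assoc, h.pre.j_mul_j,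
      one_mul]] at this

theorem exists_ne {o : G} (ho : o ∈ Oc φ) (hj : ¬ Commute o j) : ∃ b ∈ Oc φ, Commute b t ∧ b ≠ 1 := by
  by_contra! hn
  obtain ⟨W, hW⟩ := exists_anti h.pre.twoK h.tr2
  obtain ⟨s, b, hb, c, hc, eb, ec, rfl⟩ := h.pre.dec3 h.a1 h.tt ho
  obtain ⟨h1, h2⟩ := h.conj_jt hW hb eb
  rw [hn c hc ec, conj_eq_one_iff.1 (hn _ h1 h2)] at hj
  exact hj (by simp [comm_neg (xx s)])

theorem card_le {g o : G} (hg : g ∈ 𝐍[Tr φ ψ (dm (-1)) m']) (ho : o ∈ Oc φ) (hj : ¬ Commute o j)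
    (hB : ∀ b ∈ Oc φ, Commute b t → ∃ s, b = g * φ (xx s) * g⁻¹) {α : Type*} (f : α → SL(2, K))
    (hf : Function.Injective f) (ht : ∀ a, Commute (tg (f a)) m') : Nat.card α ≤ Nat.card Fˣ := by
  obtain ⟨W, hW⟩ := exists_anti h.pre.twoK h.tr2
  have hN : ((𝐂[Oc φ]).comap ψ).Normal := ⟨fun x hx y => by
    rw [mem_comap, map_mul, map_mul, map_inv]
    exact conj_mem_of_mem_normalizer (normalizer_le_normalizer_centralizer _ (mem_normalizer_fintype fun _ =>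
      Oc.conj_of_comm fun _ => (h.pre.comm _ _).symm)) hx⟩
  have e0 := eq_bot_of_neg_not_mem h.pre.twoK ((𝐂[Oc φ]).comap ψ) fun e => hj (h.pre.neg ▸ e o ho)
  choose e he using fun a => h.diag (inv_conj_mem_of_mem_normalizer hg (h.ψ_mem (h.comm_ψ.2 (ht a))))
  refine Nat.card_le_card_of_injective e fun a a' ea => hf (mul_inv_eq_one.1 (mem_bot.1 (e0 ▸ ?_)))
  have c1 : Commute (tg (f a * (f a')⁻¹)) m' := by rw [map_mul, map_inv]; exact (ht a).mul_left (ht a').inv_left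
  have c2 := ((he a).mul (ea ▸ (he a').inv)).of_isScal (by simpa using isScal_one)
  rw [show g⁻¹ * ψ (f a) * g * (g⁻¹ * ψ (f a') * g)⁻¹ = g⁻¹ * ψ (f a * (f a')⁻¹) * g by
    rw [map_mul, map_inv]; group] at c2
  generalize f a * (f a')⁻¹ = x at c1 c2
  have c3 : ∀ b ∈ Oc φ, Commute b t → Commute b (ψ x) := fun b hb e => by
    obtain ⟨s, rfl⟩ := hB b hb e
    simpa [mul_assoc] using (c2 (xx s)).symm.map (MulAut.conj g).toMonoidHom
  have c4 : W * x * W⁻¹ = x⁻¹ := by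
    obtain ⟨a, b, e⟩ := (comm_iff (not_scal h.pre.twoK h.tr2)).1 (commute_iff.1 c1).symm
    rw [mul_inv_eq_iff_eq_mul]
    refine Subtype.ext ?_
    change (tg W).1 * (tg x).1 = (x⁻¹).1 * (tg W).1
    rw [SL_coe_inv, ← coe_tg x, e, trace_smul_add, h.tr2, mul_add, sub_mul, add_mul]
    simp only [Matrix.mul_smul, Matrix.smul_mul, mul_one, one_mul, hW.trans rfl]
    module
  intro o ho
  obtain ⟨s, b, hb, c, hc, eb, ec, rfl⟩ := h.pre.dec3 h.a1 h.tt ho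
  refine (((h.pre.comm _ _).mul_left ?_).mul_left (c3 c hc ec)).eq
  obtain ⟨h1, h2⟩ := h.conj_jt hW hb eb
  have := ((c3 _ h1 h2).inv_right.map (MulAut.conj (ψ W)⁻¹).toMonoidHom)
  rw [← map_inv ψ x, ← c4] at this
  simpa [mul_assoc] using this

omit h in
theorem exists_fix (h : Tv φ ψ t (dm (-1)) (dm (-1))) (hq : Fintype.card F = Fintype.card K) {g o : G} (ho : o ∈ Oc φ) (hj : ¬ Commute o j)
    (hB : ∀ b ∈ Oc φ, Commute b t → ∃ s, b = g * φ (xx s) * g⁻¹) :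
    ∃ b ∈ Oc φ, b ≠ 1 ∧ (Commute b t ∨ Commute b (j * t)) ∧ ∀ s, Commute (ψ (xx s)) b := by
  obtain ⟨p, hp, n, hn⟩ := FiniteField.card' F
  have : Fact p.Prime := ⟨hn.1⟩
  have xF : ∀ s : F, xx s ^ p ^ (n : ℕ) = 1 := fun s => by
    rw [← hn.2, xx_pow, FiniteField.cast_card_eq_zero, zero_mul, xx_zero]
  have xK : ∀ s : K, xx s ^ p ^ (n : ℕ) = 1 := fun s => by
    rw [← hn.2, hq, xx_pow, FiniteField.cast_card_eq_zero, zero_mul, xx_zero]
  let R : Subgroup G :=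
    { carrier := {x | ∃ s r, x = ψ (xx s) * φ (xx r)}
      one_mem' := ⟨0, 0, by simp [xx_zero]⟩
      mul_mem' := by
        rintro _ _ ⟨s, r, rfl⟩ ⟨s', r', rfl⟩
        exact ⟨s + s', r + r', by rw [(h.pre.comm _ _).mul_mul_mul_comm, φ_xx_add, φ_xx_add]⟩
      inv_mem' := by
        rintro _ ⟨s, r, rfl⟩
        exact ⟨-s, -r, by rw [φ_xx_neg, φ_xx_neg, ← (h.pre.comm _ _).eq, mul_inv_rev]⟩ }
  have hR : IsPGroup p R := isPGroup_iff.2 (by
    rintro _ ⟨s, r, rfl⟩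
    exact ⟨n, by rw [(h.pre.comm _ _).symm.mul_pow, ← map_pow, ← map_pow, xF, xK]; simp⟩)
  have hRO : R ≤ 𝐍[Oc φ] := by
    rintro _ ⟨s, r, rfl⟩
    exact mem_normalizer_fintype fun _ => Oc.conj_of_comm fun _ => (h.pre.comm _ _).symm.mul_left (xx_comm _ _)
  obtain ⟨W, hW⟩ := exists_anti h.pre.twoK h.tr2
  have hO : IsPGroup p (Oc φ) := by
    have h1 : ∀ b ∈ Oc φ, Commute b t → b ^ p ^ (n : ℕ) = 1 := fun b hb e => by
      obtain ⟨s, rfl⟩ := hB b hb e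
      rw [conj_pow, ← map_pow, xF]; simp
    let Z : Subgroup G := R ⊓ Oc φ
    let A := Oc φ ⊓ centralizer {t}
    let B := Oc φ ⊓ centralizer {j * t}
    have pA : IsPGroup p A := isPGroup_iff.2 fun b hb => ⟨n, h1 b hb.1 (Lyons.mem_cent.1 hb.2).symm⟩
    have pB : IsPGroup p B := isPGroup_iff.2 fun b hb => ⟨n, by
      obtain ⟨e1, e2⟩ := h.conj_jt hW hb.1 (Lyons.mem_cent.1 hb.2).symm
      simpa [conj_pow] using h1 _ e1 e2⟩
    have nZ : ∀ C : Subgroup G, C ≤ Oc φ → Oc φ ≤ 𝐍[C ⊔ Z] := fun C hC o ho => mem_normalizer_fintype fun x hx => by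
      obtain ⟨r, e⟩ := h.pre.comm_mod ho ((sup_le hC inf_le_right) hx)
      rw [e, mul_assoc x, (Oc.comm ho r).eq, ← mul_assoc, mul_inv_cancel_right]
      exact mul_mem hx (mem_sup_right ⟨⟨0, r, by simp [xx_zero]⟩, h.pre.xx_mem r⟩)
    have pZ : IsPGroup p Z := hR.to_le inf_le_left
    have p1 : IsPGroup p ↥(B ⊔ Z) := isPGroup_sup pB pZ (inf_le_left.trans (by simpa using nZ ⊥ bot_le))
    refine (isPGroup_sup pA p1 (inf_le_left.trans (nZ B inf_le_left))).to_le fun o ho => ?_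
    obtain ⟨s, b, hb, c, hc, eb, ec, rfl⟩ := h.pre.dec3 h.a1 h.tt ho
    exact mul_mem (mem_sup_right (mul_mem (mem_sup_right ⟨⟨0, s, by simp [xx_zero]⟩, h.pre.xx_mem s⟩)
      (mem_sup_left ⟨hb, Lyons.mem_cent.2 eb.symm⟩))) (mem_sup_left ⟨hc, Lyons.mem_cent.2 ec.symm⟩)
  have hlt : R < R ⊔ Oc φ := lt_of_le_of_ne le_sup_left fun e => by
    obtain ⟨s, r, rfl⟩ : o ∈ R := e ▸ mem_sup_right ho
    exact hj ((h.pre.comm_jψ _).mul_left (comm_neg _))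
  obtain ⟨y, ⟨hy, hyN⟩, hyR⟩ := SetLike.exists_of_lt (lt_inf_normalizer (isPGroup_sup hR hO hRO) hlt)
  obtain ⟨x, hx, o, ho, rfl⟩ := (mem_sup_of_le_normalizer_right hRO).1 hy
  replace hyN : o ∈ 𝐍[R] := (mul_mem_cancel_left (le_normalizer hx)).1 hyN
  replace hyR : o ∉ R := fun e => hyR (mul_mem hx e)
  have uN : ∀ s, φ (xx s) ∈ 𝐍[R] := fun s => le_normalizer (H := R) ⟨0, s, by simp [xx_zero]⟩
  have tN : t ∈ 𝐍[𝐍[R]] := normalizer_le_normalizer_normalizer R (mem_normalizer_fintype (by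
    rintro _ ⟨s, r, rfl⟩
    exact ⟨-s, -r, by rw [← conj_mul, h.a1.inv_xx, h.a2.inv_xx, φ_xx_neg, φ_xx_neg]⟩))
  have key : ∀ x ∈ Oc φ, x ∈ 𝐍[R] → j * x * j⁻¹ = x⁻¹ → ∀ s, Commute (ψ (xx s)) x := fun x hx xN e s => by
    have h1 : x⁻¹ * (ψ (xx s) * x * (ψ (xx s))⁻¹) ∈ Oc φ :=
      mul_mem (inv_mem hx) (Oc.conj_of_comm (fun _ => (h.pre.comm _ _).symm) hx)
    have hy : ψ (xx s) ∈ R := ⟨s, 0, by simp [xx_zero]⟩
    obtain ⟨s', r, e1⟩ := mul_mem (inv_conj_mem_of_mem_normalizer xN hy) (inv_mem hy)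
    rw [show x⁻¹ * ψ (xx s) * x * (ψ (xx s))⁻¹ = x⁻¹ * (ψ (xx s) * x * (ψ (xx s))⁻¹) by group] at e1
    rw [h.pre.cent_O (B := xx s') ((mul_mem_cancel_right (h.pre.xx_mem r)).1 (e1 ▸ h1)), map_one, one_mul,
      inv_mul_eq_iff_eq_mul] at e1
    have e2 := congrArg (fun z => j * z * j⁻¹) e1
    simp only [← conj_mul, ← conj_inv, e] at e2
    rw [← (h.pre.comm_jψ _).eq, ← (comm_neg _).eq, mul_inv_cancel_right, mul_inv_cancel_right, e1,
      (Oc.comm hx r).eq, mul_inv_rev, mul_right_inj, inv_eq_iff_mul_eq_one] at e2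
    have e3 : φ (xx r) = 1 := FW.eq_one_of_odd_sq (h.pre.odd_xx r) e2
    rw [e3, mul_one, mul_inv_eq_iff_eq_mul] at e1
    exact e1
  obtain ⟨s, b, hb, c, hc, eb, ec, rfl⟩ := h.pre.dec3 h.a1 h.tt ho
  have eb' := h.pre.inv_of_comm h.jt.a1 hb eb
  have e1 := conj_mem_of_mem_normalizer tN hyN
  rw [← conj_mul, ← conj_mul, h.a1.inv_xx, ← ec.eq, mul_inv_cancel_right, show t * b * t⁻¹ = b⁻¹ by
    rw [← eb', h.pre.j_inv, show t = j * (j * t) by rw [← mul_assoc, h.pre.j_mul_j, one_mul], mul_assoc j,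
      ← eb.eq, mul_inv_rev, h.pre.j_inv]; group, mul_assoc, mul_mem_cancel_left (inv_mem (uN s))] at e1
  rw [mul_assoc, mul_mem_cancel_left (uN s)] at hyN
  have bN : b ∈ 𝐍[R] := Lyons.mem_of_odd_of_pow (Oc.odd hb) (k := 1) (by
    simpa [sq, mul_assoc] using mul_mem hyN (inv_mem e1))
  by_cases b1 : b = 1
  · refine ⟨c, hc, fun c1 => hyR ⟨0, s, by simp [b1, c1, xx_zero]⟩, Or.inl ec,
      key c hc ((mul_mem_cancel_left bN).1 hyN) (h.pre.inv_of_comm h.a1 hc ec)⟩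
  · exact ⟨b, hb, b1, Or.inr eb, key b hb bN eb'⟩

omit h in
theorem spread (h : Tv φ ψ t (dm (-1)) (dm (-1))) {g : G} (hg : g ∈ 𝐍[Tr φ ψ (dm (-1)) (dm (-1))]) {a : F}
    (ha : a ≠ 0) (e : ∀ s, Commute (ψ (xx s)) (g * φ (xx a) * g⁻¹)) (s : K) (r : F) :
    Commute (ψ (xx s)) (g * φ (xx r) * g⁻¹) := by
  rcases eq_or_ne r 0 with rfl | hr
  · simp [xx_zero]
  obtain ⟨c, hc, a1⟩ := h.surj (dm_comm (Units.mk0 (r / a) (div_ne_zero hr ha)) (-1))
  obtain ⟨r', a2⟩ := h.symm.diag ((Tr_symm _ _).ge (conj_mem_of_mem_normalizer hg hc))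
  have := (e ((r' : K)⁻¹ * s)).map (MulAut.conj (g * c * g⁻¹)).toMonoidHom
  rw [show (MulAut.conj (g * c * g⁻¹)).toMonoidHom (ψ (xx ((r' : K)⁻¹ * s))) = _ from a2 _, cg_dm_xx,
    mul_inv_cancel_left₀ r'.ne_zero, show (MulAut.conj (g * c * g⁻¹)).toMonoidHom (g * φ (xx a) * g⁻¹) =
      g * (c * φ (xx a) * c⁻¹) * g⁻¹ by simp [mul_assoc], a1, cg_dm_xx] at this
  simpa [ha] using this

theorem conj_xx {a : G} {A : SL(2, F)} (hA : Rt (dm (-1)) A) (e : a = φ A) :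
    ∃ (ε : Bool) (s : F), a = φ (ww ^ ε.toNat) * φ (xx s) * (φ (ww ^ ε.toNat))⁻¹ := by
  rcases hA.cases h.pre.twoF with ⟨s, rfl⟩ | ⟨s, rfl⟩
  · exact ⟨false, s, by simp [e]⟩
  · exact ⟨true, -s, by simp [e, ← map_inv, ← map_mul, ww_conj_xx]⟩

theorem ww_norm (ε : Bool) : φ (ww ^ ε.toNat) ∈ 𝐍[Tr φ ψ (dm (-1)) m'] :=
  map_pow φ ww _ ▸ pow_mem (h.anti_norm anti_ww) _

variable {ρ : G} (hj : ρ * φ (-1) * ρ⁻¹ = t) (ht : ρ * t * ρ⁻¹ = φ (-1) * t)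
include hj ht

theorem split_O {b : G} (hb : b ∈ Oc φ) (e : Commute b t) :
    ∃ A B, ρ⁻¹ * b * ρ = φ A * ψ B ∧ Rt (dm (-1)) A ∧ Rt m' B := by
  refine h.jt.split_elt (by simpa [← hj, mul_assoc] using e.map (MulAut.conj ρ⁻¹).toMonoidHom)
    (by have := PLocal.Amb.orderOf_conj' ρ⁻¹ b; rw [inv_inv] at this; exact this ▸ Oc.odd hb) ?_ fun c hc => ?_
  · rw [show (ρ⁻¹ * b * ρ)⁻¹ = ρ⁻¹ * b⁻¹ * ρ by group, ← h.pre.inv_of_comm h.a1 hb e,
      show j * t = ρ⁻¹ * (ρ * (j * t) * ρ⁻¹) * ρ by group, h.rho_jt hj ht]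
    group
  · have hc' := h.rho_mem hj ht hc
    obtain ⟨r, a⟩ := h.diag hc'
    have := h.pre.comm_of_comm h.a1 hb e (Oc.conj_dm a hb)
      (((h.comm_t hc').mul_left e).mul_left (h.comm_t hc').inv_left)
    simpa [mul_assoc] using this.map (MulAut.conj ρ⁻¹).toMonoidHom

theorem root_O {o : G} (ho : o ∈ Oc φ) (hj' : ¬ Commute o j)
    (hn : ∀ b ∈ Oc φ, Commute b t → ∀ A B, ρ⁻¹ * b * ρ = φ A * ψ B → Rt m' B → B = 1) :
    ∃ g ∈ 𝐍[Tr φ ψ (dm (-1)) m'], g * j * g⁻¹ = t ∧ ∀ b ∈ Oc φ, Commute b t → ∃ s, b = g * φ (xx s) * g⁻¹ := by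
  have key : ∀ b ∈ Oc φ, Commute b t → ∃ (ε : Bool) (s : F),
      b = ρ * φ (ww ^ ε.toNat) * φ (xx s) * (ρ * φ (ww ^ ε.toNat))⁻¹ := fun b hb e => by
    obtain ⟨A, B, e1, hA, hB⟩ := h.split_O hj ht hb e
    rw [hn b hb e A B e1 hB, map_one, mul_one] at e1
    obtain ⟨ε, s, e2⟩ := h.conj_xx hA e1
    exact ⟨ε, s, by rw [show b = ρ * (ρ⁻¹ * b * ρ) * ρ⁻¹ by group, e2]; group⟩
  obtain ⟨b, hb, e, b1⟩ := h.exists_ne ho hj'
  obtain ⟨ε, s, e1⟩ := key b hb e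
  refine ⟨ρ * φ (ww ^ ε.toNat), mul_mem (h.rho_norm hj ht) (h.ww_norm ε), by
    rw [mul_assoc ρ, (comm_neg _).eq, ← hj]; group, fun b' hb' e' => ?_⟩
  obtain ⟨ε', s', e2⟩ := key b' hb' e'
  by_cases hε : ε' = ε
  · exact ⟨s', hε ▸ e2⟩
  have c := (h.pre.comm_of_comm h.a1 hb e hb' e').map (MulAut.conj ρ⁻¹).toMonoidHom
  have hs : s ≠ 0 := fun e => b1 (by simp [e1, e, xx_zero])
  refine ⟨0, ?_⟩
  suffices s' = 0 by simp [e2, this, xx_zero]
  have c' : Commute (ww ^ ε.toNat * xx s * (ww ^ ε.toNat)⁻¹) (ww ^ ε'.toNat * xx s' * (ww ^ ε'.toNat)⁻¹) :=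
    h.pre.φ_inj (by simpa [e1, e2, mul_assoc] using c.eq)
  have := congrArg (fun A : SL(2, F) => A.1 0 0) c'.eq
  cases ε <;> cases ε' <;> simp [ww_conj_xx, mul_apply2, hs] at hε this ⊢ <;> exact this

end Tv

theorem Good.exists_cfg [Finite G] (h : Good φ ψ) (hq : Fintype.card F ≤ Fintype.card K) (h3 : 3 < Fintype.card K)
    {d : G} (hd : ∀ s, Commute d (φ (xx s))) (hj : ¬ Commute d (φ (-1))) :
    ∃ φ' c, Cfg φ' ψ ∧ Commute c (φ (-1)) ∧ FW.cjh (φ' ww * ψ ww) φ' = FW.cjh c φ := by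
  obtain ⟨o, ho, c, hc, rfl⟩ := h.pre.decomp (mem_CU.2 hd)
  replace hj : ¬ Commute o (φ (-1)) := fun e => hj (e.mul_left hc)
  obtain ⟨t, m', h1⟩ := h.exists_tv
  by_cases hs : IsSquare (-m'.1.det)
  swap
  · obtain ⟨ρ, e1, e2⟩ := h.fus t h1.tt h1.t_ne_one h1.t_ne_j h1.tj
    obtain ⟨g, hg, -, hB⟩ := h1.root_O e1 e2 ho hj fun _ _ _ _ _ _ hB => hB.eq_one h.twoK h1.tr2 hs
    have hne : NoEig m'.1 := fun c e => hs ⟨c, by rw [h1.tr2] at e; linear_combination -e⟩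
    have hd : 1 + m'.1.det ≠ 0 := fun e => hs ⟨1, by linear_combination -e⟩
    let X : SL(2, K) := ⟨((1 - m'.1.det) / (1 + m'.1.det)) • 1 + (2 / (1 + m'.1.det)) • m'.1, by
      rw [det_smul_add, h1.tr2]; field_simp; ring⟩
    have hX : NoEig X.1 := hne.smul_add _ (div_ne_zero h.twoK hd)
    have := h1.card_le hg ho hj hB (fun x : centralizer ({X} : Set SL(2, K)) => x.1) Subtype.val_injective
      fun x => commute_iff.2 (comm_of_comm hX.not_isScal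
        (congrArg (fun A : SL(2, K) => A.1) (mem_centralizer_singleton_iff.1 x.2)).symm (by simp [X, add_mul, mul_add]))
    rw [((card_cent_cases (by simpa using hX.disc_ne)).resolve_left fun e => e.1 hX).2, Nat.card_units,
      Nat.card_eq_fintype_card, Nat.card_eq_fintype_card] at this
    omega
  obtain ⟨P, h2⟩ := h1.symm.exists_split' hs
  replace h2 := h2.symm
  generalize ψ P * t * (ψ P)⁻¹ = t at h2
  obtain ⟨ρ, e1, e2⟩ := h.fus t h2.tt h2.t_ne_one h2.t_ne_j h2.tj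
  have hρ := h2.rho_norm e1 e2
  by_cases hn : ∀ b ∈ Oc φ, Commute b t → ∀ A B, ρ⁻¹ * b * ρ = φ A * ψ B → Rt (dm (-1)) B → B = 1
  · obtain ⟨g, hg, gj, hB⟩ := h2.root_O e1 e2 ho hj hn
    have := h2.card_le hg ho hj hB (fun c : Kˣ => dg c) (fun c c' e => Units.ext (by
      simpa [coe_dg] using congrArg (fun A : SL(2, K) => A.1 0 0) e))
      fun c => (comm_of_smul c.ne_zero (dg_eq c)).1 (dm_comm _ _)
    rw [Nat.card_units, Nat.card_units, Nat.card_eq_fintype_card, Nat.card_eq_fintype_card] at this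
    obtain ⟨b, hb, b1, e | e, hc⟩ := h2.exists_fix (by omega) ho hj hB
    · obtain ⟨s, rfl⟩ := hB b hb e
      exact h2.cfg_of hg (gj ▸ h2.t_ne_j) (h2.spread hg (fun e => b1 (by simp [e, xx_zero])) hc)
    · obtain ⟨h3, h4⟩ := h2.conj_jt anti_ww hb e
      obtain ⟨s, e3⟩ := hB _ h3 h4
      have hg' := mul_mem (inv_mem (Tr_symm (φ := φ) (ψ := ψ) _ _ ▸ h2.symm.anti_norm anti_ww)) hg
      obtain rfl : b = (ψ ww)⁻¹ * g * φ (xx s) * ((ψ ww)⁻¹ * g)⁻¹ := by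
        rw [show b = (ψ ww)⁻¹ * (ψ ww * b * (ψ ww)⁻¹) * ψ ww by group, e3]; group
      refine h2.cfg_of hg' (fun e => h2.t_ne_j ?_) (h2.spread hg' (fun e => b1 (by simp [e, xx_zero])) hc)
      rw [← gj, show g * φ (-1) * g⁻¹ = ψ ww * ((ψ ww)⁻¹ * g * φ (-1) * ((ψ ww)⁻¹ * g)⁻¹) * (ψ ww)⁻¹ by group, e,
        (h.pre.comm_jψ _).eq, mul_inv_cancel_right]
  push Not at hn
  obtain ⟨b, hb, e, A, B, e3, hB, B1⟩ := hn
  obtain ⟨ε, s, e4⟩ := h2.symm.conj_xx hB rfl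
  have hs : s ≠ 0 := fun e => B1 (h.ψ_inj (by simp [e4, e, xx_zero]))
  obtain ⟨c, hc⟩ : ∃ c : Kˣ, c * c ≠ 1 := by
    classical
    by_contra! h0
    have : (Finset.univ : Finset K) ⊆ {0, 1, -1} := fun x _ => by
      by_cases hx : x = 0
      · simp [hx]
      · have := congrArg Units.val (h0 (Units.mk0 x hx))
        simpa [hx, mul_self_eq_one_iff] using this
    have := (Finset.card_le_card this).trans Finset.card_le_three
    rw [Finset.card_univ] at this; omega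
  have hg := mul_mem (h2.rho_norm e1 e2) (Tr_symm (φ := φ) (ψ := ψ) _ _ ▸ h2.symm.ww_norm ε)
  have hx : ψ (dg c) ∈ Tr φ ψ (dm (-1)) (dm (-1)) := ⟨_, _, h.pre.actφ _, actG_dg c, by simp, dm_comm _ _⟩
  obtain ⟨r, a⟩ := h2.diag (conj_mem_of_mem_normalizer hg hx)
  have h5 := mul_mem (inv_mem hb) (Oc.conj_dm a hb)
  have e5 : b⁻¹ * (ρ * ψ (ww ^ ε.toNat) * ψ (dg c) * (ρ * ψ (ww ^ ε.toNat))⁻¹ * b *
      (ρ * ψ (ww ^ ε.toNat) * ψ (dg c) * (ρ * ψ (ww ^ ε.toNat))⁻¹)⁻¹) =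
      ρ * ψ (ww ^ ε.toNat) * ψ (xx (-s + (c * c : Kˣ) * s)) * (ρ * ψ (ww ^ ε.toNat))⁻¹ := by
    have c1 : Commute (ψ (ww ^ ε.toNat) * ψ (dg c) * (ψ (ww ^ ε.toNat))⁻¹) (φ A) :=
      ((h.comm _ _).symm.mul_left (h.comm _ _).symm).mul_left (h.comm _ _).symm.inv_left
    rw [φ_xx_add, φ_xx_neg, ← cg_dm_xx, ← actG_dg c, show b = ρ * (ρ⁻¹ * b * ρ) * ρ⁻¹ by group, e3, e4]
    calc _ = ρ * ((ψ (ww ^ ε.toNat) * ψ (xx s) * (ψ (ww ^ ε.toNat))⁻¹)⁻¹ * (φ A)⁻¹ *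
        (ψ (ww ^ ε.toNat) * ψ (dg c) * (ψ (ww ^ ε.toNat))⁻¹ * φ A) * (ψ (ww ^ ε.toNat) * ψ (xx s) *
          (ψ (dg c))⁻¹ * (ψ (ww ^ ε.toNat))⁻¹)) * ρ⁻¹ := by group
      _ = _ := by rw [c1.eq]; group
  rw [e5] at h5
  have h6 := h2.symm.spread (Tr_symm (φ := φ) (ψ := ψ) _ _ ▸ hg) (a := -s + (c * c : Kˣ) * s)
    (fun e => hc (Units.ext (mul_right_cancel₀ hs (by rw [Units.val_one]; linear_combination e))))
    fun r => (Oc.comm h5 r).symm
  refine h2.cfg_of (inv_mem hg) (fun e => h2.t_ne_j ?_) fun s r => by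
    have := (h6 r s).symm.map (MulAut.conj (ρ * ψ (ww ^ ε.toNat))⁻¹).toMonoidHom
    generalize ρ * ψ (ww ^ ε.toNat) = g at this
    simpa [mul_assoc] using this
  rw [← e1, ← mul_inv_cancel_right (φ (-1)) (ψ (ww ^ ε.toNat)), ← (h.pre.comm_jψ _).eq]
  nth_rewrite 1 [← e]
  rw [(h.pre.comm_jψ _).eq]; group

end Cfsg.Agent.FW
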