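import Mathlib
import Cfsg.Agent.FW.Good
import Cfsg.Agent.FW.Arith
import Cfsg.Agent.KSG.CharTools

/-!
The torus of `SL₂(F)` centralised by a matrix of trace zero and nonsquare determinant, and counts of
matrices orthogonal to a matrix of trace zero.
-/

set_option autoImplicit false

namespace Cfsg.Agent.FW.Ch

open Matrix KSG.M2
open scoped MatrixGroups Classical

variable {F : Type*} [Field F]

local notation "M₂" => Matrix (Fin 2) (Fin 2) F
local notation "GL₂" => Matrix.GeneralLinearGroup (Fin 2) F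
local notation "SL₂" => Matrix.SpecialLinearGroup (Fin 2) F

/-! ### Conjugation -/

theorem cg_mul (P Q : GL₂) (A : SL₂) : cg (P * Q) A = cg P (cg Q A) :=
  Subtype.ext (by simp only [coe_cg, _root_.mul_inv_rev, Units.val_mul, Matrix.mul_assoc])

theorem cg_one (A : SL₂) : cg (1 : GL₂) A = A := Subtype.ext (by simp [coe_cg])

theorem cg_cg_inv (P : GL₂) (A : SL₂) : cg P (cg P⁻¹ A) = A := by
  rw [← cg_mul, mul_inv_cancel, cg_one]

theorem cg_inv_cg (P : GL₂) (A : SL₂) : cg P⁻¹ (cg P A) = A := by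
  rw [← cg_mul, inv_mul_cancel, cg_one]

theorem cg_inj (P : GL₂) : Function.Injective (cg P) := fun A B e => by
  rw [← cg_inv_cg P A, e, cg_inv_cg]

theorem cg_eq_iff {P : GL₂} {A B : SL₂} : cg P A = B ↔ P.1 * A.1 = B.1 * P.1 := by
  rw [SL_ext_iff]
  exact Units.mul_inv_eq_iff_eq_mul P

theorem trace_cg (P : GL₂) (A : SL₂) : (cg P A).1.trace = A.1.trace := by
  rw [coe_cg, Matrix.trace_mul_cycle, Units.inv_mul, Matrix.one_mul]

theorem cg_neg (P : GL₂) (A : SL₂) : cg P (-A) = -cg P A :=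
  Subtype.ext (by simp [coe_cg])

theorem cg_toGL (D A : SL₂) : cg (Matrix.SpecialLinearGroup.toGL D) A = D * A * D⁻¹ :=
  cg_eq_iff.2 (by
    change D.1 * A.1 = (D * A * D⁻¹).1 * D.1
    rw [← Matrix.SpecialLinearGroup.coe_mul, ← Matrix.SpecialLinearGroup.coe_mul,
      inv_mul_cancel_right])

theorem cg_of_smul {P : GL₂} {D : SL₂} {r : F} (h : P.1 = r • D.1) (A : SL₂) :
    cg P A = D * A * D⁻¹ :=
  cg_eq_iff.2 (by
    rw [h, smul_mul_assoc, mul_smul_comm, ← Matrix.SpecialLinearGroup.coe_mul,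
      ← Matrix.SpecialLinearGroup.coe_mul, inv_mul_cancel_right])

theorem exists_smul_of_isSquare {P : GL₂} (h : IsSquare P.1.det) :
    ∃ (r : F) (D : SL₂), P.1 = r • D.1 := by
  obtain ⟨r, hr⟩ := h
  have h0 : r ≠ 0 := by
    rintro rfl
    exact GL_det_ne_zero P (by simpa using hr)
  refine ⟨r, ⟨r⁻¹ • P.1, ?_⟩, ?_⟩
  · rw [Matrix.det_smul, hr]; simp; field_simp
  · simp [smul_smul, h0]

theorem isScal_of_cg {P : GL₂} (h : ∀ A, cg P A = A) : IsScal P.1 := by
  have h1 := cg_eq_iff.1 (h (upar 1 (one_pow 2) 1))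
  have h2 := cg_eq_iff.1 (h (cmp 0))
  rw [ext2_iff] at h1 h2
  simp only [mul_apply2, coe_upar, coe_cmp, of_apply, cons_val', cons_val_zero, cons_val_one,
    cons_val_fin_one] at h1 h2
  obtain ⟨a1, a2, -, -⟩ := h1
  obtain ⟨b1, -, -, -⟩ := h2
  refine ⟨?_, ?_, ?_⟩
  · linear_combination b1 + a1
  · linear_combination -a1
  · linear_combination a2

theorem isSquare_iff_of_cg [Finite F] {P Q : GL₂} (h : ∀ A, cg P A = cg Q A) :
    IsSquare P.1.det ↔ IsSquare Q.1.det := by
  have h1 : IsScal (Q⁻¹ * P).1 := isScal_of_cg fun A => by rw [cg_mul, h, cg_inv_cg]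
  obtain ⟨a, ha⟩ := isScal_iff.1 h1
  have h2 : P.1 = a • Q.1 := by
    have : P = Q * (Q⁻¹ * P) := by group
    rw [this, Units.val_mul, ha]; simp
  have h3 : P.1.det * Q.1.det = (a * Q.1.det) * (a * Q.1.det) := by
    rw [h2, Matrix.det_smul]; simp; ring
  exact (isSquare_mul_iff (GL_det_ne_zero P) (GL_det_ne_zero Q)).1 ⟨_, h3⟩

theorem fm_one (A : SL₂) : fm (1 : F ≃+* F) A = A := Subtype.ext (by rw [coe_fm]; ext; simp)

theorem trace_fm (σ : F ≃+* F) (A : SL₂) : (fm σ A).1.trace = σ A.1.trace := by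
  rw [coe_fm]; simp [trace_fin_two]

theorem fm_inj (σ : F ≃+* F) : Function.Injective (fm σ) := fun A B e => by
  have := congrArg Subtype.val e
  rw [coe_fm, coe_fm] at this
  exact Subtype.ext (Matrix.map_injective σ.injective this)

theorem fm_surj (σ : F ≃+* F) : Function.Surjective (fm σ) := fun A =>
  ⟨fm σ.symm A, Subtype.ext (by rw [coe_fm, coe_fm]; ext; simp)⟩

theorem fm_neg (σ : F ≃+* F) (A : SL₂) : fm σ (-A) = -fm σ A :=
  Subtype.ext (by rw [coe_fm]; ext; simp [coe_fm])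

theorem eq_one_of_trace {σ : F ≃+* F} (h : ∀ A : SL₂, σ A.1.trace = A.1.trace) : σ = 1 := by
  ext x
  simpa [trace_cmp] using h (cmp x)

theorem four_ne (h2 : (2 : F) ≠ 0) : (4 : F) ≠ 0 := by
  have : (4 : F) = 2 * 2 := by norm_num
  rw [this]; exact mul_ne_zero h2 h2

theorem nscal_of_trace (h2 : (2 : F) ≠ 0) {P : M₂} (ht : P.trace = 0) (hd : P.det ≠ 0) :
    ¬ IsScal P := fun h => by
  have := h.disc
  rw [ht] at this
  apply hd
  exact (mul_eq_zero.1 (by linear_combination -this)).resolve_left (four_ne h2)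

theorem trace_of_sq {P : M₂} (h : IsScal (P * P)) (hP : ¬ IsScal P) : P.trace = 0 := by
  rw [sq_eq, sub_eq_add_neg, add_comm, ← neg_smul] at h
  exact (isScal_smul_add hP).1 h

theorem cg_eq_inv_iff {P : GL₂} (ht : P.1.trace = 0) {A : SL₂} :
    cg P A = A⁻¹ ↔ (P.1 * A.1).trace = 0 := by
  rw [cg_eq_iff, SL_coe_inv, ext2_iff]
  rw [trace_fin_two] at ht
  simp only [mul_apply2, trace_fin_two, Matrix.sub_apply, Matrix.smul_apply, one_apply_eq,
    smul_eq_mul, ne_eq, zero_ne_one, not_false_eq_true, one_apply_ne, one_ne_zero]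
  constructor
  · rintro ⟨h1, -, -, -⟩
    linear_combination h1 + A.1 1 1 * ht
  · intro h
    refine ⟨?_, ?_, ?_, ?_⟩
    · linear_combination h - A.1 1 1 * ht
    · linear_combination A.1 0 1 * ht
    · linear_combination A.1 1 0 * ht
    · linear_combination h - A.1 0 0 * ht

theorem trace_of_anti (h2 : (2 : F) ≠ 0) {A B : M₂} (h : A * B = -(B * A)) : (A * B).trace = 0 := by
  have := congrArg Matrix.trace h
  rw [Matrix.trace_neg, Matrix.trace_mul_comm B A] at this
  exact (mul_eq_zero.1 (by linear_combination this)).resolve_left h2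

theorem trace_of_anti' (h2 : (2 : F) ≠ 0) {A B : M₂} (hB : B.det ≠ 0) (h : A * B = -(B * A)) :
    A.trace = 0 := by
  have hu : IsUnit B.det := hB.isUnit
  have e : A = A * B * B⁻¹ := by rw [Matrix.mul_assoc, Matrix.mul_nonsing_inv _ hu, Matrix.mul_one]
  have : A.trace = -A.trace := by
    conv_lhs => rw [e, h, Matrix.neg_mul, Matrix.trace_neg, Matrix.trace_mul_cycle,
      Matrix.nonsing_inv_mul _ hu, Matrix.one_mul]
  exact (mul_eq_zero.1 (by linear_combination this)).resolve_left h2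

/-! ### Values of a binary form -/

/-- The number of representations of `c` by the form `x² + d y²`. -/
noncomputable def nq (d c : F) : ℕ := Nat.card {v : F × F // v.1 ^ 2 + d * v.2 ^ 2 = c}

variable [Fintype F]

theorem nq_le {d a b : F} (c : F) (h : a ^ 2 + d * b ^ 2 ≠ 0) :
    nq d c ≤ nq d ((a ^ 2 + d * b ^ 2) * c) := by
  refine Nat.card_le_card_of_injective
    (fun v => ⟨(a * v.1.1 - d * b * v.1.2, a * v.1.2 + b * v.1.1), by
      linear_combination (a ^ 2 + d * b ^ 2) * v.2⟩) fun v w e => ?_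
  obtain ⟨e1, e2⟩ := Prod.ext_iff.1 (congrArg Subtype.val e)
  dsimp only at e1 e2
  refine Subtype.ext (Prod.ext (mul_left_cancel₀ h ?_) (mul_left_cancel₀ h ?_))
  · linear_combination a * e1 + d * b * e2
  · linear_combination a * e2 - b * e1

theorem nq_eq (h2 : (2 : F) ≠ 0) {d c : F} (hd : d ≠ 0) (hc : c ≠ 0) : nq d c = nq d 1 := by
  have hs : ∀ e : F, ∃ a b : F, a ^ 2 + d * b ^ 2 = e := fun e => by
    obtain ⟨a, b, h⟩ := norm_surj (t := 0) (d := d)
      (Or.inl (by simpa using (mul_ne_zero (four_ne h2) hd).symm)) e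
    exact ⟨a, b, by linear_combination h⟩
  apply le_antisymm
  · obtain ⟨a, b, h⟩ := hs c⁻¹
    have := nq_le (d := d) (a := a) (b := b) c (by rw [h]; exact inv_ne_zero hc)
    rwa [h, inv_mul_cancel₀ hc] at this
  · obtain ⟨a, b, h⟩ := hs c
    have := nq_le (d := d) (a := a) (b := b) 1 (by rw [h]; exact hc)
    rwa [h, mul_one] at this

theorem sum_nq (d : F) : ∑ c, nq d c = Fintype.card F ^ 2 := by
  rw [sq, ← Fintype.card_prod, ← Finset.card_univ,
    Finset.card_eq_sum_card_fiberwise (f := fun v : F × F => v.1 ^ 2 + d * v.2 ^ 2)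
      (t := Finset.univ) (fun _ _ => Finset.mem_univ _)]
  refine Finset.sum_congr rfl fun c _ => ?_
  rw [nq, Nat.card_eq_fintype_card, Fintype.card_subtype]

theorem nq_zero_add (h2 : (2 : F) ≠ 0) {d : F} (hd : d ≠ 0) :
    (nq d 0 : ℤ) + (Fintype.card F - 1) * nq d 1 = (Fintype.card F : ℤ) ^ 2 := by
  have h := sum_nq d
  rw [← Finset.add_sum_erase _ _ (Finset.mem_univ 0),
    Finset.sum_congr rfl (fun c hc => nq_eq h2 hd (Finset.ne_of_mem_erase hc)), Finset.sum_const,
    Finset.card_erase_of_mem (Finset.mem_univ _), Finset.card_univ, smul_eq_mul] at h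
  have h1 : 1 ≤ Fintype.card F := Fintype.card_pos
  have := congrArg (Nat.cast : ℕ → ℤ) h
  push_cast [Nat.cast_sub h1] at this
  exact this

/-- The type of the form `x² + d y²`. -/
noncomputable def ety (d : F) : ℤ := if IsSquare (-d) then 1 else -1

theorem nq_one (h2 : (2 : F) ≠ 0) {d : F} (hd : d ≠ 0) :
    (nq d 1 : ℤ) = Fintype.card F - ety d := by
  have h1 : 1 < Fintype.card F := Fintype.one_lt_card
  unfold ety
  split_ifs with h
  · obtain ⟨r, hr⟩ := h
    have h0 : r ≠ -r := fun e => by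
      have : r = 0 := (mul_eq_zero.1 (by linear_combination e)).resolve_left h2
      apply hd
      linear_combination -hr - r * this
    have : nq d 1 = Nat.card F - 1 := by
      rw [nq, ← card_ne_zero_subtype]
      refine Nat.card_congr (((splitEquiv h0).subtypeEquiv
        (q := fun w : F × F => w.1 * w.2 = 1) ?_).trans ?_)
      · intro v
        simp only [splitEquiv, Equiv.coe_fn_mk]
        congr! 1
        linear_combination (-v.2 ^ 2) * hr
      · exact ⟨fun w => ⟨w.1.1, left_ne_zero_of_mul_eq_one w.2⟩,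
          fun x => ⟨(x.1, x.1⁻¹), by simp [x.2]⟩,
          fun w => Subtype.ext (Prod.ext rfl (eq_inv_of_mul_eq_one_right w.2).symm), fun x => rfl⟩
    rw [this, Nat.card_eq_fintype_card, Nat.cast_sub h1.le]; simp
  · have h0 : nq d 0 = 1 := by
      rw [nq, Nat.card_eq_one_iff_exists]
      refine ⟨⟨(0, 0), by simp⟩, fun v => Subtype.ext ?_⟩
      have hv := v.2
      have e2 : v.1.2 = 0 := by
        by_contra e
        exact h ⟨v.1.1 / v.1.2, by field_simp; linear_combination -hv⟩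
      rw [e2] at hv
      exact Prod.ext (by simpa using hv) e2
    have := nq_zero_add h2 hd
    rw [h0] at this
    have h3 : ((Fintype.card F : ℤ) - 1) ≠ 0 := by omega
    apply mul_left_cancel₀ h3
    push_cast at this
    linear_combination this

theorem nq_zero (h2 : (2 : F) ≠ 0) {d : F} (hd : d ≠ 0) :
    (nq d 0 : ℤ) = nq d 1 + ety d * Fintype.card F := by
  have := nq_zero_add h2 hd
  rw [nq_one h2 hd] at this ⊢
  linear_combination this

/-- The sign `η` with `q - η ≡ 2` modulo `4`. -/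
def eta (q : ℕ) : ℤ := if q % 4 = 3 then 1 else -1

theorem eta_sq (q : ℕ) : eta q * eta q = 1 := by unfold eta; split_ifs <;> simp

theorem ety_of_not_sq {d : F} (hd0 : d ≠ 0) (hd : ¬ IsSquare d) :
    ety d = eta (Fintype.card F) := by
  have := isSquare_mul_iff (a := (-1 : F)) (by simp) hd0
  rw [neg_one_mul, FiniteField.isSquare_neg_one_iff] at this
  unfold ety eta
  by_cases h : Fintype.card F % 4 = 3 <;> simp [this, h, hd]

theorem ety_of_sq {d : F} (hd0 : d ≠ 0) (hd : IsSquare d) :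
    ety d = -eta (Fintype.card F) := by
  have := isSquare_mul_iff (a := (-1 : F)) (by simp) hd0
  rw [neg_one_mul, FiniteField.isSquare_neg_one_iff] at this
  unfold ety eta
  by_cases h : Fintype.card F % 4 = 3 <;> simp [this, h, hd]

omit [Fintype F] in
theorem card_orth (h2 : (2 : F) ≠ 0) {P : M₂} (ht : P.trace = 0) (hd : P.det ≠ 0) (τ : F) :
    Nat.card {A : SL₂ // (P * A.1).trace = 0 ∧ A.1.trace = τ} = nq P.det (τ ^ 2 / 4 - 1) := by
  obtain ⟨Q, hQ, e⟩ := exists_companion (nscal_of_trace h2 ht hd)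
  rw [ht] at e
  let Q' : GL₂ := Matrix.GeneralLinearGroup.mkOfDetNeZero Q hQ
  have e1 : ∀ A : SL₂, (P * (cg Q' A).1).trace = (!![0, -P.det; 1, 0] * A.1).trace := fun A => by
    rw [coe_cg, ← Matrix.mul_assoc, ← Matrix.mul_assoc]
    change (P * Q * A.1 * (Q'⁻¹).1).trace = _
    rw [e, Matrix.trace_mul_cycle, ← Matrix.mul_assoc (Q'⁻¹).1]
    change ((Q'⁻¹).1 * Q'.1 * _ * _).trace = _
    rw [Units.inv_mul, Matrix.one_mul]
  have h4 := four_ne h2
  refine Nat.card_congr (Equiv.trans (Equiv.subtypeEquiv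
    (q := fun A : SL₂ => A.1 0 1 = P.det * A.1 1 0 ∧ A.1.trace = τ)
    ⟨cg Q'⁻¹, cg Q', cg_cg_inv Q', cg_inv_cg Q'⟩ fun A => ?_) ?_)
  · conv_lhs => rw [← cg_cg_inv Q' A, e1, trace_cg]
    simp only [Equiv.coe_fn_mk]
    refine and_congr_left' ?_
    rw [trace_fin_two, mul_apply2, mul_apply2]
    simp only [of_apply, cons_val', cons_val_zero, cons_val_one, cons_val_fin_one]
    constructor <;> intro h <;> linear_combination h
  · refine ⟨fun A => ⟨(A.1.1 0 0 - τ / 2, A.1.1 1 0), ?_⟩,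
      fun v => ⟨⟨!![τ / 2 + v.1.1, P.det * v.1.2; v.1.2, τ / 2 - v.1.1], ?_⟩, ?_, ?_⟩,
      fun A => ?_, fun v => ?_⟩
    · obtain ⟨A, h1, h3⟩ := A
      have h5 := A.2
      rw [det_fin_two] at h5
      rw [trace_fin_two] at h3
      dsimp only
      field_simp
      linear_combination (-16 : F) * h5 - 16 * A.1 1 0 * h1 + 16 * A.1 0 0 * h3
    · have := v.2
      rw [det_fin_two_of]
      field_simp at this ⊢
      linear_combination -this
    · simp
    · simp only [trace_fin_two, of_apply, cons_val', cons_val_zero, cons_val_one, cons_val_fin_one]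
      field_simp
      ring
    · obtain ⟨A, h1, h3⟩ := A
      rw [trace_fin_two] at h3
      refine Subtype.ext (Subtype.ext (ext2 ?_ ?_ ?_ ?_))
      · simp
      · simp [h1]
      · simp
      · simp only [of_apply, cons_val', cons_val_one, cons_val_fin_one]
        field_simp
        linear_combination (-2 : F) * h3
    · simp

theorem card_orth_all (h2 : (2 : F) ≠ 0) {P : M₂} (ht : P.trace = 0) (hd : P.det ≠ 0) :
    (Nat.card {A : SL₂ // (P * A.1).trace = 0} : ℤ) =
      Fintype.card F * (Fintype.card F + ety P.det) := by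
  have h4 := four_ne h2
  have e1 : Nat.card {A : SL₂ // (P * A.1).trace = 0} = ∑ τ : F, nq P.det (τ ^ 2 / 4 - 1) := by
    rw [Nat.card_eq_fintype_card, Fintype.card_subtype,
      Finset.card_eq_sum_card_fiberwise (f := fun A : SL₂ => A.1.trace)
      (t := Finset.univ) (fun _ _ => Finset.mem_univ _)]
    refine Finset.sum_congr rfl fun τ _ => ?_
    rw [← card_orth h2 ht hd, Nat.card_eq_fintype_card, Fintype.card_subtype, Finset.filter_filter]
  have e2 : ∀ τ : F, (nq P.det (τ ^ 2 / 4 - 1) : ℤ) = nq P.det 1 +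
      ((if τ = 2 then ety P.det * Fintype.card F else 0) +
        if τ = -2 then ety P.det * Fintype.card F else 0) := fun τ => by
    have hne : (2 : F) ≠ -2 := fun e => h4 (by linear_combination e)
    by_cases h : τ = 2
    · rw [if_pos h, if_neg (h ▸ hne), h, add_zero]
      rw [show (2 : F) ^ 2 / 4 - 1 = 0 by field_simp; norm_num, nq_zero h2 hd]
    · by_cases h' : τ = -2
      · rw [if_neg h, if_pos h', h', show (-2 : F) ^ 2 / 4 - 1 = 0 by field_simp; norm_num,
          nq_zero h2 hd, zero_add]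
      · rw [if_neg h, if_neg h', nq_eq h2 hd, add_zero, add_zero]
        intro e
        have : (τ - 2) * (τ + 2) = 0 := by field_simp at e; linear_combination e
        rcases mul_eq_zero.1 this with e | e
        · exact h (by linear_combination e)
        · exact h' (by linear_combination e)
  rw [e1]
  push_cast
  simp only [e2, Finset.sum_add_distrib, Finset.sum_const, Finset.card_univ, nsmul_eq_mul,
    Finset.sum_ite_eq', Finset.mem_univ, if_true, nq_one h2 hd]
  ring

/-! ### Tori -/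

/-- The centraliser in `SL₂` of a matrix. -/
def Tm (P : M₂) : Subgroup SL₂ where
  carrier := {A | P * A.1 = A.1 * P}
  one_mem' := by simp
  mul_mem' := fun {A B} hA hB => by
    change P * (A.1 * B.1) = A.1 * B.1 * P
    rw [← Matrix.mul_assoc, hA, Matrix.mul_assoc, hB, Matrix.mul_assoc]
  inv_mem' := fun {A} hA => by
    change P * (A⁻¹).1 = (A⁻¹).1 * P
    rw [SL_coe_inv, Matrix.mul_sub, Matrix.sub_mul, hA]; simp

omit [Fintype F] in
theorem mem_Tm {P : M₂} {A : SL₂} : A ∈ Tm P ↔ P * A.1 = A.1 * P := Iff.rfl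

omit [Fintype F] in
theorem neg_mem_Tm {P : M₂} {A : SL₂} (h : A ∈ Tm P) : -A ∈ Tm P := by
  rw [mem_Tm] at h ⊢
  simp [h]

omit [Fintype F] in
theorem Tm_comm {P : M₂} (hP : ¬ IsScal P) {A B : SL₂} (hA : A ∈ Tm P) (hB : B ∈ Tm P) :
    A * B = B * A := Subtype.ext (comm_of_comm hP hA hB)

omit [Fintype F] in
theorem card_Tm (h2 : (2 : F) ≠ 0) {P : M₂} (ht : P.trace = 0) (hd : P.det ≠ 0) :
    Nat.card (Tm P) = nq P.det 1 := by
  have hP := nscal_of_trace h2 ht hd
  refine (Nat.card_congr (Equiv.ofBijective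
    (fun v : {v : F × F // v.1 ^ 2 + P.det * v.2 ^ 2 = 1} =>
      (⟨⟨v.1.1 • (1 : M₂) + v.1.2 • P, by rw [det_smul_add, ht]; linear_combination v.2⟩,
        (comm_iff hP).2 ⟨_, _, rfl⟩⟩ : Tm P)) ⟨fun v w e => ?_, fun A => ?_⟩)).symm
  · obtain ⟨e1, e2⟩ := smul_add_inj hP (congrArg (fun A : Tm P => A.1.1) e)
    exact Subtype.ext (Prod.ext e1 e2)
  · obtain ⟨x, y, e⟩ := (comm_iff hP).1 A.2
    refine ⟨⟨(x, y), ?_⟩, Subtype.ext (Subtype.ext e.symm)⟩
    have := A.1.2
    rw [e, det_smul_add, ht] at this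
    linear_combination this

omit [Fintype F] in
theorem eq_or_inv_of_Tm (h2 : (2 : F) ≠ 0) {P : M₂} (ht : P.trace = 0) (hd : P.det ≠ 0) {A B : SL₂}
    (hA : A ∈ Tm P) (hB : B ∈ Tm P) (h : B.1.trace = A.1.trace) : B = A ∨ B = A⁻¹ := by
  have hP := nscal_of_trace h2 ht hd
  obtain ⟨x, y, e⟩ := (comm_iff hP).1 hA
  obtain ⟨x', y', e'⟩ := (comm_iff hP).1 hB
  have d1 := A.2
  have d2 := B.2
  have t1 : A.1.trace = 2 * x := by rw [e, trace_smul_add, ht]; ring
  rw [t1, e', trace_smul_add, ht] at h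
  rw [e, det_smul_add, ht] at d1
  rw [e', det_smul_add, ht] at d2
  have hx : x' = x := mul_left_cancel₀ h2 (by linear_combination h)
  subst hx
  have : (y' - y) * (y' + y) = 0 :=
    mul_left_cancel₀ hd (by linear_combination d2 - d1)
  rcases mul_eq_zero.1 this with h | h
  · left
    apply Subtype.ext
    rw [e, e', show y' = y by linear_combination h]
  · right
    apply Subtype.ext
    rw [SL_coe_inv, t1, e, e', show y' = -y by linear_combination h]
    module

omit [Fintype F] in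
theorem trace_sq_ne_of_Tm (h2 : (2 : F) ≠ 0) {P : M₂} (ht : P.trace = 0) (hd : P.det ≠ 0) {A : SL₂}
    (hA : A ∈ Tm P) (h1 : A ≠ 1) (h1' : A ≠ -1) : A.1.trace ^ 2 ≠ 4 := by
  have hP := nscal_of_trace h2 ht hd
  obtain ⟨x, y, e⟩ := (comm_iff hP).1 hA
  have hy : y ≠ 0 := fun hy => by
    have : IsScal A.1 := by rw [e]; exact (isScal_smul_add hP).2 hy
    rcases SL_isScal_iff.1 this with h | h
    · exact h1 h
    · exact h1' h
  have := disc_smul_add P x y
  rw [← e, A.2, ht] at this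
  intro h
  have h3 : y ^ 2 * (4 * P.det) = 0 := by linear_combination this - h
  exact mul_ne_zero (pow_ne_zero 2 hy) (mul_ne_zero (four_ne h2) hd) h3

omit [Fintype F] in
theorem Tm_eq_cent {P : M₂} (hP : ¬ IsScal P) {A : SL₂} (hA : A ∈ Tm P) (h : ¬ IsScal A.1) :
    Tm P = Subgroup.centralizer {A} := by
  ext B
  rw [Subgroup.mem_centralizer_singleton_iff]
  refine ⟨fun hB => Tm_comm hP hB hA, fun hB => ?_⟩
  exact comm_of_comm h (mem_Tm.1 hA).symm (congrArg Subtype.val hB).symm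

theorem exists_anti (h2 : (2 : F) ≠ 0) {P : M₂} (ht : P.trace = 0) (hd : P.det ≠ 0) :
    ∃ w : SL₂, w.1 * P = -(P * w.1) := by
  have hP := nscal_of_trace h2 ht hd
  obtain ⟨Q, hQ, e⟩ := exists_similar_det_one hP (B := -P) (by rwa [isScal_neg])
    (by rw [Matrix.trace_neg, ht, neg_zero]) (by rw [Matrix.det_neg]; simp)
    (Or.inl (by rw [ht]; simpa using (mul_ne_zero (four_ne h2) hd).symm))
  exact ⟨⟨Q, hQ⟩, by rw [e, Matrix.neg_mul]⟩

theorem exists_conj_of_trace (h2 : (2 : F) ≠ 0) {P Q : M₂} (ht : P.trace = 0) (ht' : Q.trace = 0)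
    (hd : P.det ≠ 0) (hd' : P.det = Q.det) : ∃ D : SL₂, D.1 * P = Q * D.1 := by
  obtain ⟨D, hD, e⟩ := exists_similar_det_one (nscal_of_trace h2 ht hd)
    (nscal_of_trace h2 ht' (hd' ▸ hd)) (ht.trans ht'.symm) hd'
    (Or.inl (by rw [ht]; simpa using (mul_ne_zero (four_ne h2) hd).symm))
  exact ⟨⟨D, hD⟩, e⟩

theorem exists_trace_pow (h2 : (2 : F) ≠ 0) {P : M₂} (ht : P.trace = 0) (hd : P.det ≠ 0)
    (σ : F ≃+* F) : ∃ k : ℕ, ∀ A ∈ Tm P, (A ^ k).1.trace = σ A.1.trace := by
  have hP := nscal_of_trace h2 ht hd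
  obtain ⟨p, hp⟩ := CharP.exists F
  have := Fact.mk (CharP.char_is_prime F p)
  obtain ⟨i, hi⟩ := exists_eq_pow_pow (p := p) σ
  have hp2 : p ≠ 2 := by
    rintro rfl
    exact h2 two_eq_zero_of_charP
  obtain ⟨l, hl⟩ : Odd (p ^ i) := ((CharP.char_is_prime F p).odd_of_ne_two hp2).pow
  refine ⟨p ^ i, fun A hA => ?_⟩
  obtain ⟨x, y, e⟩ := (comm_iff hP).1 hA
  have e1 : P ^ p ^ i = (-P.det) ^ l • P := by
    rw [hl, pow_succ, pow_mul, sq, sq_eq, ht, zero_smul, zero_sub, ← neg_smul, smul_pow, one_pow,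
      smul_mul_assoc, one_mul]
  rw [Matrix.SpecialLinearGroup.coe_pow, e, add_pow_char_pow_of_commute _ _
    ((Commute.one_left _).smul_left x |>.smul_right y), smul_pow, smul_pow, one_pow, e1, smul_smul,
    trace_smul_add, trace_smul_add, ht, zero_mul, zero_mul, add_zero, add_zero, map_mul, ← hi,
    map_ofNat]

theorem two_mul_card_aut_le (h2 : (2 : F) ≠ 0) : 2 * Nat.card (F ≃+* F) ≤ Fintype.card F := by
  obtain ⟨g, hg⟩ := IsCyclic.exists_generator (α := Fˣ)
  have hn : ¬ IsSquare (g : F) := by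
    obtain ⟨a, ha⟩ := FiniteField.exists_nonsquare (ringChar_ne_two h2)
    have h0 : a ≠ 0 := by rintro rfl; exact ha IsSquare.zero
    rintro ⟨r, hr⟩
    obtain ⟨k, hk⟩ := (Submonoid.mem_powers_iff _ _).1
      (mem_powers_iff_mem_zpowers.2 (hg (Units.mk0 a h0)))
    apply ha
    refine ⟨r ^ k, ?_⟩
    rw [← mul_pow, ← hr, ← Units.val_pow_eq_pow_val, hk, Units.val_mk0]
  have hs : ∀ σ : F ≃+* F, ¬ IsSquare (σ g) := fun σ ⟨r, hr⟩ =>
    hn ⟨σ.symm r, by rw [← map_mul, ← hr, RingEquiv.symm_apply_apply]⟩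
  have hs' : ∀ σ : F ≃+* F, IsSquare (g * σ g) := fun σ =>
    (isSquare_mul_iff g.ne_zero (by simp)).2 (by simp [hn, hs σ])
  have hi : ∀ σ τ : F ≃+* F, σ g = τ g → σ = τ := fun σ τ e => by
    ext a
    by_cases h0 : a = 0
    · simp [h0]
    · obtain ⟨k, hk⟩ := (Submonoid.mem_powers_iff _ _).1
        (mem_powers_iff_mem_zpowers.2 (hg (Units.mk0 a h0)))
      have : a = (g : F) ^ k := by rw [← Units.val_pow_eq_pow_val, hk, Units.val_mk0]
      rw [this, map_pow, map_pow, e]
  have := Nat.card_le_card_of_injective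
    (fun x : Bool × (F ≃+* F) => if x.1 then x.2 g else g * x.2 g) (by
      rintro ⟨_ | _, σ⟩ ⟨_ | _, τ⟩ e
      · simp only [Bool.false_eq_true, if_false] at e
        rw [hi σ τ (mul_left_cancel₀ g.ne_zero e)]
      · simp only [Bool.false_eq_true, if_false, if_true] at e
        exact absurd (e ▸ hs' σ) (hs τ)
      · simp only [Bool.false_eq_true, if_false, if_true] at e
        exact absurd (e ▸ hs' τ) (hs σ)
      · simp only [if_true] at e
        rw [hi σ τ e])
  rwa [Nat.card_prod, Nat.card_eq_fintype_card (α := Bool), Fintype.card_bool,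
    Nat.card_eq_fintype_card (α := F)] at this

theorem exists_card_fixed (σ : F ≃+* F) :
    Fintype.card F = Nat.card {a : F // σ a = a} ^ orderOf σ := by
  let K := FixedPoints.subfield (Subgroup.zpowers σ) F
  have : Finite (F ≃+* F) := Finite.of_injective _ DFunLike.coe_injective
  have := Fintype.ofFinite (Subgroup.zpowers σ)
  have := Fintype.ofFinite K
  have e : Nat.card {a : F // σ a = a} = Fintype.card K := by
    rw [← Nat.card_eq_fintype_card]
    refine Nat.card_congr (Equiv.subtypeEquivRight fun a => ⟨fun h => ?_, fun h => ?_⟩)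
    · exact fun ⟨_, g, e⟩ => e ▸ MulAction.mem_fixedBy_zpowers_iff_mem_fixedBy.mpr
        (show a ∈ MulAction.fixedBy F σ from h) g
    · exact h ⟨σ, Subgroup.mem_zpowers σ⟩
  rw [e, Module.card_eq_pow_finrank (K := K) (V := F), FixedPoints.finrank_eq_card,
    ← Nat.card_zpowers, Nat.card_eq_fintype_card]

end Cfsg.Agent.FW.Ch
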