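import Mathlib
import Cfsg.Agent.Char.GCLattice
import Cfsg.Agent.Char.ClassSum
import Cfsg.Agent.KSG.CharTools

/-!
Character theory for the character step of Fong-Wong: class functions spanned by weighted families,
parity of multiplicities, and the numerical consequence of two orthogonal virtual characters of
norm four.
-/

set_option autoImplicit false

namespace Cfsg.Agent.FW.Ch

open ComplexConjugate Cfsg.Agent.Char

section Wind

variable {G : Type*} [Group G] [Fintype G] {ι : Type*} [Fintype ι]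

open Classical in
/-- The class function dual to `χ ↦ ∑ χ (γ i) * conj (c i)`. -/
noncomputable def wind (γ : ι → G) (c : ι → ℂ) (g : G) : ℂ :=
  ∑ x : G, ∑ i, if x * g * x⁻¹ = γ i then c i else 0

theorem wind_class (γ : ι → G) (c : ι → ℂ) : IsClassFunction G (wind γ c) := by
  intro g h
  unfold wind
  refine Fintype.sum_equiv (Equiv.mulRight h) _ _ fun x => ?_
  have : x * (h * g * h⁻¹) * x⁻¹ = x * h * g * (x * h)⁻¹ := by group
  rw [this]
  rfl

theorem wind_eq_zero {γ : ι → G} {c : ι → ℂ} {g : G} (h : ∀ x i, x * g * x⁻¹ = γ i → c i = 0) :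
    wind γ c g = 0 := by
  unfold wind
  refine Finset.sum_eq_zero fun x _ => Finset.sum_eq_zero fun i _ => ?_
  split_ifs with e
  · exact h x i e
  · rfl

theorem inner_wind (γ : ι → G) (c : ι → ℂ) {ψ : G → ℂ} (hψ : IsClassFunction G ψ) :
    classInner ψ (wind γ c) = ∑ i, ψ (γ i) * conj (c i) := by
  classical
  have h1 : ∀ x : G, ∑ g : G, ψ g * conj (∑ i, if x * g * x⁻¹ = γ i then c i else 0) =
      ∑ i, ψ (γ i) * conj (c i) := by
    intro x
    simp only [map_sum, Finset.mul_sum]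
    rw [Finset.sum_comm]
    refine Finset.sum_congr rfl fun i _ => ?_
    rw [Finset.sum_eq_single (x⁻¹ * γ i * x)]
    · rw [if_pos (by group), hψ.conj']
    · intro g _ hg
      rw [if_neg, map_zero, mul_zero]
      intro e
      exact hg (by rw [← e]; group)
    · simp
  rw [classInner_def]
  unfold wind
  have h2 : ∀ g : G, ψ g * conj (∑ x : G, ∑ i, if x * g * x⁻¹ = γ i then c i else 0) =
      ∑ x : G, ψ g * conj (∑ i, if x * g * x⁻¹ = γ i then c i else 0) := fun g => by
    rw [map_sum, Finset.mul_sum]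
  simp only [h2]
  rw [Finset.sum_comm]
  simp only [h1, Finset.sum_const, Finset.card_univ, nsmul_eq_mul, ← Nat.card_eq_fintype_card]
  rw [← mul_assoc, inv_mul_cancel₀ (card_ne_zero G), one_mul]

open Classical in
theorem lam_wind (γ : ι → G) (c : ι → ℂ) (j : G) :
    ∑ a : G, wind γ c (a * j * a⁻¹ * j) =
      (Nat.card (Subgroup.centralizer ({j} : Set G)) : ℂ) ^ 2 *
        ∑ s : G, ∑ i, if IsConj j s ∧ IsConj j (s⁻¹ * γ i) then c i else 0 := by
  set f : G → ℂ := fun g => ∑ i, if g = γ i then c i else 0 with hf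
  have h1 : ∑ a : G, wind γ c (a * j * a⁻¹ * j) =
      ∑ x : G, ∑ a : G, f (a * j * a⁻¹ * (x * j * x⁻¹)) := by
    unfold wind
    rw [Finset.sum_comm]
    refine Finset.sum_congr rfl fun x _ => ?_
    refine Fintype.sum_equiv (Equiv.mulLeft x) _ _ fun a => ?_
    simp only [Equiv.coe_mulLeft, hf]
    have : x * (a * j * a⁻¹ * j) * x⁻¹ = x * a * j * (x * a)⁻¹ * (x * j * x⁻¹) := by group
    rw [this]
  rw [h1, sum_conj_eq_card_centralizer_mul j (fun s' => ∑ a : G, f (a * j * a⁻¹ * s')), sq,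
    mul_assoc]
  congr 1
  rw [Finset.sum_comm, sum_conj_eq_card_centralizer_mul j
    (fun s => ∑ s' ∈ Finset.univ.filter (fun x => IsConj j x), f (s * s'))]
  congr 1
  rw [Finset.sum_filter]
  refine Finset.sum_congr rfl fun s _ => ?_
  by_cases hs : IsConj j s
  · rw [if_pos hs, Finset.sum_filter]
    simp only [hf, hs, true_and]
    have : ∀ s' : G, (if IsConj j s' then ∑ i, if s * s' = γ i then c i else 0 else 0) =
        ∑ i, if s' = s⁻¹ * γ i then (if IsConj j (s⁻¹ * γ i) then c i else 0) else 0 := by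
      intro s'
      split_ifs with h'
      · refine Finset.sum_congr rfl fun i _ => ?_
        by_cases e : s * s' = γ i
        · have e' : s' = s⁻¹ * γ i := by rw [← e]; group
          rw [if_pos e, if_pos e', if_pos (e' ▸ h')]
        · rw [if_neg e, if_neg]
          intro e'
          exact e (by rw [e']; group)
      · refine (Finset.sum_eq_zero fun i _ => ?_).symm
        split_ifs with e1 e2
        · exact absurd (e1 ▸ e2) h'
        · rfl
        · rfl
    simp only [this]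
    rw [Finset.sum_comm]
    simp
  · rw [if_neg hs]
    exact (Finset.sum_eq_zero fun i _ => if_neg fun e => hs e.1).symm

end Wind

section Proj

variable {G : Type*} [Group G] {V : Type*} [AddCommGroup V] [Module ℂ V] [FiniteDimensional ℂ V]
  {A : Type*} [Group A] [Fintype A]

/-- The average of `χ (g * π a) * conj (α a)`. -/
noncomputable def avg (χ : G → ℂ) (π : A →* G) (α : A →* ℂˣ) (g : G) : ℂ :=
  (Nat.card A : ℂ)⁻¹ * ∑ a, χ (g * π a) * conj (α a : ℂ)

/-- The projection on the `α`-isotypic part. -/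
noncomputable def prj (ρ : Representation ℂ G V) (π : A →* G) (α : A →* ℂˣ) : Module.End ℂ V :=
  (Nat.card A : ℂ)⁻¹ • ∑ a, conj (α a : ℂ) • ρ (π a)

omit [FiniteDimensional ℂ V] in
theorem mul_prj (ρ : Representation ℂ G V) (π : A →* G) (α : A →* ℂˣ) (b : A) :
    ρ (π b) * prj ρ π α = (α b : ℂ) • prj ρ π α := by
  unfold prj
  rw [mul_smul_comm, smul_comm (α b : ℂ), Finset.mul_sum]
  congr 1
  rw [Finset.smul_sum]
  refine Fintype.sum_equiv (Equiv.mulLeft b) _
    (fun a => (α b : ℂ) • conj (α a : ℂ) • ρ (π a)) fun a => ?_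
  simp only [Equiv.coe_mulLeft, map_mul, mul_smul_comm, smul_smul, Units.val_mul]
  congr 1
  rw [← mul_assoc, KSG.conj_hom_apply α b]
  simp

omit [FiniteDimensional ℂ V] in
theorem prj_idem (ρ : Representation ℂ G V) (π : A →* G) (α : A →* ℂˣ) :
    prj ρ π α * prj ρ π α = prj ρ π α := by
  conv_lhs => enter [1]; unfold prj
  rw [smul_mul_assoc, Finset.sum_mul]
  simp only [smul_mul_assoc, mul_prj, smul_smul, KSG.conj_hom_apply α]
  simp only [Units.val_inv_eq_inv_val, ne_eq, Units.ne_zero, not_false_eq_true, inv_mul_cancel₀,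
    one_smul, Finset.sum_const, Finset.card_univ, ← Nat.card_eq_fintype_card]
  rw [← Nat.cast_smul_eq_nsmul ℂ, smul_smul, inv_mul_cancel₀ (card_ne_zero A), one_smul]

omit [FiniteDimensional ℂ V] in
theorem comm_prj (ρ : Representation ℂ G V) (π : A →* G) (α : A →* ℂˣ) {g : G} (κ : A ≃ A)
    (h : ∀ a, g * π a = π (κ a) * g) (hα : ∀ a, α (κ a) = α a) :
    ρ g * prj ρ π α = prj ρ π α * ρ g := by
  unfold prj
  rw [mul_smul_comm, smul_mul_assoc, Finset.mul_sum, Finset.sum_mul]
  congr 1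
  refine Fintype.sum_equiv κ _ _ fun a => ?_
  rw [mul_smul_comm, smul_mul_assoc, ← map_mul, ← map_mul, h, hα]

omit [FiniteDimensional ℂ V] in
theorem trace_mul_prj (ρ : Representation ℂ G V) (π : A →* G) (α : A →* ℂˣ) (g : G) :
    LinearMap.trace ℂ V (ρ g * prj ρ π α) = avg ρ.character π α g := by
  unfold prj avg
  rw [mul_smul_comm, map_smul, Finset.mul_sum, map_sum, smul_eq_mul]
  congr 1
  refine Finset.sum_congr rfl fun a _ => ?_
  rw [mul_smul_comm, map_smul, ← map_mul, smul_eq_mul, mul_comm]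
  rfl

theorem trace_idem {E : Module.End ℂ V} (h : E * E = E) : ∃ n : ℤ, LinearMap.trace ℂ V E = n := by
  have h1 : LinearMap.IsProj (LinearMap.range E) E :=
    ⟨fun x => LinearMap.mem_range_self E x, by
      rintro _ ⟨x, rfl⟩
      exact LinearMap.congr_fun h x⟩
  exact ⟨Module.finrank ℂ (LinearMap.range E), by rw [h1.trace]; simp⟩

theorem trace_par {E y : Module.End ℂ V} (hE : E * E = E) (hc : y * E = E * y)
    (h2 : y * y * E = E) :
    ∃ n : ℤ, LinearMap.trace ℂ V E + LinearMap.trace ℂ V (y * E) = 2 * n := by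
  have h1 : ((2 : ℂ)⁻¹ • (E + y * E)) * ((2 : ℂ)⁻¹ • (E + y * E)) = (2 : ℂ)⁻¹ • (E + y * E) := by
    have e1 : E * (y * E) = y * E := by rw [← mul_assoc, ← hc, mul_assoc, hE]
    have e2 : y * E * E = y * E := by rw [mul_assoc, hE]
    have e3 : y * E * (y * E) = E := by rw [mul_assoc, e1, ← mul_assoc, h2]
    rw [smul_mul_smul_comm, add_mul, mul_add, mul_add, hE, e1, e2, e3]
    module
  obtain ⟨n, hn⟩ := trace_idem h1
  refine ⟨n, ?_⟩
  rw [map_smul, map_add, smul_eq_mul] at hn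
  rw [← hn]; ring

variable {χ : G → ℂ}

theorem avg_int (hχ : IsCharacter G χ) (π : A →* G) (α : A →* ℂˣ) :
    ∃ n : ℤ, avg χ π α 1 = n := by
  obtain ⟨n, ρ, rfl⟩ := hχ
  obtain ⟨k, hk⟩ := trace_idem (prj_idem ρ π α)
  refine ⟨k, ?_⟩
  rw [← hk, ← trace_mul_prj, map_one, one_mul]

theorem avg_par4 (hχ : IsCharacter G χ) (π : A →* G) (α : A →* ℂˣ) {j g : G} {ε : ℂ}
    (hε : ε * ε = 1) (hj : j * j = 1) (hjπ : ∀ a, j * π a = π a * j) (hgj : g * j = j * g)
    (κ : A ≃ A) (h : ∀ a, g * π a = π (κ a) * g) (hα : ∀ a, α (κ a) = α a) {b : A} (hb : α b = 1)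
    (hg : g * g = π b ∨ (ε = 1 ∧ g * g = j)) :
    ∃ n : ℤ, avg χ π α 1 + ε * avg χ π α j + (avg χ π α g + ε * avg χ π α (g * j)) = 4 * n := by
  obtain ⟨n, ρ, rfl⟩ := hχ
  set P := prj ρ π α with hP
  have hPP : P * P = P := prj_idem ρ π α
  have hjP : ρ j * P = P * ρ j := comm_prj ρ π α (Equiv.refl A) hjπ fun _ => rfl
  have hgP : ρ g * P = P * ρ g := comm_prj ρ π α κ h hα
  have hjj : ρ j * ρ j = 1 := by rw [← map_mul, hj, map_one]
  have hgj' : ρ g * ρ j = ρ j * ρ g := by rw [← map_mul, hgj, map_mul]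
  have e1 : P * (ρ j * P) = ρ j * P := by rw [← mul_assoc, ← hjP, mul_assoc, hPP]
  have e2 : ρ j * P * P = ρ j * P := by rw [mul_assoc, hPP]
  have e3 : ρ j * P * (ρ j * P) = P := by rw [mul_assoc, e1, ← mul_assoc, hjj, one_mul]
  set E := (2 : ℂ)⁻¹ • (P + ε • (ρ j * P)) with hE
  have hEE : E * E = E := by
    rw [hE, smul_mul_smul_comm, add_mul, mul_add, mul_add, mul_smul_comm, smul_mul_assoc,
      smul_mul_smul_comm, hPP, e1, e2, e3, hε]
    module
  have hgE : ρ g * E = E * ρ g := by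
    rw [hE, mul_smul_comm, smul_mul_assoc, mul_add, add_mul, mul_smul_comm, smul_mul_assoc, hgP,
      ← mul_assoc, hgj', mul_assoc, hgP, mul_assoc]
  have hg2 : ρ g * ρ g * E = E := by
    rw [← map_mul]
    rcases hg with hg | ⟨rfl, hg⟩
    · have e4 : ρ (π b) * P = P := by rw [hP, mul_prj, hb, Units.val_one, one_smul]
      rw [hg, hE, mul_smul_comm, mul_add, mul_smul_comm, e4, ← mul_assoc, ← map_mul, ← hjπ, map_mul,
        mul_assoc, e4]
    · rw [hg, hE, mul_smul_comm, mul_add, mul_smul_comm, ← mul_assoc, hjj, one_mul, one_smul,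
        one_smul, add_comm]
  obtain ⟨k, hk⟩ := trace_par hEE hgE hg2
  refine ⟨k, ?_⟩
  rw [hE, mul_smul_comm, map_smul, map_smul, mul_add, map_add, map_add, mul_smul_comm, map_smul,
    map_smul, ← mul_assoc, ← map_mul, hP, trace_mul_prj, trace_mul_prj, trace_mul_prj] at hk
  have e5 := trace_mul_prj ρ π α 1
  rw [map_one, one_mul] at e5
  rw [e5] at hk
  simp only [smul_eq_mul] at hk
  linear_combination 2 * hk

theorem avg_par (hχ : IsCharacter G χ) (π : A →* G) (α : A →* ℂˣ) {g : G}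
    (κ : A ≃ A) (h : ∀ a, g * π a = π (κ a) * g) (hα : ∀ a, α (κ a) = α a) {b : A} (hb : α b = 1)
    (hg : g * g = π b) : ∃ n : ℤ, avg χ π α 1 + avg χ π α g = 2 * n := by
  obtain ⟨n, hn⟩ := avg_par4 hχ π α (j := 1) (g := g) (ε := 1) (one_mul 1) (one_mul 1)
    (fun a => by simp) (by simp) κ h hα hb (Or.inl hg)
  refine ⟨n, ?_⟩
  rw [mul_one] at hn
  linear_combination (1 / 2 : ℂ) * hn

theorem char_invol_int (hχ : IsCharacter G χ) {j : G} (hj : j * j = 1) : ∃ n : ℤ, χ j = n := by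
  obtain ⟨n, hn⟩ := avg_par hχ (1 : Unit →* G) 1 (g := j) (Equiv.refl _) (fun a => by simp)
    (fun _ => rfl) (b := 1) rfl (by simp [hj])
  obtain ⟨k, hk⟩ := hχ.exists_nat_one
  refine ⟨2 * n - k, ?_⟩
  simp [avg] at hn
  push_cast
  linear_combination hn - hk

end Proj

section Final

variable {G : Type*} [Group G] [Fintype G]

omit [Fintype G] in
theorem gen_invol_int {χ : G → ℂ} (hχ : IsGeneralizedCharacter G χ) {j : G} (hj : j * j = 1) :
    ∃ n : ℤ, χ j = n := by
  obtain ⟨a, b, ha, hb, rfl⟩ := hχ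
  obtain ⟨n, hn⟩ := char_invol_int ha hj
  obtain ⟨k, hk⟩ := char_invol_int hb hj
  exact ⟨n - k, by simp [hn, hk]⟩

theorem unit_sq_add_le {u v : GC G} (hu : GC.ip u u = 1) (hv : GC.ip v v = 1) (huv : GC.ip u v = 0)
    (g : G) : ‖u.1 g‖ ^ 2 + ‖v.1 g‖ ^ 2 ≤ Nat.card (Subgroup.centralizer ({g} : Set G)) := by
  classical
  have key : ∀ w : GC G, GC.ip w w = 1 → ∃ χ : IrrCharacter G, χ.1 = w.1 ∨ χ.1 = -w.1 := by
    intro w hw
    rcases GC.isIrr_or_neg hw with h | h
    · exact ⟨⟨_, h⟩, Or.inl rfl⟩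
    · exact ⟨⟨_, h⟩, Or.inr rfl⟩
  obtain ⟨χ, hχ⟩ := key u hu
  obtain ⟨ψ, hψ⟩ := key v hv
  have h0 : classInner u.1 v.1 = 0 := by rw [← GC.ip_cast, huv]; simp
  have hne : χ ≠ ψ := by
    rintro rfl
    have h1 := χ.2.inner_self
    rcases hχ with e | e <;> rcases hψ with e' | e'
    · rw [e] at h1; nth_rewrite 2 [← e] at h1; rw [e', h0] at h1; simp at h1
    · nth_rewrite 1 [e] at h1; rw [e', classInner_neg_right, h0] at h1; simp at h1
    · nth_rewrite 1 [e] at h1; rw [e', classInner_neg_left, h0] at h1; simp at h1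
    · nth_rewrite 1 [e] at h1
      rw [e', classInner_neg_left, classInner_neg_right, h0] at h1; simp at h1
  have e1 : ‖u.1 g‖ = ‖χ.1 g‖ := by rcases hχ with e | e <;> simp [e]
  have e2 : ‖v.1 g‖ = ‖ψ.1 g‖ := by rcases hψ with e | e <;> simp [e]
  rw [e1, e2, ← sum_irr_norm_sq g, ← Finset.sum_pair (f := fun χ : IrrCharacter G => ‖χ.1 g‖ ^ 2) hne]
  exact Finset.sum_le_sum_of_subset_of_nonneg (Finset.subset_univ _) fun _ _ _ => by positivity

theorem final_num {j : G} (hj : j * j = 1) {x y : G → ℂ} (hx : IsClassFunction G x)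
    (hy : IsClassFunction G y)
    (hpar : ∀ χ, IsIrrCharacter G χ → ∃ a b : ℤ, classInner χ x = a ∧ classInner χ y = a + 2 * b)
    (xx : classInner x x = 4) (yy : classInner y y = 4) (xy : classInner x y = 0)
    (x1 : x 1 = 0) (y1 : y 1 = 0) (yj : y j = 0) (Ly : ∑ a : G, y (a * j * a⁻¹ * j) = 0) :
    ∃ d a b : ℤ, d ≠ 0 ∧ 2 * ((a : ℂ) - b) = x j ∧
      2 * (Nat.card G : ℂ) * ((a : ℂ) ^ 2 - (b : ℂ) ^ 2) = d * ∑ a : G, x (a * j * a⁻¹ * j) ∧
      a ^ 2 + b ^ 2 ≤ Nat.card (Subgroup.centralizer ({j} : Set G)) := by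
  have hu : IsGeneralizedCharacter G ((2 : ℂ)⁻¹ • (x + y)) := by
    refine ((hx.add hy).smul _).isGen_of_inner fun χ hχ => ?_
    obtain ⟨a, b, ha, hb⟩ := hpar χ hχ
    refine ⟨a + b, ?_⟩
    rw [← classInner_conj_symm, classInner_smul_right, classInner_add_right, ha, hb]
    simp only [map_inv₀, map_ofNat, map_mul, map_add, map_intCast]
    push_cast
    ring
  have yx : classInner y x = 0 := by rw [← classInner_conj_symm, xy, map_zero]
  set u : GC G := ⟨_, hu⟩ with hudef
  have h2 : GC.ip u u = 2 := by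
    apply GC.ip_eq_of
    change classInner ((2 : ℂ)⁻¹ • (x + y)) ((2 : ℂ)⁻¹ • (x + y)) = _
    rw [classInner_smul_left, classInner_smul_right, classInner_add_left, classInner_add_right,
      classInner_add_right, xx, yy, xy, yx]
    simp only [map_inv₀, map_ofNat]
    push_cast
    ring
  obtain ⟨A, B, hA, hB, hAB, e⟩ := GC.exists_sub_of_ip_two h2
  have ev : ∀ g, A.1 g - B.1 g = (2 : ℂ)⁻¹ * (x g + y g) := fun g => by
    have := congrFun (congrArg Subtype.val e) g
    exact this.symm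
  obtain ⟨a, ha⟩ := gen_invol_int A.isGen hj
  obtain ⟨b, hb⟩ := gen_invol_int B.isGen hj
  have hd : A.1 1 = B.1 1 := by
    have := ev 1
    rw [x1, y1] at this
    linear_combination this
  refine ⟨GC.deg A, a, b, GC.deg_ne_zero hA, ?_, ?_, ?_⟩
  · have := ev j
    rw [yj, ha, hb] at this
    linear_combination 2 * this
  · have e1 := GC.one_mul_sum_conj_mul hA j j
    have e2 := GC.one_mul_sum_conj_mul hB j j
    have e3 : ∑ c : G, A.1 (c * j * c⁻¹ * j) - ∑ c : G, B.1 (c * j * c⁻¹ * j) =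
        (2 : ℂ)⁻¹ * ∑ c : G, x (c * j * c⁻¹ * j) := by
      rw [← Finset.sum_sub_distrib]
      simp only [ev]
      rw [← Finset.mul_sum, Finset.sum_add_distrib, Ly, add_zero]
    rw [GC.deg_cast]
    rw [ha] at e1
    rw [hb, ← hd] at e2
    linear_combination 2 * e2 - 2 * e1 + 2 * A.1 1 * e3
  · have := unit_sq_add_le hA hB hAB j
    rw [ha, hb] at this
    simp only [Complex.norm_intCast, sq_abs] at this
    exact_mod_cast this

end Final

end Cfsg.Agent.FW.Ch
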