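import Mathlib
import Cfsg.Agent.FW.CharA
import Cfsg.Agent.FW.CharB

/-!
The odd part of the torus of `SL₂(F)` of order twice an odd number, and the virtual character of
`SL₂(F)` attached to a linear character of it.
-/

set_option autoImplicit false

namespace Cfsg.Agent.FW.Ch

open Matrix KSG.M2 ComplexConjugate Cfsg.Agent.Char
open scoped MatrixGroups Classical

variable {F : Type*} [Field F] [Fintype F]

local notation "M₂" => Matrix (Fin 2) (Fin 2) F
local notation "GL₂" => Matrix.GeneralLinearGroup (Fin 2) F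
local notation "SL₂" => Matrix.SpecialLinearGroup (Fin 2) F
local notation "𝐪" => Fintype.card F

omit [Fintype F] in
theorem SL_neg_one_ne (h2 : (2 : F) ≠ 0) : (-1 : SL₂) ≠ 1 := fun e => by
  have := congrArg (fun A : SL₂ => A.1 0 0) e
  simp only [Matrix.SpecialLinearGroup.coe_neg, Matrix.SpecialLinearGroup.coe_one, Matrix.neg_apply,
    one_apply_eq] at this
  exact h2 (by linear_combination -this)

theorem eq_one_of_odd_of_sq {G : Type*} [Group G] {g : G} (h : Odd (orderOf g)) (h2 : g * g = 1) :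
    g = 1 := by
  have : orderOf g ∣ 2 := orderOf_dvd_of_pow_eq_one (by rw [sq, h2])
  rcases (Nat.dvd_prime Nat.prime_two).1 this with e | e
  · exact orderOf_eq_one_iff.1 e
  · rw [e] at h; exact absurd h (by decide)

theorem odd_mul_of_comm {G : Type*} [Group G] {a b : G} (h : Commute a b) (ha : Odd (orderOf a))
    (hb : Odd (orderOf b)) : Odd (orderOf (a * b)) :=
  (ha.mul hb).of_dvd_nat h.orderOf_mul_dvd_mul_orderOf

omit [Fintype F] in
theorem not_odd_neg (h2 : (2 : F) ≠ 0) {A : SL₂} (h : Odd (orderOf A)) : ¬ Odd (orderOf (-A)) := by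
  intro h'
  have : Odd (orderOf (-A * A⁻¹)) :=
    odd_mul_of_comm ((Commute.refl A).inv_right.neg_left) h' (by rwa [orderOf_inv])
  rw [neg_mul, mul_inv_cancel] at this
  exact SL_neg_one_ne h2 (eq_one_of_odd_of_sq this (by simp))

/-- A matrix of trace zero and nonsquare determinant over a field of odd order at least five. -/
structure NS (M : GL₂) : Prop where
  two : (2 : F) ≠ 0
  big : 3 < Fintype.card F
  tr : M.1.trace = 0
  ns : ¬ IsSquare M.1.det

namespace NS

variable {M : Matrix.GeneralLinearGroup (Fin 2) F} (h : NS M)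
include h

theorem nscal : ¬ IsScal M.1 := nscal_of_trace h.two h.tr (GL_det_ne_zero M)

theorem cg_cg (A : SL₂) : cg M (cg M A) = A := by
  rw [← cg_mul, cg_eq_iff, Units.val_mul, sq_eq, h.tr]
  simp

/-- The elements of odd order of the torus. -/
def To : Subgroup SL₂ where
  carrier := {A | A ∈ Tm M.1 ∧ Odd (orderOf A)}
  one_mem' := ⟨one_mem _, by simp⟩
  mul_mem' := fun hA hB =>
    ⟨mul_mem hA.1 hB.1, odd_mul_of_comm (Tm_comm h.nscal hA.1 hB.1) hA.2 hB.2⟩
  inv_mem' := fun hA => ⟨inv_mem hA.1, by rw [orderOf_inv]; exact hA.2⟩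

theorem mem_To {A : SL₂} : A ∈ h.To ↔ A ∈ Tm M.1 ∧ Odd (orderOf A) := Iff.rfl

noncomputable instance fintypeTo : Fintype h.To := Fintype.ofFinite _

theorem To_comm (a b : h.To) : a * b = b * a := Subtype.ext (Tm_comm h.nscal a.2.1 b.2.1)

theorem card_Tm' : (Nat.card (Tm M.1) : ℤ) = 𝐪 - eta 𝐪 := by
  rw [card_Tm h.two h.tr (GL_det_ne_zero M), nq_one h.two (GL_det_ne_zero M),
    ety_of_not_sq (GL_det_ne_zero M) h.ns]

theorem odd_q : Odd 𝐪 := by
  rw [← Nat.card_eq_fintype_card]; exact odd_card_of_two_ne h.two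

theorem exists_m : ∃ m : ℕ, Odd m ∧ 3 ≤ m ∧ Nat.card (Tm M.1) = 2 * m := by
  have h1 := h.card_Tm'
  have h2 := Nat.odd_iff.1 h.odd_q
  have h3 := h.big
  refine ⟨Nat.card (Tm M.1) / 2, Nat.odd_iff.2 ?_, ?_, ?_⟩ <;>
  · unfold eta at h1
    split_ifs at h1 <;> omega

theorem odd_or {A : SL₂} (hA : A ∈ Tm M.1) : Odd (orderOf A) ∨ Odd (orderOf (-A)) := by
  obtain ⟨m, hm, -, e⟩ := h.exists_m
  have h1 : (A ^ m) ^ 2 = 1 := by
    have := pow_card_eq_one' (G := Tm M.1) (x := ⟨A, hA⟩)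
    rw [e, mul_comm, pow_mul] at this
    exact congrArg Subtype.val this
  rcases (SL_sq_eq_one_iff h.two).1 h1 with e1 | e1
  · exact Or.inl (hm.of_dvd_nat (orderOf_dvd_of_pow_eq_one e1))
  · refine Or.inr (hm.of_dvd_nat (orderOf_dvd_of_pow_eq_one ?_))
    rw [hm.neg_pow, e1, neg_neg]

theorem two_mul_card_To : 2 * Nat.card h.To = Nat.card (Tm M.1) := by
  have hle : h.To ≤ Tm M.1 := fun A hA => hA.1
  have hi : (h.To.subgroupOf (Tm M.1)).index = 2 := by
    rw [Subgroup.index_eq_two_iff]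
    refine ⟨⟨-1, neg_mem_Tm (one_mem _)⟩, fun b => ?_⟩
    simp only [Subgroup.mem_subgroupOf, Subgroup.coe_mul, mul_neg, mul_one, mem_To]
    rcases h.odd_or b.2 with e | e
    · exact Or.inr ⟨⟨b.2, e⟩, fun e' => not_odd_neg h.two e e'.2⟩
    · exact Or.inl ⟨⟨neg_mem_Tm b.2, e⟩, fun e' => not_odd_neg h.two e'.2 e⟩
  rw [← (h.To.subgroupOf (Tm M.1)).index_mul_card, hi,
    Nat.card_congr (Subgroup.subgroupOfEquivOfLe hle).toEquiv]

theorem card_To : 2 * (Nat.card h.To : ℤ) = 𝐪 - eta 𝐪 := by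
  rw [← h.card_Tm', ← h.two_mul_card_To]; push_cast; rfl

theorem trace_sq_ne {y : SL₂} (hy : y ∈ h.To) (h1 : y ≠ 1) : y.1.trace ^ 2 ≠ 4 :=
  trace_sq_ne_of_Tm h.two h.tr (GL_det_ne_zero M) hy.1 h1 fun e =>
    not_odd_neg h.two (A := 1) (by simp) (e ▸ hy.2)

theorem exists_ne_one : ∃ y ∈ h.To, y ≠ 1 := by
  obtain ⟨m, -, hm, e⟩ := h.exists_m
  have h1 := h.two_mul_card_To
  have : Nontrivial h.To := Finite.one_lt_card_iff_nontrivial.1 (by omega)
  obtain ⟨y, hy⟩ := exists_ne (1 : h.To)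
  exact ⟨y, y.2, fun e => hy (Subtype.ext e)⟩

theorem cent_eq {y : SL₂} (hy : y ∈ h.To) (h1 : y ≠ 1) : Tm M.1 = Subgroup.centralizer {y} :=
  Tm_eq_cent h.nscal hy.1 (SL_not_isScal_of_trace (h.trace_sq_ne hy h1))

theorem mem_Tm_of_comm {B : SL₂} (hB : ∀ y ∈ h.To, B * y = y * B) : B ∈ Tm M.1 := by
  obtain ⟨y, hy, h1⟩ := h.exists_ne_one
  rw [h.cent_eq hy h1, Subgroup.mem_centralizer_singleton_iff]
  exact hB y hy

theorem exists_faithful : ∃ ν : h.To →* ℂˣ, Function.Injective ν := by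
  obtain ⟨y, hy, h1⟩ := h.exists_ne_one
  have h2 : IsCyclic (Tm M.1) := h.cent_eq hy h1 ▸ isCyclic_cent (h.trace_sq_ne hy h1)
  have : IsCyclic h.To := Subgroup.isCyclic_of_le (H' := Tm M.1) fun A hA => hA.1
  have : NeZero (Nat.card h.To) := ⟨Nat.card_pos.ne'⟩
  let e := mulEquivOfCyclicCardEq (G := h.To) (G' := rootsOfUnity (Nat.card h.To) ℂ)
    (Complex.card_rootsOfUnity _).symm
  exact ⟨(rootsOfUnity _ ℂ).subtype.comp e.toMonoidHom, Subtype.val_injective.comp e.injective⟩

theorem trace_ne_zero {A : SL₂} (hA : A ∈ Tm M.1) : A.1.trace ≠ 0 := by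
  obtain ⟨x, y, e⟩ := (comm_iff h.nscal).1 hA
  intro ht
  have hd := A.2
  rw [e, trace_smul_add, h.tr] at ht
  rw [e, det_smul_add, h.tr] at hd
  have hx : x = 0 := (mul_eq_zero.1 (by linear_combination ht)).resolve_left h.two
  have hy : y ≠ 0 := by
    rintro rfl
    simp [hx] at hd
  exact h.ns ⟨y⁻¹, by field_simp; linear_combination hd - x * hx⟩

theorem eq_of_trace_mul {A : SL₂} (hA : A ∈ Tm M.1) (ht : (A.1 * M.1).trace = 0) :
    A = 1 ∨ A = -1 := by
  obtain ⟨x, y, e⟩ := (comm_iff h.nscal).1 hA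
  rw [e, add_mul, smul_mul_assoc, smul_mul_assoc, one_mul, sq_eq, h.tr] at ht
  simp only [zero_smul, zero_sub, smul_neg, trace_add, trace_smul, h.tr, smul_eq_mul, mul_zero,
    trace_neg, trace_one, Fintype.card_fin, Nat.cast_ofNat, zero_add, neg_eq_zero, mul_eq_zero,
    h.two, GL_det_ne_zero M, or_false] at ht
  exact SL_isScal_iff.1 (by rw [e]; exact (isScal_smul_add h.nscal).2 ht)

theorem mem_Tm_of_comm_mul {B E : SL₂} (hB : B ∈ Tm M.1)
    (hE : M.1 * B.1 * E.1 = E.1 * (M.1 * B.1)) : E ∈ Tm M.1 := by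
  have h1 : ¬ IsScal (M.1 * B.1) := fun hs => by
    obtain ⟨a, ha⟩ := isScal_iff.1 hs
    have := congrArg Matrix.det ha
    rw [Matrix.det_mul, B.2, Matrix.det_smul] at this
    exact h.ns ⟨a, by simpa [sq] using this⟩
  exact comm_of_comm h1 (by rw [Matrix.mul_assoc, ← mem_Tm.1 hB]) hE

theorem eq_one_of_fix {σ : F ≃+* F} (hσ : Odd (orderOf σ))
    (hf : ∀ y ∈ h.To, σ y.1.trace = y.1.trace) : σ = 1 := by
  have hf' : ∀ y ∈ Tm M.1, σ y.1.trace = y.1.trace := fun y hy => by
    rcases h.odd_or hy with e | e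
    · exact hf y ⟨hy, e⟩
    · have := hf (-y) ⟨neg_mem_Tm hy, e⟩
      simpa using this
  have h1 : Nat.card (Tm M.1) ≤ 2 * Nat.card {a : F // σ a = a} := by
    have := Fintype.ofFinite (Tm M.1)
    rw [Nat.card_eq_fintype_card, Nat.card_eq_fintype_card, ← Finset.card_univ, ← Finset.card_univ]
    refine Finset.card_le_mul_card_image_of_maps_to
      (f := fun y : Tm M.1 => (⟨y.1.1.trace, hf' y y.2⟩ : {a : F // σ a = a}))
      (fun _ _ => Finset.mem_univ _) 2 fun a _ => ?_
    rcases (Finset.univ.filter fun y : Tm M.1 =>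
      (⟨y.1.1.trace, hf' y y.2⟩ : {a : F // σ a = a}) = a).eq_empty_or_nonempty with e | ⟨y, hy⟩
    · simp [e]
    · refine le_trans (Finset.card_le_card (t := {y, y⁻¹}) fun z hz => ?_) Finset.card_le_two
      have e := congrArg Subtype.val
        ((Finset.mem_filter.1 hz).2.trans (Finset.mem_filter.1 hy).2.symm)
      rcases eq_or_inv_of_Tm h.two h.tr (GL_det_ne_zero M) y.2 z.2 e with e' | e'
      · simp [Subtype.ext e']
      · simp [show z = y⁻¹ from Subtype.ext e']
  have h2 := h.card_Tm'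
  have h3 := exists_card_fixed σ
  have h4 := h.big
  set r := Nat.card {a : F // σ a = a}
  by_contra hne
  have h5 : 3 ≤ orderOf σ := by
    have := Nat.odd_iff.1 hσ
    have : orderOf σ ≠ 1 := fun e => hne (orderOf_eq_one_iff.1 e)
    omega
  have h6 : 2 ≤ r := by
    by_contra hr
    have : r ^ orderOf σ ≤ 1 := pow_le_one₀ (Nat.zero_le _) (by omega)
    omega
  have h7 : r ^ 3 ≤ r ^ orderOf σ := Nat.pow_le_pow_right (by omega) h5
  have h8 : 4 * r ≤ r ^ 3 := by
    rw [pow_succ]; exact Nat.mul_le_mul_right r (Nat.pow_le_pow_left h6 2)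
  unfold eta at h2
  split_ifs at h2 <;> omega

end NS

/-! ### Unipotent elements -/

variable (F) in
/-- The upper unitriangular group. -/
def uH : Multiplicative F →* SL₂ where
  toFun s := upar 1 (one_pow 2) s.toAdd
  map_one' := Subtype.ext (ext2 (by simp) (by simp) (by simp) (by simp))
  map_mul' a b := Subtype.ext (by
    rw [Matrix.SpecialLinearGroup.coe_mul]
    apply ext2 <;> simp [mul_apply2, add_comm])

omit [Fintype F] in
theorem trace_uH (s : Multiplicative F) : (uH F s).1.trace = 2 :=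
  (trace_upar 1 (one_pow 2) _).trans (mul_one 2)

omit [Fintype F] in
theorem uH_eq_one {s : Multiplicative F} : uH F s = 1 ↔ s = 1 := by
  refine ⟨fun e => ?_, fun e => by rw [e, map_one]⟩
  have := congrArg (fun A : SL₂ => A.1 0 1) e
  change (upar 1 (one_pow 2) s.toAdd).1 0 1 = _ at this
  exact toAdd_eq_zero.1 (by simpa using this)

/-- The average of `f (π a) * conj (α a)`. -/
noncomputable def av {A L : Type*} [Group A] [Fintype A] [Group L] (π : A →* L) (α : A →* ℂˣ)
    (f : L → ℂ) : ℂ := (Nat.card A : ℂ)⁻¹ * ∑ a, f (π a) * conj (α a : ℂ)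

theorem card_mul_sum_class {G : Type*} [Group G] [Fintype G] {f : G → ℂ} (hf : IsClassFunction G f)
    (a : G) [∀ x, Decidable (IsConj a x)] : (Nat.card (Subgroup.centralizer ({a} : Set G)) : ℂ) *
      ∑ x, (if IsConj a x then f x else 0) = Nat.card G * f a := by
  have := Char.sum_conj_eq_card_centralizer_mul a f
  simp only [hf a, Finset.sum_const, Finset.card_univ, nsmul_eq_mul] at this
  rw [← Finset.sum_filter, Nat.card_eq_fintype_card (α := G), this]
  congr!

theorem sum_conj_hom {A : Type*} [Group A] [Fintype A] {α : A →* ℂˣ} (hα : α ≠ 1) :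
    ∑ a, conj (α a : ℂ) = 0 := by
  simpa [hα.symm] using KSG.sum_hom_mul_conj 1 α

theorem sum_hom_eq_zero {A : Type*} [Group A] [Fintype A] {α : A →* ℂˣ} (hα : α ≠ 1) :
    ∑ a, (α a : ℂ) = 0 := by
  simpa [hα] using KSG.sum_hom_mul_conj α 1

theorem cast_card_SL : (Nat.card SL₂ : ℂ) = 𝐪 * ((𝐪 : ℂ) ^ 2 - 1) := by
  have : 1 ≤ 𝐪 ^ 2 := Nat.one_le_pow _ _ Fintype.card_pos
  rw [card_SL2, Nat.card_eq_fintype_card]
  push_cast [Nat.cast_sub this]
  rfl

theorem cast_eta_sq (q : ℕ) : (eta q : ℂ) * eta q = 1 := by exact_mod_cast eta_sq q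

theorem orderOf_conj' {G : Type*} [Group G] (a b : G) : orderOf (a * b * a⁻¹) = orderOf b :=
  orderOf_injective (MulAut.conj a).toMonoidHom (MulAut.conj a).injective b

theorem exists_addChar : ∃ α : Multiplicative F →* ℂˣ, α ≠ 1 := by
  have : 1 < Nat.card (Multiplicative F →* ℂˣ) := by
    rw [KSG.card_hom_of_comm mul_comm, Nat.card_eq_fintype_card, Fintype.card_multiplicative]
    exact Fintype.one_lt_card
  have := Finite.one_lt_card_iff_nontrivial.1 this
  exact exists_ne 1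

namespace NS

variable {M : Matrix.GeneralLinearGroup (Fin 2) F} (h : NS M)
include h

local notation "u₁" => upar (1 : F) (one_pow 2) 1

theorem not_conj_u : ¬ IsConj (cg M u₁) u₁ := by
  intro hc
  obtain ⟨P, hP, e⟩ := SL_isConj_iff_exists.1 hc
  have e1 : (u₁).1 * (P * M.1) = P * M.1 * (u₁).1 := by
    rw [← Matrix.mul_assoc, ← e, coe_cg, Matrix.mul_assoc, Matrix.mul_assoc, Units.inv_mul,
      Matrix.mul_one, Matrix.mul_assoc]
  obtain ⟨x, y, e2⟩ := (comm_iff (upar_not_isScal 1 (one_pow 2) one_ne_zero)).1 e1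
  have := congrArg Matrix.det e2
  rw [Matrix.det_mul, hP, det_smul_add, trace_upar, (u₁).2] at this
  exact h.ns ⟨x + y, by linear_combination this⟩

omit [Fintype F] h in
theorem u_ne : u₁ ≠ 1 := fun e =>
  upar_not_isScal (1 : F) (one_pow 2) one_ne_zero (by rw [e]; exact isScal_one)

theorem conj_u_or {A : SL₂} (h1 : A ≠ 1) (ht : A.1.trace = 2) :
    IsConj u₁ A ∨ IsConj (cg M u₁) A := by
  have key : ∀ B : SL₂, B ≠ 1 → B.1.trace = 2 → ∃ β : F, β ≠ 0 ∧ IsConj B (upar 1 (one_pow 2) β) :=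
    fun B h1 ht => SL_exists_isConj_upar (fun hs => by
      rcases SL_isScal_iff.1 hs with e | e
      · exact h1 e
      · rw [e] at ht
        simp only [Matrix.SpecialLinearGroup.coe_neg, Matrix.SpecialLinearGroup.coe_one, trace_neg,
          trace_one, Fintype.card_fin, Nat.cast_ofNat] at ht
        exact four_ne h.two (by linear_combination -ht)) (one_pow 2) (by rw [ht, mul_one])
  obtain ⟨β, hβ, e⟩ := key A h1 ht
  obtain ⟨γ, hγ, e'⟩ := key (cg M u₁) (fun e => u_ne (cg_inj M (e.trans (map_one _).symm)))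
    (by rw [trace_cg, trace_upar, mul_one])
  have hγ' : ¬ IsSquare γ := fun hs =>
    h.not_conj_u (e'.trans ((upar_isConj_iff (one_pow 2) hγ one_ne_zero).2 (by rwa [mul_one])))
  by_cases hs : IsSquare β
  · exact Or.inl (((upar_isConj_iff (one_pow 2) one_ne_zero hβ).2 (by rwa [one_mul])).trans e.symm)
  · exact Or.inr (e'.trans (((upar_isConj_iff (one_pow 2) hγ hβ).2
      ((isSquare_mul_iff hγ hβ).2 (by simp [hs, hγ']))).trans e.symm))

theorem add_cg {f : SL₂ → ℂ} (hf : IsClassFunction SL₂ f) {A : SL₂} (h1 : A ≠ 1)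
    (ht : A.1.trace = 2) : f A + f (cg M A) = f u₁ + f (cg M u₁) := by
  rcases h.conj_u_or h1 ht with e | e
  · rw [hf.eq_of_isConj e, hf.eq_of_isConj ((cg M).map_isConj e)]
  · have := (cg M).map_isConj e
    rw [h.cg_cg] at this
    rw [hf.eq_of_isConj e, hf.eq_of_isConj this, add_comm]

theorem sum_trace_two {f : SL₂ → ℂ} (hf : IsClassFunction SL₂ f) :
    2 * ∑ A : SL₂, (if 2 = A.1.trace then f A else 0) =
      2 * f 1 + ((𝐪 : ℂ) ^ 2 - 1) * (f u₁ + f (cg M u₁)) := by
  have hq : (𝐪 : ℂ) ≠ 0 := by exact_mod_cast Fintype.card_ne_zero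
  have e1 : ∀ A : SL₂, (if 2 = A.1.trace then f A else 0) = (if A = 1 then f A else 0) +
      ((if IsConj u₁ A then f A else 0) + if IsConj (cg M u₁) A then f A else 0) := fun A => by
    have t1 : IsConj u₁ A → 2 = A.1.trace := fun e => by
      rw [← SL_trace_eq_of_isConj e, trace_upar, mul_one]
    have t2 : IsConj (cg M u₁) A → 2 = A.1.trace := fun e => by
      rw [← SL_trace_eq_of_isConj e, trace_cg, trace_upar, mul_one]
    by_cases h1 : A = 1
    · subst h1
      have n1 : ¬ IsConj u₁ 1 := fun e => u_ne (isConj_one_left.1 e)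
      have n2 : ¬ IsConj (cg M u₁) 1 := fun e =>
        u_ne (cg_inj M ((isConj_one_left.1 e).trans (map_one _).symm))
      rw [if_pos (by simp), if_pos rfl, if_neg n1, if_neg n2, add_zero, add_zero]
    · rw [if_neg h1, zero_add]
      by_cases ht : 2 = A.1.trace
      · rw [if_pos ht]
        rcases h.conj_u_or h1 ht.symm with e | e
        · rw [if_pos e, if_neg fun e' => h.not_conj_u (e'.trans e.symm), add_zero]
        · rw [if_pos e, if_neg fun e' => h.not_conj_u (e.trans e'.symm), zero_add]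
      · rw [if_neg ht, if_neg fun e => ht (t1 e), if_neg fun e => ht (t2 e), add_zero]
  have c1 := card_mul_sum_class hf u₁
  have c2 := card_mul_sum_class hf (cg M u₁)
  rw [SL_card_centralizer_par (upar_not_isScal (1 : F) (one_pow 2) one_ne_zero) (one_pow 2)
    (trace_upar _ _ _), card_sq_eq_one_of_two_ne h.two, cast_card_SL] at c1
  rw [SL_card_centralizer_par (ε := 1) (fun hs => upar_not_isScal (1 : F) (one_pow 2) one_ne_zero
    (by
      rcases SL_isScal_iff.1 hs with e | e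
      · exact absurd (cg_inj M (e.trans (map_one _).symm)) u_ne
      · rw [← map_one (cg M), ← cg_neg] at e
        rw [cg_inj M e]; exact SL_isScal_iff.2 (Or.inr rfl))) (one_pow 2)
    (by rw [trace_cg, trace_upar]), card_sq_eq_one_of_two_ne h.two, cast_card_SL] at c2
  simp only [e1, Finset.sum_add_distrib, Finset.sum_ite_eq', Finset.mem_univ, if_true]
  rw [Nat.card_eq_fintype_card] at c1 c2
  push_cast at c1 c2
  apply mul_left_cancel₀ hq
  linear_combination c1 + c2

/-! ### The virtual character -/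

/-- The sum of `ν` over the elements of given trace. -/
noncomputable def bt (ν : h.To →* ℂˣ) (τ : F) : ℂ :=
  ∑ y : h.To, if y.1.1.trace = τ then (ν y : ℂ) else 0

/-- The virtual character attached to `ν`. -/
noncomputable def Phi (ν : h.To →* ℂˣ) (A : SL₂) : ℂ :=
  2 * h.bt ν A.1.trace + if A = 1 then 2 * (eta 𝐪 : ℂ) * 𝐪 else 0

variable (ν : h.To →* ℂˣ)

theorem To_eq_one {z : h.To} (e : z⁻¹ = z) : z = 1 :=
  Subtype.ext (eq_one_of_odd_of_sq z.2.2 (congrArg Subtype.val (mul_eq_one_iff_inv_eq.2 e)))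

theorem bt_trace (z : h.To) :
    h.bt ν z.1.1.trace = ν z + (ν z : ℂ)⁻¹ - if z = 1 then 1 else 0 := by
  have e : ∀ y : h.To, y.1.1.trace = z.1.1.trace ↔ y = z ∨ y = z⁻¹ := fun y => by
    constructor
    · intro e
      rcases eq_or_inv_of_Tm h.two h.tr (GL_det_ne_zero M) z.2.1 y.2.1 e with e' | e'
      · exact Or.inl (Subtype.ext e')
      · exact Or.inr (Subtype.ext e')
    · rintro (rfl | rfl)
      · rfl
      · exact SL_trace_inv _
  unfold bt
  simp only [e]
  split_ifs with h1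
  · subst h1
    simp
  · rw [← Finset.sum_filter, Finset.filter_or, Finset.filter_eq', Finset.filter_eq',
      if_pos (Finset.mem_univ _), if_pos (Finset.mem_univ _), Finset.sum_union
        (Finset.disjoint_singleton.2 fun e => h1 (h.To_eq_one e.symm))]
    simp

theorem bt_two : h.bt ν 2 = 1 := by
  simpa using h.bt_trace ν 1

theorem Phi_one : h.Phi ν 1 = 2 + 2 * (eta 𝐪 : ℂ) * 𝐪 := by
  simp [Phi, h.bt_two]

theorem Phi_cg (P : GL₂) (A : SL₂) : h.Phi ν (cg P A) = h.Phi ν A := by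
  unfold Phi
  rw [trace_cg]
  congr 2
  exact propext ⟨fun e => cg_inj P (e.trans (map_one _).symm), fun e => by rw [e, map_one]⟩

theorem Phi_class : IsClassFunction SL₂ (h.Phi ν) := fun A D => by
  rw [← cg_toGL, Phi_cg]

theorem Phi_odd {A : SL₂} (hA : h.Phi ν A ≠ 0) : Odd (orderOf A) := by
  by_cases h1 : A = 1
  · simp [h1]
  unfold Phi bt at hA
  rw [if_neg h1, add_zero] at hA
  obtain ⟨y, -, hy⟩ := Finset.exists_ne_zero_of_sum_ne_zero (right_ne_zero_of_mul hA)
  have ht : y.1.1.trace = A.1.trace := by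
    by_contra e
    exact hy (if_neg e)
  by_cases hy1 : y.1 = 1
  · obtain ⟨p, hp⟩ := CharP.exists F
    have := Fact.mk (CharP.char_is_prime F p)
    have hp2 : p ≠ 2 := by
      rintro rfl
      exact h.two two_eq_zero_of_charP
    refine ((CharP.char_is_prime F p).odd_of_ne_two hp2).of_dvd_nat
      (orderOf_dvd_of_pow_eq_one (SL_pow_char_eq_one p ?_))
    rw [← ht, hy1]; simp
  · obtain ⟨c, hc⟩ := isConj_iff.1 (SL_isConj_of_trace' ht (h.trace_sq_ne y.2 hy1))
    rw [← hc, orderOf_conj']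
    exact y.2.2

theorem cast_card_To : 2 * (Nat.card h.To : ℂ) = 𝐪 - eta 𝐪 := by exact_mod_cast h.card_To

theorem sum_mul_Phi {α : Multiplicative F →* ℂˣ} (hα : α ≠ 1) {f : SL₂ → ℂ}
    (hf : IsClassFunction SL₂ f) : ∑ A, f A * conj (h.Phi ν A) = Nat.card SL₂ *
      (av h.To.subtype ν f - av (uH F) α f - av ((cg M).comp (uH F)) α f) := by
  have hq : (𝐪 : ℂ) ≠ 0 := by exact_mod_cast Fintype.card_ne_zero
  have hm := card_ne_zero h.To
  have hT := h.cast_card_To
  have he := cast_eta_sq 𝐪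
  set m : ℂ := (Nat.card h.To : ℂ) with hmdef
  set S : h.To → ℂ := fun y => ∑ A : SL₂, if y.1.1.trace = A.1.trace then f A else 0 with hS
  have e1 : ∑ A, f A * conj (h.Phi ν A) =
      ∑ y : h.To, 2 * S y * conj (ν y : ℂ) + 2 * (eta 𝐪 : ℂ) * 𝐪 * f 1 := by
    have : ∀ A, f A * conj (h.Phi ν A) =
        ∑ y : h.To, 2 * (if y.1.1.trace = A.1.trace then f A else 0) * conj (ν y : ℂ) +
          if A = 1 then 2 * (eta 𝐪 : ℂ) * 𝐪 * f A else 0 := fun A => by
      unfold Phi bt
      rw [map_add, map_mul, map_sum, mul_add, Finset.mul_sum, Finset.mul_sum]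
      congr 1
      · refine Finset.sum_congr rfl fun y _ => ?_
        split_ifs <;> simp [map_ofNat]; ring
      · split_ifs <;> simp [map_ofNat]; ring
    simp only [this, Finset.sum_add_distrib, Finset.sum_ite_eq', Finset.mem_univ, if_true]
    rw [Finset.sum_comm]
    simp only [hS, Finset.mul_sum, Finset.sum_mul]
  have e2 : ∀ y : h.To, m * (2 * S y) = Nat.card SL₂ * f y +
      if y = 1 then m * (2 * S 1) - Nat.card SL₂ * f 1 else 0 := fun y => by
    split_ifs with h1
    · subst h1; simp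
    · have h1' : y.1 ≠ 1 := fun e => h1 (Subtype.ext e)
      have c := card_mul_sum_class hf y.1
      rw [← h.cent_eq y.2 h1', ← h.two_mul_card_To] at c
      push_cast at c
      have c' : S y = ∑ A : SL₂, if IsConj y.1 A then f A else 0 := by
        refine Finset.sum_congr rfl fun A _ => if_congr ?_ rfl rfl
        exact ⟨fun e => SL_isConj_of_trace' e (h.trace_sq_ne y.2 h1'), SL_trace_eq_of_isConj⟩
      rw [add_zero, ← c, c']
      ring
  have e3 : m * ∑ y : h.To, 2 * S y * conj (ν y : ℂ) =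
      Nat.card SL₂ * ∑ y : h.To, f y * conj (ν y : ℂ) + (m * (2 * S 1) - Nat.card SL₂ * f 1) := by
    have : ∀ y : h.To, m * (2 * S y * conj (ν y : ℂ)) = Nat.card SL₂ * (f y * conj (ν y : ℂ)) +
        if y = 1 then m * (2 * S 1) - Nat.card SL₂ * f 1 else 0 := fun y => by
      rw [← mul_assoc, e2]
      split_ifs with h1
      · subst h1; simp
      · ring
    rw [Finset.mul_sum, Finset.mul_sum]
    simp only [this, Finset.sum_add_distrib, Finset.sum_ite_eq', Finset.mem_univ, if_true]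
  have e4 : 2 * S 1 = 2 * f 1 + ((𝐪 : ℂ) ^ 2 - 1) * (f u₁ + f (cg M u₁)) := by
    rw [← h.sum_trace_two hf, hS]
    simp
  have e5 : ∑ s, f (uH F s) * conj (α s : ℂ) + ∑ s, f (cg M (uH F s)) * conj (α s : ℂ) =
      2 * f 1 - (f u₁ + f (cg M u₁)) := by
    rw [← Finset.sum_add_distrib]
    have : ∀ s, f (uH F s) * conj (α s : ℂ) + f (cg M (uH F s)) * conj (α s : ℂ) =
        (f u₁ + f (cg M u₁)) * conj (α s : ℂ) +
          if s = 1 then 2 * f 1 - (f u₁ + f (cg M u₁)) else 0 := fun s => by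
      split_ifs with hs
      · subst hs; simp; ring
      · rw [← add_mul, h.add_cg hf (fun e => hs (uH_eq_one.1 e)) (trace_uH s), add_zero]
    simp only [this, Finset.sum_add_distrib, ← Finset.mul_sum, sum_conj_hom hα,
      Finset.sum_ite_eq', Finset.mem_univ, if_true, mul_zero, zero_add]
  unfold av
  simp only [MonoidHom.comp_apply, Subgroup.subtype_apply]
  rw [e1, Nat.card_eq_fintype_card (α := Multiplicative F), Fintype.card_multiplicative, ← hmdef]
  rw [cast_card_SL] at e3 ⊢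
  rw [e4] at e3
  apply mul_left_cancel₀ hm
  field_simp
  linear_combination e3 + m * ((𝐪 : ℂ) ^ 2 - 1) * e5 + f 1 * 𝐪 * (𝐪 + eta 𝐪) * hT - f 1 * 𝐪 * he

theorem Phi_inner (hν : Function.Injective ν) (P : GL₂) {σ : F ≃+* F} (hσ : Odd (orderOf σ)) :
    ∑ A, h.Phi ν (cg P (fm σ A)) * conj (h.Phi ν A) =
      if σ = 1 then 2 * (Nat.card SL₂ : ℂ) else 0 := by
  have hq : (𝐪 : ℂ) ≠ 0 := by exact_mod_cast Fintype.card_ne_zero
  have hm := card_ne_zero h.To
  have hT := h.cast_card_To
  have he := cast_eta_sq 𝐪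
  obtain ⟨α, hα⟩ := exists_addChar (F := F)
  have hf : IsClassFunction SL₂ fun A => h.Phi ν (cg P (fm σ A)) :=
    (h.Phi_class ν).comp ((cg P).comp (fm σ))
  have hv : ∀ A, h.Phi ν (cg P (fm σ A)) =
      2 * h.bt ν (σ A.1.trace) + if A = 1 then 2 * (eta 𝐪 : ℂ) * 𝐪 else 0 := fun A => by
    rw [Phi_cg, Phi, trace_fm]
    congr 2
    exact propext ⟨fun e => fm_inj σ (e.trans (map_one _).symm), fun e => by rw [e, map_one]⟩
  have hU : ∀ π : Multiplicative F →* SL₂, (∀ s, (π s).1.trace = 2) → (∀ s, π s = 1 ↔ s = 1) →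
      av π α (fun A => h.Phi ν (cg P (fm σ A))) = 2 * (eta 𝐪 : ℂ) := fun π h1 h2 => by
    unfold av
    simp only [hv, h1, h2, map_ofNat, h.bt_two, add_mul, Finset.sum_add_distrib, ← Finset.mul_sum,
      sum_conj_hom hα, ite_mul, zero_mul, Finset.sum_ite_eq', Finset.mem_univ, if_true, map_one,
      Units.val_one]
    rw [Nat.card_eq_fintype_card, Fintype.card_multiplicative]
    field_simp
    ring
  have key : ∀ k : ℕ, (∀ A ∈ Tm M.1, (A ^ k).1.trace = σ A.1.trace) →
      ∑ A, h.Phi ν (cg P (fm σ A)) * conj (h.Phi ν A) = 2 * (Nat.card SL₂ : ℂ) *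
        ((if ν ^ k = ν then 1 else 0) + if (ν ^ k)⁻¹ = ν then 1 else 0) := fun k hk => by
    rw [h.sum_mul_Phi ν hα hf, hU _ trace_uH fun s => uH_eq_one,
      hU ((cg M).comp (uH F)) (fun s => (trace_cg _ _).trans (trace_uH s)) fun s =>
        ⟨fun e => uH_eq_one.1 (cg_inj M (e.trans (map_one _).symm)), fun e => by rw [e, map_one]⟩]
    have h1 : ∀ y : h.To, h.Phi ν (cg P (fm σ y.1)) * conj (ν y : ℂ) =
        2 * (((ν ^ k) y : ℂ) * conj (ν y : ℂ)) + 2 * (((ν ^ k)⁻¹ y : ℂ) * conj (ν y : ℂ)) +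
          if y = 1 then 2 * (eta 𝐪 : ℂ) * 𝐪 - 2 else 0 := fun y => by
      have h2 : y ^ k = 1 ↔ y = 1 := by
        refine ⟨fun e => ?_, fun e => by rw [e, one_pow]⟩
        by_contra hne
        apply h.trace_sq_ne y.2 fun e => hne (Subtype.ext e)
        have := hk y y.2.1
        rw [show y.1 ^ k = 1 from congrArg Subtype.val e] at this
        simp only [Matrix.SpecialLinearGroup.coe_one, trace_one, Fintype.card_fin,
          Nat.cast_ofNat] at this
        rw [σ.injective (this.symm.trans (map_ofNat σ 2).symm)]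
        norm_num
      rw [hv, ← hk y y.2.1, show y.1 ^ k = (y ^ k).1 from rfl, bt_trace]
      simp only [h2, OneMemClass.coe_eq_one, map_pow, MonoidHom.pow_apply, MonoidHom.inv_apply,
        Units.val_inv_eq_inv_val, Units.val_pow_eq_pow_val]
      split_ifs with h3
      · subst h3; simp
      · ring
    unfold av
    simp only [Subgroup.subtype_apply, h1, Finset.sum_add_distrib, ← Finset.mul_sum,
      KSG.sum_hom_mul_conj, Finset.sum_ite_eq', Finset.mem_univ, if_true]
    split_ifs <;>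
    · field_simp
      linear_combination -(eta 𝐪 : ℂ) * hT + he
  have hinv : ν⁻¹ ≠ ν := fun e => by
    obtain ⟨y, hy, h1⟩ := h.exists_ne_one
    have := DFunLike.congr_fun e ⟨y, hy⟩
    rw [MonoidHom.inv_apply, ← map_inv] at this
    exact h1 (congrArg Subtype.val (h.To_eq_one (hν this)))
  split_ifs with h1
  · have hp1 : ν ^ 1 = ν := by ext; simp
    rw [key 1 fun A _ => by rw [h1, pow_one]; rfl, hp1, if_pos rfl, if_neg hinv]
    ring
  · obtain ⟨k, hk⟩ := exists_trace_pow h.two h.tr (GL_det_ne_zero M) σ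
    rw [key k hk, if_neg, if_neg, add_zero, mul_zero]
    · intro e
      refine h1 (h.eq_one_of_fix hσ fun y hy => ?_)
      have := DFunLike.congr_fun e ⟨y, hy⟩
      rw [MonoidHom.inv_apply, MonoidHom.pow_apply, ← map_pow, ← map_inv] at this
      rw [← hk y hy.1, ← SL_trace_inv]
      exact congrArg (fun z : h.To => z.1.1.trace) (hν this)
    · intro e
      refine h1 (h.eq_one_of_fix hσ fun y hy => ?_)
      have := DFunLike.congr_fun e ⟨y, hy⟩
      rw [MonoidHom.pow_apply, ← map_pow] at this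
      rw [← hk y hy.1]
      exact congrArg (fun z : h.To => z.1.1.trace) (hν this)

theorem ne_one_of_inj (hν : Function.Injective ν) : ν ≠ 1 := fun e => by
  obtain ⟨y, hy, h1⟩ := h.exists_ne_one
  exact h1 (congrArg Subtype.val (hν (a₁ := ⟨y, hy⟩) (a₂ := 1) (by simp [e])))

theorem sum_inv_Phi (hν : ν ≠ 1) {P : GL₂} (ht : P.1.trace = 0) :
    ∑ A, (if cg P A = A⁻¹ then h.Phi ν A else 0) =
      if IsSquare P.1.det then 0 else 4 * (eta 𝐪 : ℂ) * 𝐪 := by
  have hd := GL_det_ne_zero P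
  have h4 := four_ne h.two
  have e1 : ∀ A : SL₂, (if cg P A = A⁻¹ then h.Phi ν A else 0) =
      ∑ y : h.To, (if (P.1 * A.1).trace = 0 ∧ A.1.trace = y.1.1.trace then 2 * (ν y : ℂ) else 0) +
        if A = 1 then 2 * (eta 𝐪 : ℂ) * 𝐪 else 0 := fun A => by
    simp only [cg_eq_inv_iff ht]
    by_cases e : (P.1 * A.1).trace = 0
    · rw [if_pos e, Phi, bt, Finset.mul_sum]
      congr 1
      refine Finset.sum_congr rfl fun y _ => ?_
      simp only [e, true_and, eq_comm (a := A.1.trace)]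
      split_ifs <;> simp
    · rw [if_neg e, if_neg (by rintro rfl; exact e (by simpa using ht))]
      simp [e]
  have e2 : ∀ y : h.To, ∑ A : SL₂,
      (if (P.1 * A.1).trace = 0 ∧ A.1.trace = y.1.1.trace then 2 * (ν y : ℂ) else 0) =
      2 * (nq P.1.det 1 : ℂ) * ν y + if y = 1 then 2 * (ety P.1.det : ℂ) * 𝐪 else 0 := fun y => by
    rw [← Finset.sum_filter, Finset.sum_const, ← Fintype.card_subtype, ← Nat.card_eq_fintype_card,
      card_orth h.two ht hd, nsmul_eq_mul]
    split_ifs with h1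
    · subst h1
      have : ((nq P.1.det 0 : ℤ) : ℂ) = ((nq P.1.det 1 + ety P.1.det * 𝐪 : ℤ) : ℂ) := by
        rw [nq_zero h.two hd]
      push_cast at this
      simp only [OneMemClass.coe_one, Matrix.SpecialLinearGroup.coe_one, trace_one,
        Fintype.card_fin, Nat.cast_ofNat, map_one, Units.val_one]
      rw [show (2 : F) ^ 2 / 4 - 1 = 0 by field_simp; norm_num, this]
      ring
    · rw [nq_eq h.two hd, add_zero]
      · ring
      · intro e
        apply h.trace_sq_ne y.2 fun e => h1 (Subtype.ext e)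
        field_simp at e
        linear_combination e
  simp only [e1, Finset.sum_add_distrib, Finset.sum_ite_eq', Finset.mem_univ, if_true]
  rw [Finset.sum_comm]
  simp only [e2, Finset.sum_add_distrib, ← Finset.mul_sum, sum_hom_eq_zero hν,
    Finset.sum_ite_eq', Finset.mem_univ, if_true]
  split_ifs with hs
  · rw [ety_of_sq hd hs]; push_cast; ring
  · rw [ety_of_not_sq hd hs]; ring

end NS

end Cfsg.Agent.FW.Ch
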