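import Mathlib
import Cfsg.Agent.FW.CharP

/-!
The structure of the centraliser of `j` used in the character step of Fong-Wong.
-/

set_option autoImplicit false
set_option linter.unusedSectionVars false
set_option linter.dupNamespace false

namespace Cfsg.Agent.FW.Ch

open Matrix KSG.M2 ComplexConjugate Cfsg.Agent.Char Cfsg.Agent.FW.Ch
open scoped MatrixGroups Classical

theorem sum_comp_hom {A G : Type*} [Group A] [Fintype A] [Group G] [Fintype G] (μ : A →* G)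
    (f : G → ℂ) : ∑ a, f (μ a) = Nat.card μ.ker * ∑ g, if g ∈ μ.range then f g else 0 := by
  rw [← Finset.sum_fiberwise (s := Finset.univ) (g := μ), Finset.mul_sum]
  refine Finset.sum_congr rfl fun g _ => ?_
  rw [Finset.sum_congr rfl (g := fun _ => f g) fun a ha => by rw [(Finset.mem_filter.1 ha).2],
    Finset.sum_const, nsmul_eq_mul]
  split_ifs with hg
  · congr 1
    rw [MonoidHom.card_fiber_eq_of_mem_range μ hg (one_mem μ.range), Nat.card_eq_fintype_card,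
      Fintype.card_subtype]
    simp only [MonoidHom.mem_ker]
  · rw [mul_zero, Finset.filter_eq_empty_iff.2 fun a _ e => hg ⟨a, e⟩]
    simp

theorem exists_hom_conj {A G : Type*} [Group A] [Group G] {π : A →* G} (hπ : Function.Injective π)
    {x : G} (hx : ∀ a, ∃ a', x * π a * x⁻¹ = π a') :
    ∃ κ : A →* A, Function.Injective κ ∧ ∀ a, x * π a * x⁻¹ = π (κ a) := by
  choose κ hκ using hx
  refine ⟨MonoidHom.mk' κ fun a b => hπ ?_, fun a b e => hπ ?_, hκ⟩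
  · rw [map_mul, ← hκ, ← hκ, ← hκ, map_mul, conj_mul]
  · have := (hκ a).trans ((congrArg π e).trans (hκ b).symm)
    simpa using this

theorem orderOf_eq_of_conj {A G : Type*} [Group A] [Group G] {π : A →* G}
    (hπ : Function.Injective π) {x : G} {a a' : A} (e : x * π a * x⁻¹ = π a') :
    orderOf a' = orderOf a := by
  rw [← orderOf_injective π hπ, ← e, orderOf_conj', orderOf_injective π hπ]

namespace NS

variable {F : Type*} [Field F] [Fintype F] {M : GL (Fin 2) F} (h : NS M)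
include h

theorem nscal_mul (A : SL(2, F)) : ¬ IsScal (A.1 * M.1) := fun hs => by
  obtain ⟨a, ha⟩ := isScal_iff.1 hs
  have := congrArg Matrix.det ha
  rw [Matrix.det_mul, A.2, Matrix.det_smul] at this
  exact h.ns ⟨a, by simpa [sq] using this⟩

theorem mul_sq (A : SL(2, F)) :
    A.1 * M.1 * (A.1 * M.1) = (-M.1.det) • (A * cg M A).1 := by
  have e : M.1 * M.1 = (-M.1.det) • (1 : Matrix (Fin 2) (Fin 2) F) := by
    rw [sq_eq, h.tr]; simp
  rw [Matrix.SpecialLinearGroup.coe_mul, Matrix.mul_assoc, ← Matrix.mul_assoc M.1,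
    cg_eq_iff.1 (rfl : cg M A = _), Matrix.mul_assoc, e]
  simp

theorem mul_cg_eq_one {A : SL(2, F)} (ht : (A.1 * M.1).trace = 0) : A * cg M A = 1 := by
  have e := h.mul_sq A
  rw [sq_eq, ht, Matrix.det_mul, A.2, one_mul, zero_smul, zero_sub, ← neg_smul] at e
  exact Subtype.ext (smul_right_injective _ (neg_ne_zero.2 (GL_det_ne_zero M)) e).symm

theorem trace_of_mul_cg {A : SL(2, F)} (e : A * cg M A = 1 ∨ A * cg M A = -1) :
    (A.1 * M.1).trace = 0 := by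
  refine trace_of_sq ?_ (h.nscal_mul A)
  rw [h.mul_sq]
  obtain ⟨a, ha⟩ := isScal_iff.1 (SL_isScal_iff.2 e)
  exact isScal_iff.2 ⟨_, by rw [ha, smul_smul]⟩

end NS

variable {F K G : Type*} [Field F] [Fintype F] [Field K] [Fintype K] [Group G]
  {φ : SL(2, F) →* G} {ψ : SL(2, K) →* G}

theorem Cfsg.Agent.FW.ActG.mul {c d : G} {P Q : GL (Fin 2) F} (h1 : ActG φ c P) (h2 : ActG φ d Q) :
    ActG φ (c * d) (P * Q) := fun A => by
  rw [cg_mul, ← h1, ← h2]; group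

theorem Cfsg.Agent.FW.ActG.inv {c : G} {P : GL (Fin 2) F} (h1 : ActG φ c P) : ActG φ c⁻¹ P⁻¹ := fun A => by
  have := h1 (cg P⁻¹ A)
  rw [cg_cg_inv] at this
  rw [← this]; group

theorem actG_self (D : SL(2, F)) : ActG φ (φ D) (Matrix.SpecialLinearGroup.toGL D) := fun A => by
  rw [cg_toGL, map_mul, map_mul, map_inv]

theorem actG_of_comm {c : G} (hc : ∀ A, Commute c (φ A)) : ActG φ c 1 := fun A => by
  rw [cg_one, (hc A).eq, mul_inv_cancel_right]

theorem Cfsg.Agent.FW.ActS.actG {c : G} {P : GL (Fin 2) F} {σ : F ≃+* F} (h : ActS φ c P σ) (e : σ = 1) :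
    ActG φ c P := fun A => by rw [h, e, fm_one]

theorem Cfsg.Agent.FW.ActG.comm_neg {c : G} {P : GL (Fin 2) F} (h : ActG φ c P) : Commute c (φ (-1)) := by
  have := h (-1)
  rw [cg_neg, map_one] at this
  exact mul_inv_eq_iff_eq_mul.1 this

theorem Cfsg.Agent.FW.ActG.comm_iff (hφ : Function.Injective φ) {c : G} {P : GL (Fin 2) F} (h : ActG φ c P)
    {A : SL(2, F)} : Commute (φ A) c ↔ A ∈ Tm P.1 := by
  rw [mem_Tm, ← cg_eq_iff, ← hφ.eq_iff, ← h, mul_inv_eq_iff_eq_mul]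
  exact eq_comm

theorem Cfsg.Agent.FW.ActS.eq_of_actG (hφ : Function.Injective φ) {c : G} {P Q : GL (Fin 2) F} {σ : F ≃+* F}
    (h : ActS φ c P σ) (h' : ActG φ c Q) : σ = 1 :=
  eq_one_of_trace fun A => by
    rw [← trace_fm, ← trace_cg P, hφ ((h A).symm.trans (h' A)), trace_cg]

theorem Cfsg.Agent.FW.ActS.eq_of_sq (hφ : Function.Injective φ) {c : G} {P : GL (Fin 2) F} {σ : F ≃+* F}
    (h : ActS φ c P σ) (hσ : Odd (orderOf σ)) (hc : c * c = 1) : σ = 1 :=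
  eq_one_of_odd_of_sq hσ <| eq_one_of_trace fun A => by
    have : φ A = φ (cg P (fm σ (cg P (fm σ A)))) := by
      rw [← h, ← h, ← mul_assoc, ← mul_assoc, hc, mul_assoc, ← _root_.mul_inv_rev, hc]; simp
    conv_rhs => rw [hφ this, trace_cg, trace_fm, trace_cg, trace_fm]
    rfl

theorem Cfsg.Agent.FW.ActS.trace (hφ : Function.Injective φ) {c : G} {P : GL (Fin 2) F} {σ : F ≃+* F}
    (h : ActS φ c P σ) {A : SL(2, F)} (hc : Commute c (φ A)) : σ A.1.trace = A.1.trace := by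
  have := h A
  rw [hc.eq, mul_inv_cancel_right] at this
  conv_rhs => rw [hφ this, trace_cg, trace_fm]

/-- The elements acting on both components as matrices. -/
def IsH (φ : SL(2, F) →* G) (ψ : SL(2, K) →* G) (c : G) : Prop :=
  ∃ P P', ActG φ c P ∧ ActG ψ c P'

theorem IsH.mul {c d : G} (h1 : IsH φ ψ c) (h2 : IsH φ ψ d) : IsH φ ψ (c * d) := by
  obtain ⟨P, P', a, b⟩ := h1
  obtain ⟨Q, Q', a', b'⟩ := h2
  exact ⟨_, _, a.mul a', b.mul b'⟩

namespace Cfsg.Agent.FW.Good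

variable (h : Good φ ψ)
include h

local notation "𝐣" => φ (-1)

theorem jj : 𝐣 * 𝐣 = 1 := by rw [← map_mul]; simp

theorem j_ne : 𝐣 ≠ 1 := fun e => SL_neg_one_ne h.twoF (h.φ_inj (e.trans (map_one φ).symm))

theorem φ_neg (A : SL(2, F)) : φ (-A) = 𝐣 * φ A := by rw [← map_mul]; simp

theorem ψ_neg (B : SL(2, K)) : ψ (-B) = 𝐣 * ψ B := by rw [← h.neg, ← map_mul]; simp

theorem φ_comm (A : SL(2, F)) : Commute (φ A) 𝐣 := (Commute.neg_one_right A).map φ

theorem ψ_comm (B : SL(2, K)) : Commute (ψ B) 𝐣 := (h.comm _ B).symm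

theorem eq_or {A A' : SL(2, F)} {B B' : SL(2, K)} (e : φ A * ψ B = φ A' * ψ B') :
    (A = A' ∧ B = B') ∨ (A = -A' ∧ B = -B') := by
  have e1 : φ (A'⁻¹ * A) = ψ (B' * B⁻¹) := by
    rw [map_mul, map_mul, map_inv, map_inv, inv_mul_eq_iff_eq_mul, ← mul_assoc, ← e,
      mul_inv_cancel_right]
  rcases h.inter _ _ e1 with e2 | e2
  · left
    rw [e2, map_one, eq_comm, ← map_one ψ] at e1
    exact ⟨(inv_mul_eq_one.1 e2).symm, (mul_inv_eq_one.1 (h.ψ_inj e1)).symm⟩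
  · right
    rw [e2, ← h.neg] at e1
    refine ⟨?_, ?_⟩
    · rw [inv_mul_eq_iff_eq_mul.1 e2]; simp
    · rw [mul_inv_eq_iff_eq_mul.1 (h.ψ_inj e1).symm]; simp

theorem eq_of_odd {A A' : SL(2, F)} {B B' : SL(2, K)} (e : φ A * ψ B = φ A' * ψ B')
    (hA : Odd (orderOf A)) (hA' : Odd (orderOf A')) : A = A' ∧ B = B' :=
  (h.eq_or e).resolve_right fun e' => not_odd_neg h.twoF hA' (e'.1 ▸ hA)

theorem eq_of_odd' {A A' : SL(2, F)} {B B' : SL(2, K)} (e : φ A * ψ B = φ A' * ψ B')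
    (hB : Odd (orderOf B)) (hB' : Odd (orderOf B')) : A = A' ∧ B = B' :=
  (h.eq_or e).resolve_right fun e' => not_odd_neg h.twoK hB' (e'.2 ▸ hB)

/-- The multiplication map of the two components. -/
def mu : SL(2, F) × SL(2, K) →* G := φ.noncommCoprod ψ h.comm

theorem mu_apply (x : SL(2, F) × SL(2, K)) : h.mu x = φ x.1 * ψ x.2 := rfl

theorem mul_mul (A A' : SL(2, F)) (B B' : SL(2, K)) :
    φ A * ψ B * (φ A' * ψ B') = φ (A * A') * ψ (B * B') := (h.mu.map_mul (A, B) (A', B')).symm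

theorem card_ker_mu : Nat.card h.mu.ker = 2 := by
  rw [Nat.card_eq_two_iff]
  refine ⟨1, ⟨(-1, -1), by rw [MonoidHom.mem_ker, mu_apply, h.neg, h.jj]⟩, fun e => ?_, ?_⟩
  · exact SL_neg_one_ne h.twoF (congrArg (fun x : h.mu.ker => x.1.1) e).symm
  · rw [Set.eq_univ_iff_forall]
    rintro ⟨⟨A, B⟩, hx⟩
    have : φ A * ψ B = φ 1 * ψ 1 := by rw [map_one, map_one, mul_one]; exact hx
    rcases h.eq_or this with ⟨rfl, rfl⟩ | ⟨rfl, rfl⟩
    · exact Or.inl rfl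
    · exact Or.inr rfl

theorem actφ (A : SL(2, F)) (B : SL(2, K)) :
    ActG φ (φ A * ψ B) (Matrix.SpecialLinearGroup.toGL A) := by
  simpa using (actG_self A).mul (actG_of_comm fun D => (h.comm D B).symm)

theorem actψ (A : SL(2, F)) (B : SL(2, K)) :
    ActG ψ (φ A * ψ B) (Matrix.SpecialLinearGroup.toGL B) := by
  simpa using (actG_of_comm fun D => h.comm A D).mul (actG_self B)

theorem isH_mu (A : SL(2, F)) (B : SL(2, K)) : IsH φ ψ (φ A * ψ B) :=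
  ⟨_, _, h.actφ A B, h.actψ A B⟩

theorem sq_iff {c : G} {P : GL (Fin 2) F} {P' : GL (Fin 2) K} (h1 : ActG φ c P)
    (h2 : ActG ψ c P') : IsSquare P.1.det ↔ IsSquare P'.1.det := by
  obtain ⟨Q, σ, Q', σ', a, b, -, -, e⟩ := h.act c h1.comm_neg
  have a' := a.actG (a.eq_of_actG h.φ_inj h1)
  have b' := b.actG (b.eq_of_actG h.ψ_inj h2)
  rw [isSquare_iff_of_cg fun A => h.φ_inj ((h1 A).symm.trans (a' A)), e,
    isSquare_iff_of_cg fun A => h.ψ_inj ((h2 A).symm.trans (b' A))]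

theorem isH_of_sq {c : G} (hc : c * c = 1) (hj : Commute c 𝐣) : IsH φ ψ c := by
  obtain ⟨Q, σ, Q', σ', a, b, o, o', -⟩ := h.act c hj
  exact ⟨_, _, a.actG (a.eq_of_sq h.φ_inj o hc), b.actG (b.eq_of_sq h.ψ_inj o' hc)⟩

theorem exists_of_sq {c : G} {P : GL (Fin 2) F} {P' : GL (Fin 2) K} (h1 : ActG φ c P)
    (h2 : ActG ψ c P') (hs : IsSquare P.1.det) : ∃ A B, c = φ A * ψ B := by
  obtain ⟨r, A, e⟩ := exists_smul_of_isSquare hs
  obtain ⟨r', B, e'⟩ := exists_smul_of_isSquare ((h.sq_iff h1 h2).1 hs)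
  have := h.ker ((φ A * ψ B)⁻¹ * c) (fun D => by
    have := (h.actφ A B).inv.mul h1 D
    rw [cg_mul, cg_of_smul e, ← cg_toGL, cg_inv_cg] at this
    exact mul_inv_eq_iff_eq_mul.1 this) fun D => by
    have := (h.actψ A B).inv.mul h2 D
    rw [cg_mul, cg_of_smul e', ← cg_toGL, cg_inv_cg] at this
    exact mul_inv_eq_iff_eq_mul.1 this
  rcases this with e1 | e1
  · exact ⟨A, B, (inv_mul_eq_one.1 e1).symm⟩
  · refine ⟨A, -B, ?_⟩
    rw [inv_mul_eq_iff_eq_mul.1 e1, h.ψ_neg, mul_assoc, (h.ψ_comm B).eq]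

theorem normφ {c : G} (hc : Commute c 𝐣) (A : SL(2, F)) : ∃ A', c * φ A * c⁻¹ = φ A' := by
  obtain ⟨Q, σ, Q', σ', a, -⟩ := h.act c hc
  exact ⟨_, a A⟩

theorem normψ {c : G} (hc : Commute c 𝐣) (B : SL(2, K)) : ∃ B', c * ψ B * c⁻¹ = ψ B' := by
  obtain ⟨Q, σ, Q', σ', -, b, -⟩ := h.act c hc
  exact ⟨_, b B⟩

theorem conj_split {c : G} (hc : Commute c 𝐣) {A A' : SL(2, F)} {B B' : SL(2, K)}
    (hA : Odd (orderOf A)) (hA' : Odd (orderOf A'))
    (e : c * (φ A * ψ B) * c⁻¹ = φ A' * ψ B') : c * φ A * c⁻¹ = φ A' ∧ c * ψ B * c⁻¹ = ψ B' := by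
  obtain ⟨A₁, e1⟩ := h.normφ hc A
  obtain ⟨B₁, e2⟩ := h.normψ hc B
  rw [← conj_mul, e1, e2] at e
  obtain ⟨rfl, rfl⟩ := h.eq_of_odd e (by rwa [orderOf_eq_of_conj h.φ_inj e1]) hA'
  exact ⟨e1, e2⟩

theorem isConj_iff {s : G} (hs : Commute s 𝐣) : IsConj 𝐣 s ↔ s * s = 1 ∧ s ≠ 1 := by
  constructor
  · intro e
    obtain ⟨c, rfl⟩ := _root_.isConj_iff.1 e
    refine ⟨by rw [conj_mul, h.jj]; simp, fun e => h.j_ne (by simpa using e)⟩
  · rintro ⟨h1, h2⟩
    by_cases e : s = 𝐣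
    · rw [e]
    · obtain ⟨ρ, hρ, -⟩ := h.fus s h1 h2 e hs
      exact _root_.isConj_iff.2 ⟨ρ, hρ⟩

theorem card_cent_le [Fintype G] : Nat.card (Subgroup.centralizer ({𝐣} : Set G)) ≤
    Nat.card {c : G // IsH φ ψ c} * (Nat.card (F ≃+* F) * Nat.card (K ≃+* K)) := by
  have : Finite (F ≃+* F) := Finite.of_injective _ DFunLike.coe_injective
  have : Finite (K ≃+* K) := Finite.of_injective _ DFunLike.coe_injective
  have := Fintype.ofFinite ((F ≃+* F) × (K ≃+* K))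
  choose P σ P' σ' a b _ _ _ using fun c : Subgroup.centralizer ({𝐣} : Set G) =>
    h.act c (Subgroup.mem_centralizer_singleton_iff.1 c.2)
  rw [← Nat.card_prod, Nat.card_eq_fintype_card,
    Nat.card_eq_fintype_card (α := (F ≃+* F) × (K ≃+* K)), ← Finset.card_univ, ← Finset.card_univ]
  refine Finset.card_le_mul_card_image_of_maps_to (f := fun c => (σ c, σ' c))
    (fun _ _ => Finset.mem_univ _) _ fun x _ => ?_
  rcases (Finset.univ.filter fun c => (σ c, σ' c) = x).eq_empty_or_nonempty with e | ⟨c, hc⟩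
  · simp [e]
  · rw [← Fintype.card_coe, ← Nat.card_eq_fintype_card]
    refine Nat.card_le_card_of_injective (fun d => ⟨d.1.1 * c.1⁻¹, P d * (P c)⁻¹, P' d * (P' c)⁻¹,
      fun A => ?_, fun A => ?_⟩) fun d d' e => ?_
    · obtain ⟨A, rfl⟩ := fm_surj (σ c) (cg (P c)⁻¹ A) |>.imp fun _ e =>
        (cg_cg_inv (P c) A).symm.trans (congrArg (cg (P c)) e.symm)
      have e := (Finset.mem_filter.1 d.2).2.trans (Finset.mem_filter.1 hc).2.symm
      rw [cg_mul, cg_inv_cg, ← a c, ← show σ d = σ c from (Prod.ext_iff.1 e).1, ← a d]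
      group
    · obtain ⟨A, rfl⟩ := fm_surj (σ' c) (cg (P' c)⁻¹ A) |>.imp fun _ e =>
        (cg_cg_inv (P' c) A).symm.trans (congrArg (cg (P' c)) e.symm)
      have e := (Finset.mem_filter.1 d.2).2.trans (Finset.mem_filter.1 hc).2.symm
      rw [cg_mul, cg_inv_cg, ← b c, ← show σ' d = σ' c from (Prod.ext_iff.1 e).2, ← b d]
      group
    · exact Subtype.ext (Subtype.ext (mul_right_cancel (congrArg Subtype.val e)))

end Cfsg.Agent.FW.Good

/-- The centraliser of `j` with an outer involution `t`. -/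
structure Ctx (φ : SL(2, F) →* G) (ψ : SL(2, K) →* G) (t : G) (M : GL (Fin 2) F)
    (M' : GL (Fin 2) K) : Prop where
  good : Good φ ψ
  hq : Fintype.card F = Fintype.card K
  ns : NS M
  ns' : NS M'
  tt : t * t = 1
  aF : ActG φ t M
  aK : ActG ψ t M'

namespace Ctx

variable {t : G} {M : GL (Fin 2) F} {M' : GL (Fin 2) K} (h : Ctx φ ψ t M M')
include h

local notation "𝐣" => φ (-1)

theorem t_inv : t⁻¹ = t := inv_eq_of_mul_eq_one_right h.tt

theorem tφ (A : SL(2, F)) : t * φ A = φ (cg M A) * t := mul_inv_eq_iff_eq_mul.1 (h.aF A)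

theorem tψ (B : SL(2, K)) : t * ψ B = ψ (cg M' B) * t := mul_inv_eq_iff_eq_mul.1 (h.aK B)

theorem tψ' {B : SL(2, K)} (hB : B ∈ Tm M'.1) : Commute (ψ B) t :=
  (h.aK.comm_iff h.good.ψ_inj).2 hB

theorem isH_t : IsH φ ψ t := ⟨_, _, h.aF, h.aK⟩

theorem mu_ne (A : SL(2, F)) (B : SL(2, K)) : φ A * ψ B ≠ t := fun e => by
  have := isSquare_iff_of_cg fun D => h.good.φ_inj ((h.aF D).symm.trans ((e ▸ h.good.actφ A B) D))
  refine h.ns.ns (this.2 ⟨1, ?_⟩)
  rw [one_mul]; exact A.2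

theorem mu_ne' (A A' : SL(2, F)) (B B' : SL(2, K)) : φ A * ψ B ≠ φ A' * ψ B' * t := fun e =>
  h.mu_ne (A'⁻¹ * A) (B'⁻¹ * B) (by
    rw [← h.good.mul_mul, e, ← mul_assoc, h.good.mul_mul]; simp)

theorem t_ne_one : t ≠ 1 := fun e => h.mu_ne 1 1 (by simp [e])

theorem t_ne_j : t ≠ 𝐣 := fun e => h.mu_ne (-1) 1 (by simp [e])

theorem decomp {c : G} (hc : IsH φ ψ c) : ∃ A B, c = φ A * ψ B ∨ c = φ A * ψ B * t := by
  obtain ⟨P, P', a, b⟩ := hc
  by_cases hs : IsSquare P.1.det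
  · obtain ⟨A, B, e⟩ := h.good.exists_of_sq a b hs
    exact ⟨A, B, Or.inl e⟩
  · obtain ⟨A, B, e⟩ := h.good.exists_of_sq (a.mul h.aF) (b.mul h.aK) (by
      rw [Units.val_mul, Matrix.det_mul, isSquare_mul_iff (GL_det_ne_zero P) (GL_det_ne_zero M)]
      simp only [hs, h.ns.ns])
    exact ⟨A, B, Or.inr (by rw [← e, mul_assoc, h.tt, mul_one])⟩

theorem sum_H [Fintype G] {f : G → ℂ} (hf : ∀ g, f g ≠ 0 → IsH φ ψ g) :
    2 * ∑ g, f g = ∑ x : SL(2, F) × SL(2, K), f (φ x.1 * ψ x.2) +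
      ∑ x : SL(2, F) × SL(2, K), f (φ x.1 * ψ x.2 * t) := by
  have e1 := sum_comp_hom h.good.mu f
  have e2 := sum_comp_hom h.good.mu fun g => f (g * t)
  simp only [Cfsg.Agent.FW.Good.mu_apply, h.good.card_ker_mu, Nat.cast_ofNat] at e1 e2
  rw [e1, e2, ← mul_add, ← Fintype.sum_equiv (Equiv.mulRight t)
    (fun g => if g * t ∈ h.good.mu.range then f g else 0)
    (fun g => if g ∈ h.good.mu.range then f (g * t) else 0) fun g => by
      simp only [Equiv.coe_mulRight, mul_assoc, h.tt, mul_one], ← Finset.sum_add_distrib]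
  congr 1
  refine Finset.sum_congr rfl fun g _ => ?_
  by_cases h0 : f g = 0
  · simp [h0]
  obtain ⟨A, B, e | e⟩ := h.decomp (hf g h0)
  · rw [if_pos ⟨(A, B), e.symm⟩, if_neg, add_zero]
    rintro ⟨x, hx⟩
    exact h.mu_ne' _ _ _ _ (hx.trans (by rw [e]))
  · rw [if_neg, if_pos ⟨(A, B), by rw [e, mul_assoc, h.tt, mul_one]; rfl⟩, zero_add]
    rintro ⟨x, hx⟩
    exact h.mu_ne' _ _ _ _ (hx.trans e)

theorem card_H [Fintype G] :
    Nat.card {c : G // IsH φ ψ c} = Nat.card SL(2, F) * Nat.card SL(2, K) := by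
  have := h.sum_H (f := fun g => if IsH φ ψ g then 1 else 0) fun g hg => by
    by_contra e; exact hg (if_neg e)
  simp only [h.good.isH_mu, (h.good.isH_mu _ _).mul h.isH_t, if_true, Finset.sum_const,
    Finset.card_univ, nsmul_eq_mul, mul_one, Finset.sum_boole, ← two_mul] at this
  have := mul_left_cancel₀ two_ne_zero this
  rw [← Nat.card_prod, Nat.card_eq_fintype_card, Nat.card_eq_fintype_card, Fintype.card_subtype]
  exact_mod_cast this

theorem out_sq (A : SL(2, F)) (B : SL(2, K)) :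
    φ A * ψ B * t * (φ A * ψ B * t) = φ (A * cg M A) * ψ (B * cg M' B) := by
  rw [← h.good.mul_mul, ← h.aF, ← h.aK, h.t_inv]
  simp only [mul_assoc]
  rw [← mul_assoc t t, h.tt, one_mul]

theorem out_sq_iff {A : SL(2, F)} {B : SL(2, K)} :
    φ A * ψ B * t * (φ A * ψ B * t) = 1 ↔ (A.1 * M.1).trace = 0 ∧ (B.1 * M'.1).trace = 0 := by
  rw [h.out_sq]
  constructor
  · intro e
    rcases h.good.eq_or (A' := 1) (B' := 1) (by rw [e]; simp) with e' | e'
    · exact ⟨h.ns.trace_of_mul_cg (Or.inl e'.1), h.ns'.trace_of_mul_cg (Or.inl e'.2)⟩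
    · exact ⟨h.ns.trace_of_mul_cg (Or.inr e'.1), h.ns'.trace_of_mul_cg (Or.inr e'.2)⟩
  · rintro ⟨e, e'⟩
    rw [h.ns.mul_cg_eq_one e, h.ns'.mul_cg_eq_one e']; simp

theorem in_sq {A : SL(2, F)} {B : SL(2, K)} (e : φ A * ψ B * (φ A * ψ B) = 1) :
    (φ A * ψ B = 1 ∨ φ A * ψ B = 𝐣) ∨ (A.1.trace = 0 ∧ B.1.trace = 0) := by
  rw [h.good.mul_mul] at e
  rcases h.good.eq_or (A' := 1) (B' := 1) (by rw [e]; simp) with e' | e'
  · left
    rcases (SL_sq_eq_one_iff h.good.twoF).1 (sq A ▸ e'.1) with rfl | rfl <;>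
      rcases (SL_sq_eq_one_iff h.good.twoK).1 (sq B ▸ e'.2) with rfl | rfl <;>
      simp [h.good.neg, h.good.jj]
  · exact Or.inr ⟨SL_sq_eq_neg_one_iff.1 e'.1, SL_sq_eq_neg_one_iff.1 e'.2⟩

theorem invol_cases {s : G} (hs : s * s = 1) (hj : Commute s 𝐣)
    (hc : ∀ B ∈ h.ns'.To, Commute s (ψ B)) :
    (s = 1 ∨ s = 𝐣) ∨ ∃ D : SL(2, F), (D.1 * M.1).trace = 0 ∧ s = φ D * t := by
  obtain ⟨A, B, rfl | rfl⟩ := h.decomp (h.good.isH_of_sq hs hj)
  · refine Or.inl ((h.in_sq hs).resolve_right fun e => h.ns'.trace_ne_zero ?_ e.2)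
    refine h.ns'.mem_Tm_of_comm fun y hy => h.good.ψ_inj ?_
    rw [map_mul, map_mul]
    exact (((h.good.comm A y).inv_left.mul_left (hc y hy)).eq.trans (by group)).symm.trans
      (by group) |>.symm
  · obtain ⟨e1, e2⟩ := h.out_sq_iff.1 hs
    have : B ∈ Tm M'.1 := by
      refine h.ns'.mem_Tm_of_comm fun y hy => h.good.ψ_inj ?_
      have := ((h.good.comm A y).inv_left.mul_left (hc y hy)).mul_left (h.tψ' hy.1).symm
      rw [← mul_assoc, inv_mul_cancel_left, mul_assoc, h.tt, mul_one] at this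
      rw [map_mul, map_mul, this.eq]
    right
    rcases h.ns'.eq_of_trace_mul this e2 with rfl | rfl
    · exact ⟨A, e1, by simp⟩
    · refine ⟨-A, by simpa using e1, ?_⟩
      rw [h.good.neg, h.good.φ_neg A, (h.good.φ_comm A).eq]

theorem conj_t {x : G} (hj : Commute x 𝐣) (hx : ∀ B ∈ h.ns'.To, Commute (x * t * x⁻¹) (ψ B)) :
    ∃ D : SL(2, F), (D.1 * M.1).trace = 0 ∧ x * t * x⁻¹ = φ D * t := by
  refine (h.invol_cases (by rw [conj_mul, h.tt]; simp)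
    ((hj.mul_left h.aF.comm_neg).mul_left hj.inv_left) hx).resolve_left ?_
  rintro (e | e)
  · exact h.t_ne_one (by simpa using e)
  · rw [mul_inv_eq_iff_eq_mul, ← hj.eq] at e
    exact h.t_ne_j (mul_left_cancel e)

theorem card_To_eq : Nat.card h.ns.To = Nat.card h.ns'.To := by
  have h1 := h.ns.card_To
  have h2 := h.ns'.card_To
  rw [← h.hq] at h2
  omega

/-- The odd part of the torus centralised by `t`. -/
def tau : h.ns.To × h.ns'.To →* G := h.good.mu.comp (h.ns.To.subtype.prodMap h.ns'.To.subtype)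

theorem tau_apply (a : h.ns.To × h.ns'.To) : h.tau a = φ a.1 * ψ a.2 := rfl

theorem tau_inj : Function.Injective h.tau := fun a b e => by
  obtain ⟨e1, e2⟩ := h.good.eq_of_odd e a.1.2.2 b.1.2.2
  exact Prod.ext (Subtype.ext e1) (Subtype.ext e2)

theorem mem_Tod {x : G} : x ∈ Tod φ ψ t ↔ ∃ a, x = h.tau a := by
  constructor
  · rintro ⟨A, B, h1, h2, h3, h4, rfl⟩
    exact ⟨(⟨A, (h.aF.comm_iff h.good.φ_inj).1 h3, h1⟩, ⟨B, (h.aK.comm_iff h.good.ψ_inj).1 h4, h2⟩),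
      rfl⟩
  · rintro ⟨a, rfl⟩
    exact ⟨a.1, a.2, a.1.2.2, a.2.2.2, (h.aF.comm_iff h.good.φ_inj).2 a.1.2.1,
      (h.aK.comm_iff h.good.ψ_inj).2 a.2.2.1, rfl⟩

/-- The automorphism of the torus induced by the fusion of involutions. -/
structure Rho (ρ : G) (r : h.ns.To × h.ns'.To →* h.ns.To × h.ns'.To) : Prop where
  bij : Function.Bijective r
  hr : ∀ a, ρ * h.tau a * ρ⁻¹ = h.tau (r a)
  hj : ρ * φ (-1) * ρ⁻¹ = t
  hjt : ρ * t * ρ⁻¹ = φ (-1) * t
  i12 : ∀ a, (r (a, 1)).2 = 1 → a = 1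
  i21 : ∀ b, (r (1, b)).1 = 1 → b = 1
  i22 : ∀ b, (r (1, b)).2 = 1 → b = 1

theorem Rho.cross {ρ : G} {r : h.ns.To × h.ns'.To →* h.ns.To × h.ns'.To} (hρ : h.Rho ρ r) {x : G}
    (hj : Commute x 𝐣) (hx : ∀ B ∈ h.ns'.To, Commute x (ψ B)) : IsH φ ψ x := by
  obtain ⟨P, σ, P', σ', a, b, o, o', -⟩ := h.good.act x hj
  refine ⟨P, P', a.actG (h.ns.eq_one_of_fix o fun y hy => ?_),
    b.actG (h.ns'.eq_one_of_fix o' fun y hy => b.trace h.good.ψ_inj (hx y hy))⟩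
  obtain ⟨D, hD, e⟩ := h.conj_t hj fun B hB =>
    ((hx B hB).mul_left (h.tψ' hB.1).symm).mul_left (hx B hB).inv_left
  obtain ⟨E, hE⟩ := exists_conj_of_trace h.good.twoF h.ns.tr hD (GL_det_ne_zero M)
    (by rw [Matrix.det_mul, D.2, one_mul])
  have e1 : φ E * t = φ D * t * φ E := by
    rw [mul_assoc, h.tφ, ← mul_assoc, ← map_mul]
    congr 2
    apply Subtype.ext
    rw [Matrix.SpecialLinearGroup.coe_mul, coe_cg, ← Matrix.mul_assoc, ← Matrix.mul_assoc, ← hE,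
      Units.mul_inv_cancel_right]
  set x' := (φ E)⁻¹ * x with hx'
  have c1 : Commute x' t := by
    change (φ E)⁻¹ * x * t = t * ((φ E)⁻¹ * x)
    rw [mul_assoc, mul_inv_eq_iff_eq_mul.1 e, inv_mul_eq_iff_eq_mul, ← mul_assoc, ← mul_assoc, e1]
    group
  have c2 : Commute x' 𝐣 := (h.good.φ_comm E).inv_left.mul_left hj
  have c3 : ∀ B ∈ h.ns'.To, Commute x' (ψ B) := fun B hB =>
    (h.good.comm E B).inv_left.mul_left (hx B hB)
  have k : ∀ g, Commute x' g ↔ Commute (ρ * x' * ρ⁻¹) (ρ * g * ρ⁻¹) := fun g =>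
    (Commute.conj_iff ρ).symm
  have d1 : Commute (ρ * x' * ρ⁻¹) 𝐣 := by
    have := (hρ.hjt ▸ (k _).1 c1).mul_right (hρ.hj ▸ (k _).1 c2)
    rwa [mul_assoc 𝐣, h.tt, mul_one] at this
  have d2 : ∀ b : h.ns'.To, Commute (ρ * x' * ρ⁻¹) (φ (r (1, b)).1) ∧
      Commute (ρ * x' * ρ⁻¹) (ψ (r (1, b)).2) := fun b => by
    have := (k _).1 (show Commute x' (h.tau (1, b)) by simpa [h.tau_apply] using c3 b b.2)
    rw [hρ.hr, h.tau_apply] at this
    obtain ⟨e1, e2⟩ := h.good.conj_split d1 (r (1, b)).1.2.2 (r (1, b)).1.2.2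
      (mul_inv_eq_iff_eq_mul.2 this)
    exact ⟨mul_inv_eq_iff_eq_mul.1 e1, mul_inv_eq_iff_eq_mul.1 e2⟩
  have s1 : Function.Surjective ((MonoidHom.fst _ _).comp (r.comp (MonoidHom.inr _ _))) :=
    ((Nat.bijective_iff_injective_and_card _).2
      ⟨(injective_iff_map_eq_one _).2 hρ.i21, h.card_To_eq.symm⟩).2
  have s2 : Function.Surjective ((MonoidHom.snd _ _).comp (r.comp (MonoidHom.inr _ _))) :=
    Finite.surjective_of_injective ((injective_iff_map_eq_one _).2 hρ.i22)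
  have d3 : ∀ a, Commute (ρ * x' * ρ⁻¹) (h.tau a) := fun a => by
    obtain ⟨b1, e1⟩ := s1 a.1
    obtain ⟨b2, e2⟩ := s2 a.2
    rw [h.tau_apply, ← e1, ← e2]
    exact (d2 b1).1.mul_right (d2 b2).2
  have d4 : Commute x' (φ y) := by
    have := (k _).2 ((hρ.hr (⟨y, hy⟩, 1)).symm ▸ d3 _)
    simpa [h.tau_apply] using this
  have := a y
  rw [show x = φ E * x' by rw [hx']; group, mul_assoc (φ E), d4.eq, _root_.mul_inv_rev,
    ← mul_assoc, ← mul_assoc, mul_inv_cancel_right, ← map_inv, ← map_mul, ← map_mul,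
    ← cg_toGL] at this
  rw [← trace_fm, ← trace_cg P, ← h.good.φ_inj this, trace_cg]

theorem exists_rho {ρ : G} (hn : ∀ x ∈ Tod φ ψ t, ρ * x * ρ⁻¹ ∈ Tod φ ψ t)
    (hj : ρ * φ (-1) * ρ⁻¹ = t) (hjt : ρ * t * ρ⁻¹ = φ (-1) * t)
    (h1 : ∀ A, Odd (orderOf A) → Commute (φ A) t → A ≠ 1 →
      ρ * φ A * ρ⁻¹ ∉ φ.range ∧ ρ * φ A * ρ⁻¹ ∉ ψ.range)
    (h2 : ∀ B, Odd (orderOf B) → Commute (ψ B) t → B ≠ 1 →
      ρ * ψ B * ρ⁻¹ ∉ φ.range ∧ ρ * ψ B * ρ⁻¹ ∉ ψ.range) : ∃ r, h.Rho ρ r := by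
  obtain ⟨r, hr, e⟩ := exists_hom_conj h.tau_inj (x := ρ) fun a =>
    h.mem_Tod.1 (hn _ (h.mem_Tod.2 ⟨a, rfl⟩))
  refine ⟨r, Finite.injective_iff_bijective.1 hr, e, hj, hjt, fun a ha => ?_, fun b hb => ?_,
    fun b hb => ?_⟩
  · by_contra hne
    refine (h1 a a.2.2 ((h.aF.comm_iff h.good.φ_inj).2 a.2.1) fun e => hne (Subtype.ext e)).1
      ⟨(r (a, 1)).1, ?_⟩
    simpa [h.tau_apply, ha] using (e (a, 1)).symm
  · by_contra hne
    refine (h2 b b.2.2 (h.tψ' b.2.1) fun e => hne (Subtype.ext e)).2 ⟨(r (1, b)).2, ?_⟩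
    simpa [h.tau_apply, hb] using (e (1, b)).symm
  · by_contra hne
    refine (h2 b b.2.2 (h.tψ' b.2.1) fun e => hne (Subtype.ext e)).1 ⟨(r (1, b)).1, ?_⟩
    simpa [h.tau_apply, hb] using (e (1, b)).symm

end Ctx

end Cfsg.Agent.FW.Ch
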