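import Mathlib
import Cfsg.Agent.FW.CharC

/-!
The virtual character induced from the torus of order `q² - 1` in the character step of Fong-Wong.
-/

set_option autoImplicit false
set_option linter.unusedSectionVars false

namespace Cfsg.Agent.FW.Ch

open Matrix KSG.M2 ComplexConjugate Cfsg.Agent.Char Cfsg.Agent.FW.Ch
open scoped MatrixGroups Classical

variable {F K G : Type*} [Field F] [Fintype F] [Field K] [Fintype K] [Group G]
  {φ : SL(2, F) →* G} {ψ : SL(2, K) →* G}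

noncomputable instance fintypeTm (P : Matrix (Fin 2) (Fin 2) F) : Fintype (Tm P) :=
  Fintype.ofFinite _

/-- A quaternion pair `w`, `n` with `w` inverted by `M`. -/
structure Qp (M : GL (Fin 2) F) (w n : SL(2, F)) : Prop where
  wM : w.1 * M.1 = -(M.1 * w.1)
  nw : n.1 * w.1 = -(w.1 * n.1)

theorem NS.exists_qp {M : GL (Fin 2) F} (h : NS M) : ∃ w n, Qp M w n := by
  obtain ⟨w, hw⟩ := exists_anti h.two h.tr (GL_det_ne_zero M)
  obtain ⟨n, hn⟩ := exists_anti h.two (trace_of_anti' h.two (GL_det_ne_zero M) hw)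
    (by rw [w.2]; exact one_ne_zero)
  exact ⟨w, n, hw, hn⟩

namespace Qp

variable {M : GL (Fin 2) F} {w n : SL(2, F)} (k : Qp M w n) (h : NS M)
include k h

theorem tr_w : w.1.trace = 0 := trace_of_anti' h.two (GL_det_ne_zero M) k.wM

theorem det_w : w.1.det ≠ 0 := by rw [w.2]; exact one_ne_zero

theorem tr_n : n.1.trace = 0 := trace_of_anti' h.two (k.det_w h) k.nw

theorem nscal : ¬ IsScal w.1 := nscal_of_trace h.two (k.tr_w h) (k.det_w h)

theorem cg_w : cg M w = -w := cg_eq_iff.2 (by simp [k.wM])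

theorem comm_nM : w.1 * (n.1 * M.1) = n.1 * M.1 * w.1 := by
  rw [Matrix.mul_assoc, ← neg_neg (M.1 * w.1), ← k.wM, Matrix.mul_neg, ← Matrix.mul_assoc n.1, k.nw]
  simp [Matrix.mul_assoc]

theorem w_ne_neg : w ≠ -w := fun e => by
  have h1 : w * w = -1 := SL_sq_eq_neg_one_iff.2 (k.tr_w h)
  have h2 : w * w = -(w * w) := by nth_rewrite 2 [e]; simp
  rw [h1, neg_neg] at h2
  exact SL_neg_one_ne h.two h2

theorem eq_or_neg {v : SL(2, F)} (hv : v ∈ Tm w.1) (ht : v.1.trace = 0) : v = w ∨ v = -w := by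
  rcases eq_or_inv_of_Tm h.two (k.tr_w h) (k.det_w h) (A := w) rfl hv (ht.trans (k.tr_w h).symm)
    with e | e
  · exact Or.inl e
  · refine Or.inr (e.trans (inv_eq_of_mul_eq_one_right ?_))
    rw [mul_neg, SL_sq_eq_neg_one_iff.2 (k.tr_w h), neg_neg]

theorem trace_ne {D : SL(2, F)} (hD : D ∈ Tm w.1) : (n.1 * M.1 * D.1).trace ≠ 0 := fun ht => by
  obtain ⟨x, y, e⟩ := (comm_iff (k.nscal h) (B := n.1 * M.1 * D.1)).1 (by
    rw [← Matrix.mul_assoc, k.comm_nM h, Matrix.mul_assoc, mem_Tm.1 hD, Matrix.mul_assoc _ D.1])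
  have hd := congrArg Matrix.det e
  rw [e, trace_smul_add, k.tr_w h] at ht
  rw [Matrix.det_mul, Matrix.det_mul, n.2, D.2, det_smul_add, k.tr_w h, w.2] at hd
  have hx : x = 0 := (mul_eq_zero.1 (by linear_combination ht)).resolve_left h.two
  exact h.ns ⟨y, by linear_combination hd + x * hx⟩

theorem mem_Tm_of_comm {D E : SL(2, F)} (hD : D ∈ Tm w.1)
    (hE : n.1 * M.1 * D.1 * E.1 = E.1 * (n.1 * M.1 * D.1)) : E ∈ Tm w.1 := by
  have h1 : ¬ IsScal (n.1 * M.1 * D.1) := fun hs => by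
    obtain ⟨a, ha⟩ := isScal_iff.1 hs
    have := congrArg Matrix.det ha
    rw [Matrix.det_mul, Matrix.det_mul, n.2, D.2, Matrix.det_smul] at this
    exact h.ns ⟨a, by simpa [sq] using this⟩
  refine comm_of_comm h1 ?_ hE
  rw [← Matrix.mul_assoc, k.comm_nM h, Matrix.mul_assoc, ← mem_Tm.1 hD, Matrix.mul_assoc _ w.1]

theorem anti_iff {A : SL(2, F)} : A * w * A⁻¹ = -w ↔ n⁻¹ * A ∈ Tm w.1 := by
  have e : n * w = -(w * n) := Subtype.ext k.nw
  have : n⁻¹ * A ∈ Tm w.1 ↔ w * (n⁻¹ * A) = n⁻¹ * A * w := by rw [mem_Tm, SL_ext_iff]; rfl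
  rw [this, mul_inv_eq_iff_eq_mul, mul_assoc, eq_inv_mul_iff_mul_eq, ← mul_assoc, ← mul_assoc, e,
    neg_mul, neg_mul, mul_inv_cancel_right, neg_mul]
  exact eq_comm

theorem sum_norm : ∑ A : SL(2, F), (if A * w * A⁻¹ = w ∨ A * w * A⁻¹ = -w then (1 : ℂ) else 0) =
    2 * Nat.card (Tm w.1) := by
  have e0 : ∀ A : SL(2, F), A * w * A⁻¹ = w ↔ A ∈ Tm w.1 := fun A => by
    rw [mul_inv_eq_iff_eq_mul, mem_Tm, SL_ext_iff, eq_comm]; rfl
  have e1 : ∀ A : SL(2, F), (if A * w * A⁻¹ = w ∨ A * w * A⁻¹ = -w then (1 : ℂ) else 0) =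
      (if A ∈ Tm w.1 then 1 else 0) + if n⁻¹ * A ∈ Tm w.1 then 1 else 0 := fun A => by
    by_cases a : A * w * A⁻¹ = w
    · rw [if_pos (Or.inl a), if_pos ((e0 A).1 a),
        if_neg fun b => k.w_ne_neg h (a.symm.trans ((k.anti_iff h).2 b)), add_zero]
    · rw [if_neg (mt (e0 A).2 a), zero_add]
      exact if_congr (by rw [← k.anti_iff h]; simp only [a, false_or]) rfl rfl
  have e2 : ∑ A : SL(2, F), (if A ∈ Tm w.1 then (1 : ℂ) else 0) = Nat.card (Tm w.1) := by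
    rw [Finset.sum_boole, Nat.card_eq_fintype_card, Fintype.card_subtype]
  simp only [e1, Finset.sum_add_distrib]
  rw [Fintype.sum_equiv (Equiv.mulLeft n⁻¹) (fun A => if n⁻¹ * A ∈ Tm w.1 then (1 : ℂ) else 0)
    (fun A => if A ∈ Tm w.1 then (1 : ℂ) else 0) fun _ => rfl, e2, two_mul]

end Qp

namespace Ctx

variable {t : G} {M : GL (Fin 2) F} {M' : GL (Fin 2) K} (h : Ctx φ ψ t M M')
include h

local notation "𝐣" => φ (-1)

/-- The intersection of the torus with the product of the components. -/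
def zeta (w : SL(2, F)) : Tm w.1 × h.ns'.To →* G :=
  h.good.mu.comp ((Tm w.1).subtype.prodMap h.ns'.To.subtype)

theorem zeta_apply {w : SL(2, F)} (a : Tm w.1 × h.ns'.To) : h.zeta w a = φ a.1 * ψ a.2 := rfl

theorem zeta_inj (w : SL(2, F)) : Function.Injective (h.zeta w) := fun a b e => by
  obtain ⟨e1, e2⟩ := h.good.eq_of_odd' e a.2.2.2 b.2.2.2
  exact Prod.ext (Subtype.ext e1) (Subtype.ext e2)

/-- The outer elements of the torus. -/
def out (w n : SL(2, F)) (a : Tm w.1 × h.ns'.To) : G := φ n * t * h.zeta w a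

variable {w n : SL(2, F)} (k : Qp M w n)
include k

theorem zcomm (a b : Tm w.1 × h.ns'.To) : a * b = b * a :=
  Prod.ext (Subtype.ext (Tm_comm (k.nscal h.ns) a.1.2 b.1.2)) (h.ns'.To_comm _ _)

theorem y_comm_φ {D : SL(2, F)} (hD : D ∈ Tm w.1) : Commute (φ n * t) (φ D) := by
  have := ((actG_self n).mul h.aF).comm_iff h.good.φ_inj (A := D)
  exact (this.2 (comm_of_comm (k.nscal h.ns) (k.comm_nM h.ns) hD)).symm

theorem y_comm (a : Tm w.1 × h.ns'.To) : Commute (φ n * t) (h.zeta w a) :=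
  (h.y_comm_φ k a.1.2).mul_right ((h.good.comm _ _).mul_left (h.tψ' a.2.2.1).symm)

theorem exists_y_sq : ∃ d : Tm w.1, φ n * t * (φ n * t) = h.zeta w (d, 1) := by
  have e : φ n * t * (φ n * t) = φ (n * cg M n) := by simpa using h.out_sq n 1
  refine ⟨⟨n * cg M n, ?_⟩, by simpa [h.zeta_apply] using e⟩
  have := (h.y_comm_φ k (D := w) rfl).mul_left (h.y_comm_φ k (D := w) rfl)
  rw [e, Commute, SemiconjBy, ← map_mul, ← map_mul] at this
  exact (congrArg Subtype.val (h.good.φ_inj this)).symm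

theorem out_mul_out (a b : Tm w.1 × h.ns'.To) : ∃ c, h.out w n a * h.out w n b = h.zeta w c := by
  obtain ⟨d, hd⟩ := h.exists_y_sq k
  refine ⟨(d, 1) * a * b, ?_⟩
  rw [map_mul, map_mul, ← hd, out, out, mul_assoc _ (h.zeta w a), ← mul_assoc (h.zeta w a),
    ← (h.y_comm k a).eq]
  simp only [mul_assoc]

theorem out_inv (a : Tm w.1 × h.ns'.To) : ∃ b, (h.out w n a)⁻¹ = h.out w n b := by
  obtain ⟨c, hc⟩ := h.out_mul_out k a 1
  refine ⟨c⁻¹, inv_eq_of_mul_eq_one_right ?_⟩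
  rw [out, out, map_one, mul_one] at hc
  rw [out, out, ← mul_assoc, hc, ← map_mul, mul_inv_cancel, map_one]

theorem out_eq (a : Tm w.1 × h.ns'.To) : h.out w n a = φ (n * cg M a.1) * ψ a.2 * t := by
  rw [out, zeta_apply, map_mul, ← h.aF, h.t_inv, mul_assoc _ (ψ _) t, (h.tψ' a.2.2.1).eq]
  simp only [mul_assoc]
  rw [← mul_assoc t t, h.tt, one_mul]

theorem out_sq_ne (a : Tm w.1 × h.ns'.To) : h.out w n a * h.out w n a ≠ 1 := fun e => by
  rw [h.out_eq k] at e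
  apply k.trace_ne h.ns a.1.2
  rw [← (h.out_sq_iff.1 e).1, Matrix.SpecialLinearGroup.coe_mul, Matrix.mul_assoc,
    Matrix.mul_assoc, cg_eq_iff.1 (rfl : cg M a.1.1 = _)]

theorem out_comm_j (a : Tm w.1 × h.ns'.To) : Commute (h.out w n a) 𝐣 :=
  ((h.good.φ_comm n).mul_left h.aF.comm_neg).mul_left
    ((h.good.φ_comm _).mul_left (h.good.ψ_comm _))

theorem out_pow (a : Tm w.1 × h.ns'.To) (l : ℕ) :
    (∃ c, h.out w n a ^ (2 * l) = h.zeta w c) ∧ ∃ c, h.out w n a ^ (2 * l + 1) = h.out w n c := by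
  obtain ⟨c, hc⟩ := h.out_mul_out k a a
  have e : h.out w n a ^ (2 * l) = h.zeta w (c ^ l) := by rw [pow_mul, sq, hc, map_pow]
  exact ⟨⟨_, e⟩, a * c ^ l, by rw [pow_succ', e, out, out, map_mul, mul_assoc]⟩

theorem out_pow_odd (a : Tm w.1 × h.ns'.To) {l : ℕ} (hl : Odd l) :
    h.out w n a ^ l * h.out w n a ^ l ≠ 1 := by
  obtain ⟨l, rfl⟩ := hl
  obtain ⟨c, hc⟩ := (h.out_pow k a l).2
  rw [hc]
  exact h.out_sq_ne k c

theorem out_pow_j (a : Tm w.1 × h.ns'.To) :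
    h.out w n a ^ (orderOf (h.out w n a) / 2) = 𝐣 ∨ orderOf (h.out w n a) = 0 := by
  rcases Nat.even_or_odd' (orderOf (h.out w n a)) with ⟨l, e | e⟩
  · rw [e, Nat.mul_div_cancel_left _ two_pos]
    by_cases h0 : l = 0
    · right; rw [h0]
    left
    have h1 : h.out w n a ^ l * h.out w n a ^ l = 1 := by
      rw [← pow_add, ← two_mul, ← e, pow_orderOf_eq_one]
    have h2 : h.out w n a ^ l ≠ 1 := pow_ne_one_of_lt_orderOf h0 (by omega)
    rcases Nat.even_or_odd' l with ⟨l', rfl | rfl⟩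
    · obtain ⟨c, hc⟩ := (h.out_pow k a l').1
      rw [hc] at h1 h2 ⊢
      exact ((h.in_sq h1).resolve_right fun e => h.ns'.trace_ne_zero c.2.2.1 e.2).resolve_left h2
    · exact absurd h1 (h.out_pow_odd k a ⟨l', rfl⟩)
  · exact absurd (by rw [pow_orderOf_eq_one, mul_one]) (h.out_pow_odd k a ⟨l, e⟩)

theorem mem_of_comm_φ {a : Tm w.1 × h.ns'.To} {E : SL(2, F)} (hE : Commute (φ E) (h.out w n a)) :
    E ∈ Tm w.1 :=
  k.mem_Tm_of_comm h.ns a.1.2
    (((((actG_self n).mul h.aF).mul (h.good.actφ a.1 a.2)).comm_iff h.good.φ_inj).1 hE)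

theorem mem_of_comm_ψ {a : Tm w.1 × h.ns'.To} {E : SL(2, K)} (hE : Commute (ψ E) (h.out w n a)) :
    E ∈ Tm M'.1 := by
  have := ((((actG_of_comm fun B => h.good.comm n B).mul h.aK).mul
    (h.good.actψ a.1 a.2)).comm_iff h.good.ψ_inj).1 hE
  rw [one_mul] at this
  exact h.ns'.mem_Tm_of_comm_mul a.2.2.1 this

theorem out_comm_w (a : Tm w.1 × h.ns'.To) : Commute (h.out w n a) (φ w) :=
  (h.y_comm_φ k (D := w) rfl).mul_left
    ((Commute.map (Tm_comm (k.nscal h.ns) a.1.2 (rfl : w ∈ Tm w.1)) φ).mul_left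
      (h.good.comm _ _).symm)

theorem out_comm_ψ (a : Tm w.1 × h.ns'.To) {B : SL(2, K)} (hB : B ∈ h.ns'.To) :
    Commute (h.out w n a) (ψ B) :=
  ((h.good.comm _ _).mul_left (h.tψ' hB.1).symm).mul_left
    ((h.good.comm _ _).mul_left (Commute.map (Tm_comm h.ns'.nscal a.2.2.1 hB.1) ψ))

variable [Finite G]

theorem comm_j_of_conj {x : G} {a b : Tm w.1 × h.ns'.To}
    (e : x * h.out w n a * x⁻¹ = h.out w n b) : Commute x 𝐣 := by
  have h1 := (h.out_pow_j k a).resolve_right (orderOf_pos _).ne'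
  have h2 := (h.out_pow_j k b).resolve_right (orderOf_pos _).ne'
  rw [← e, orderOf_conj', conj_pow, h1] at h2
  exact mul_inv_eq_iff_eq_mul.1 h2

theorem norm_w_of_conj {x : G} {a b : Tm w.1 × h.ns'.To}
    (e : x * h.out w n a * x⁻¹ = h.out w n b) : x * φ w * x⁻¹ = φ w ∨ x * φ w * x⁻¹ = φ (-w) := by
  have hj := h.comm_j_of_conj k e
  obtain ⟨v, hv⟩ := h.good.normφ hj w
  have h1 : v ∈ Tm w.1 := h.mem_of_comm_φ k (a := b) (by
    rw [← hv, ← e]; exact ((Commute.conj_iff x).2 (h.out_comm_w k a)).symm)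
  have h2 : v * v = -1 := h.good.φ_inj (by
    rw [map_mul, ← hv, conj_mul, ← map_mul, SL_sq_eq_neg_one_iff.2 (k.tr_w h.ns), hj.eq,
      mul_inv_cancel_right])
  rw [hv]
  rcases k.eq_or_neg h.ns h1 (SL_sq_eq_neg_one_iff.1 h2) with e | e
  · exact Or.inl (by rw [e])
  · exact Or.inr (by rw [e])

theorem norm_T_of_conj {x : G} {a b : Tm w.1 × h.ns'.To}
    (e : x * h.out w n a * x⁻¹ = h.out w n b) :
    ∃ κ : h.ns'.To →* h.ns'.To, Function.Injective κ ∧ ∀ B, x * ψ B.1 * x⁻¹ = ψ (κ B).1 := by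
  refine exists_hom_conj (π := ψ.comp h.ns'.To.subtype)
    (h.good.ψ_inj.comp Subtype.val_injective) fun B => ?_
  obtain ⟨v, hv⟩ := h.good.normψ (h.comm_j_of_conj k e) B
  refine ⟨⟨v, h.mem_of_comm_ψ k (a := b) ?_, ?_⟩, hv⟩
  · rw [← hv, ← e]; exact ((Commute.conj_iff x).2 (h.out_comm_ψ k a B.2)).symm
  · rw [orderOf_eq_of_conj h.good.ψ_inj hv]; exact B.2.2

theorem conj_out {x : G} (hj : Commute x 𝐣) (hw : x * φ w * x⁻¹ = φ w ∨ x * φ w * x⁻¹ = φ (-w))
    {κ : h.ns'.To →* h.ns'.To} (hκ : Function.Injective κ) (hx : ∀ B, x * ψ B.1 * x⁻¹ = ψ (κ B).1)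
    (a : Tm w.1 × h.ns'.To) : ∃ D, x * h.out w n a * x⁻¹ = h.out w n (D, κ a.2) := by
  obtain ⟨D, -, e⟩ := h.conj_t hj fun B hB => by
    obtain ⟨B', e⟩ := Finite.surjective_of_injective hκ ⟨B, hB⟩
    rw [show B = (κ B').1 from (congrArg Subtype.val e).symm, ← hx]
    exact (Commute.conj_iff x).2 (h.tψ' B'.2.1).symm
  obtain ⟨v, hv⟩ := h.good.normφ hj (n * cg M a.1)
  have e1 : x * h.out w n a * x⁻¹ = φ (v * D) * ψ (κ a.2) * t := by
    rw [h.out_eq k, ← conj_mul, ← conj_mul, hv, hx, e, map_mul, mul_assoc, mul_assoc, mul_assoc,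
      ← mul_assoc (ψ _), ← (h.good.comm D _).eq, mul_assoc]
  have c1 : Commute (x * h.out w n a * x⁻¹) (φ w) := by
    have := (Commute.conj_iff x).2 (h.out_comm_w k a)
    rcases hw with e | e
    · rwa [e] at this
    · rw [e, h.good.φ_neg] at this
      have h3 : Commute (x * h.out w n a * x⁻¹) 𝐣 :=
        (hj.mul_left (h.out_comm_j k a)).mul_left hj.inv_left
      have := h3.mul_right this
      rwa [← mul_assoc, h.good.jj, one_mul] at this
  have c2 : v * D * w * (v * D)⁻¹ = -w := by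
    have := ((h.good.actφ (v * D) (κ a.2)).mul h.aF) w
    rw [← e1, c1.eq, mul_inv_cancel_right, cg_mul, k.cg_w h.ns, cg_neg, cg_toGL] at this
    rw [← neg_neg (v * D * w * _), ← h.good.φ_inj this]
  have c3 : cg M (n⁻¹ * (v * D)) ∈ Tm w.1 := by
    have := (k.anti_iff h.ns).1 c2
    have e2 : w * (n⁻¹ * (v * D)) = n⁻¹ * (v * D) * w := Subtype.ext this
    have := congrArg (cg M) e2
    rw [map_mul, map_mul _ _ w, k.cg_w h.ns, neg_mul, mul_neg, neg_inj] at this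
    exact congrArg Subtype.val this
  refine ⟨⟨_, c3⟩, ?_⟩
  rw [e1, h.out_eq k, h.ns.cg_cg, mul_inv_cancel_left]

theorem out_inj : Function.Injective (h.out w n) := fun _ _ e =>
  h.zeta_inj w (mul_left_cancel e)

theorem indicator_congr {s : G} {a : Tm w.1 × h.ns'.To}
    (hs : IsConj 𝐣 s ∧ IsConj 𝐣 (s⁻¹ * h.out w n a)) (B : h.ns'.To) :
    IsConj 𝐣 s ∧ IsConj 𝐣 (s⁻¹ * h.out w n (a.1, B)) := by
  have sq : ∀ g, IsConj 𝐣 g → g * g = 1 := fun g e => by
    obtain ⟨c, rfl⟩ := _root_.isConj_iff.1 e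
    rw [conj_mul, h.good.jj]; simp
  have h1 := sq _ hs.1
  have h1' : s⁻¹ = s := inv_eq_of_mul_eq_one_right h1
  have h2 := sq _ hs.2
  rw [h1'] at h2 ⊢
  have h3 : s * h.out w n a * s⁻¹ = (h.out w n a)⁻¹ := by
    rw [h1', eq_inv_iff_mul_eq_one, mul_assoc, h2]
  obtain ⟨b, hb⟩ := h.out_inv k a
  have hj := h.comm_j_of_conj k (h3.trans hb)
  obtain ⟨κ, -, hκ⟩ := h.norm_T_of_conj k (h3.trans hb)
  obtain ⟨P, P', -, hP⟩ := h.good.isH_of_sq h1 hj
  have h4 : ∀ B : h.ns'.To, κ B = B⁻¹ := fun B => by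
    have e : (κ B).1 = cg P' B := h.good.ψ_inj ((hκ B).symm.trans (hP B))
    rcases eq_or_inv_of_Tm h.good.twoK h.ns'.tr (GL_det_ne_zero M') B.2.1 (κ B).2.1
      (by rw [e, trace_cg]) with e1 | e1
    swap
    · exact Subtype.ext e1
    by_cases hB : B = 1
    · simp [hB]
    exfalso
    have hc : ∀ E ∈ h.ns'.To, Commute s (ψ E) := fun E hE => by
      refine ((hP.comm_iff h.good.ψ_inj).2 ?_).symm
      refine comm_of_comm (SL_not_isScal_of_trace (h.ns'.trace_sq_ne B.2 fun e =>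
        hB (Subtype.ext e))) (cg_eq_iff.1 (e.symm.trans e1)).symm ?_
      exact congrArg Subtype.val (Tm_comm h.ns'.nscal B.2.1 hE.1)
    have hne := h.out_sq_ne k a
    rcases h.invol_cases h1 hj hc with (rfl | rfl) | ⟨D, -, rfl⟩
    · exact hne (by simpa using h2)
    · rw [mul_assoc, ← mul_assoc (h.out w n a), (h.out_comm_j k a).eq, ← mul_assoc, ← mul_assoc,
        h.good.jj, one_mul] at h2
      exact hne h2
    · have e2 : φ D * t * h.out w n a = φ (D * cg M (n * cg M a.1)) * ψ a.2 := by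
        rw [h.out_eq k, map_mul φ D, ← h.aF, h.t_inv, mul_assoc _ (ψ _) t, (h.tψ' a.2.2.1).eq]
        simp only [mul_assoc]
      rw [e2] at h2
      rcases (h.in_sq h2).resolve_right fun e => h.ns'.trace_ne_zero a.2.2.1 e.2 with e3 | e3
      · rw [← e2, mul_eq_one_iff_inv_eq, h1'] at e3
        exact hne (e3 ▸ h1)
      · rw [← e2, ← eq_inv_mul_iff_mul_eq, h1'] at e3
        rw [e3, mul_assoc, ← mul_assoc 𝐣, ← hj.eq, ← mul_assoc, ← mul_assoc, h1, one_mul] at hne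
        exact hne h.good.jj
  have e4 : h.out w n (a.1, B) = h.out w n a * ψ (a.2⁻¹ * B).1 := by
    simp [out, zeta_apply, mul_assoc]
  refine ⟨hs.1, (h.good.isConj_iff (hj.mul_left (h.out_comm_j k _))).2 ⟨?_, fun e => ?_⟩⟩
  · have : s * h.out w n (a.1, B) * s⁻¹ = (h.out w n (a.1, B))⁻¹ := by
      rw [e4, ← conj_mul, h3, hκ, h4, (h.out_comm_ψ k a (a.2⁻¹ * B).2).eq, _root_.mul_inv_rev]
      simp
    rw [h1', eq_inv_iff_mul_eq_one, mul_assoc] at this
    exact this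
  · rw [mul_eq_one_iff_inv_eq, h1'] at e
    exact h.out_sq_ne k _ (e ▸ h1)

omit [Finite G]

variable [Fintype G]

omit k in
/-- The virtual character induced from the torus. -/
noncomputable def fth (w n : SL(2, F)) (lam : h.ns'.To →* ℂˣ) : G → ℂ :=
  wind (h.out w n) fun a => (Nat.card (Tm w.1 × h.ns'.To) : ℂ)⁻¹ * (lam a.2 : ℂ)

omit k in
theorem inner_fth (lam : h.ns'.To →* ℂˣ) {χ : G → ℂ} (hχ : IsClassFunction G χ) :
    classInner χ (h.fth w n lam) =
      avg χ (h.zeta w) (lam.comp (MonoidHom.snd _ _)) (φ n * t) := by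
  rw [fth, inner_wind _ _ hχ, avg, Finset.mul_sum]
  refine Finset.sum_congr rfl fun a _ => ?_
  simp only [map_mul, map_inv₀, map_natCast, out, MonoidHom.comp_apply, MonoidHom.coe_snd]
  ring

theorem fth_of_sq (lam : h.ns'.To →* ℂˣ) {g : G} (hg : g * g = 1) : h.fth w n lam g = 0 :=
  wind_eq_zero fun x a e => absurd (by rw [← e, conj_mul, hg]; simp) (h.out_sq_ne k a)

theorem lam_fth {lam : h.ns'.To →* ℂˣ} (hl : lam ≠ 1) :
    ∑ a : G, h.fth w n lam (a * 𝐣 * a⁻¹ * 𝐣) = 0 := by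
  rw [fth, lam_wind]
  refine mul_eq_zero_of_right _ (Finset.sum_eq_zero fun s _ => ?_)
  rw [Fintype.sum_prod_type]
  refine Finset.sum_eq_zero fun D _ => ?_
  by_cases hs : IsConj 𝐣 s ∧ IsConj 𝐣 (s⁻¹ * h.out w n (D, 1))
  · rw [Finset.sum_congr rfl fun B _ => if_pos (h.indicator_congr k hs B), ← Finset.mul_sum,
      sum_hom_eq_zero hl, mul_zero]
  · exact Finset.sum_eq_zero fun B _ => if_neg fun e => hs (h.indicator_congr k e 1)

omit k in
/-- The stabiliser of the linear character in the normaliser of the torus. -/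
def XX (w : SL(2, F)) (x : G) : Prop :=
  Commute x 𝐣 ∧ (x * φ w * x⁻¹ = φ w ∨ x * φ w * x⁻¹ = φ (-w)) ∧ ∀ B ∈ h.ns'.To, Commute x (ψ B)

theorem XX_mul_t {x : G} (hx : h.XX w x) : h.XX w (x * t) := by
  obtain ⟨h1, h2, h3⟩ := hx
  refine ⟨h1.mul_left h.aF.comm_neg, ?_, fun B hB => (h3 B hB).mul_left (h.tψ' hB.1).symm⟩
  have : x * t * φ w * (x * t)⁻¹ = 𝐣 * (x * φ w * x⁻¹) := by
    rw [_root_.mul_inv_rev, ← mul_assoc, mul_assoc x, mul_assoc x, h.aF, k.cg_w h.ns, h.good.φ_neg,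
      ← mul_assoc, h1.eq]
    simp only [mul_assoc]
  rw [this]
  rcases h2 with e | e
  · right; rw [e, h.good.φ_neg w]
  · left; rw [e, ← h.good.φ_neg, neg_neg]

omit k in
theorem XX_mu {A : SL(2, F)} {B : SL(2, K)} :
    h.XX w (φ A * ψ B) ↔ (A * w * A⁻¹ = w ∨ A * w * A⁻¹ = -w) ∧ B ∈ Tm M'.1 := by
  have e : ∀ E, Commute (φ A * ψ B) (ψ E) ↔ B * E = E * B := fun E => by
    rw [← h.good.ψ_inj.eq_iff, map_mul, map_mul]
    refine ⟨fun c => ?_, fun c => (h.good.comm A E).mul_left c⟩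
    have := (h.good.comm A E).inv_left.mul_left c
    rwa [inv_mul_cancel_left] at this
  rw [XX, h.good.actφ, cg_toGL, h.good.φ_inj.eq_iff, h.good.φ_inj.eq_iff]
  simp only [e, (h.good.φ_comm A).mul_left (h.good.ψ_comm B), true_and]
  exact and_congr_right' ⟨h.ns'.mem_Tm_of_comm, fun hB E hE => Tm_comm h.ns'.nscal hB hE.1⟩

theorem sum_XX {ρ : G} {r : h.ns.To × h.ns'.To →* h.ns.To × h.ns'.To} (hρ : h.Rho ρ r) :
    ∑ x : G, (if h.XX w x then (1 : ℂ) else 0) = 4 * Nat.card (Tm w.1 × h.ns'.To) := by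
  have e := h.sum_H (f := fun x => if h.XX w x then (1 : ℂ) else 0) fun g hg => by
    have : h.XX w g := by by_contra e; exact hg (if_neg e)
    exact hρ.cross h this.1 this.2.2
  have e1 : ∀ x, h.XX w (x * t) ↔ h.XX w x := fun x => ⟨fun hx => by
    have := h.XX_mul_t k hx
    rwa [mul_assoc, h.tt, mul_one] at this, h.XX_mul_t k⟩
  have e2 : ∑ B : SL(2, K), (if B ∈ Tm M'.1 then (1 : ℂ) else 0) = 2 * Nat.card h.ns'.To := by
    have : (Nat.card (Tm M'.1) : ℂ) = 2 * Nat.card h.ns'.To := by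
      rw [← h.ns'.two_mul_card_To]; push_cast; rfl
    rw [Finset.sum_boole, ← this, Nat.card_eq_fintype_card, Fintype.card_subtype]
  have e3 : ∑ x : SL(2, F) × SL(2, K), (if h.XX w (φ x.1 * ψ x.2) then (1 : ℂ) else 0) =
      4 * Nat.card (Tm w.1 × h.ns'.To) := by
    rw [Nat.card_prod, Nat.cast_mul, show (4 : ℂ) = 2 * 2 by norm_num, mul_mul_mul_comm,
      ← k.sum_norm h.ns, ← e2, Finset.sum_mul_sum, Fintype.sum_prod_type]
    refine Finset.sum_congr rfl fun A _ => Finset.sum_congr rfl fun B _ => ?_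
    rw [ite_zero_mul_ite_zero, mul_one]
    exact if_congr h.XX_mu rfl rfl
  simp only [e1, e3] at e
  linear_combination e / 2

theorem norm_fth {ρ : G} {r : h.ns.To × h.ns'.To →* h.ns.To × h.ns'.To} (hρ : h.Rho ρ r)
    {lam : h.ns'.To →* ℂˣ} (hl : Function.Injective lam) :
    classInner (h.fth w n lam) (h.fth w n lam) = 4 := by
  have hN := card_ne_zero (Tm w.1 × h.ns'.To)
  set N : ℂ := (Nat.card (Tm w.1 × h.ns'.To) : ℂ) with hNdef
  have key : ∀ x : G, ∑ a, (∑ b, if x * h.out w n a * x⁻¹ = h.out w n b then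
      N⁻¹ * (lam b.2 : ℂ) else 0) * conj (N⁻¹ * (lam a.2 : ℂ)) =
      N⁻¹ * if h.XX w x then 1 else 0 := fun x => by
    by_cases hx : ∃ a b, x * h.out w n a * x⁻¹ = h.out w n b
    · obtain ⟨a, b, e⟩ := hx
      have hj := h.comm_j_of_conj k e
      have hw := h.norm_w_of_conj k e
      obtain ⟨κ, hκ, hκ'⟩ := h.norm_T_of_conj k e
      have e1 : ∀ a, (∑ b, if x * h.out w n a * x⁻¹ = h.out w n b then
          N⁻¹ * (lam b.2 : ℂ) else 0) * conj (N⁻¹ * (lam a.2 : ℂ)) =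
          N⁻¹ * N⁻¹ * (((lam.comp κ).comp (MonoidHom.snd (Tm w.1) _) a : ℂ) *
            conj (lam.comp (MonoidHom.snd (Tm w.1) _) a : ℂ)) := fun a => by
        obtain ⟨D, hD⟩ := h.conj_out k hj hw hκ hκ' a
        simp only [hD, (h.out_inj k).eq_iff, Finset.sum_ite_eq, Finset.mem_univ, if_true, map_mul,
          map_inv₀, hNdef, map_natCast, MonoidHom.comp_apply, MonoidHom.coe_snd]
        ring
      simp only [e1]
      rw [← Finset.mul_sum, KSG.sum_hom_mul_conj, mul_assoc]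
      congr 1
      have e2 : (lam.comp κ).comp (MonoidHom.snd (Tm w.1) _) =
          lam.comp (MonoidHom.snd (Tm w.1) _) ↔ h.XX w x := by
        refine ⟨fun e => ⟨hj, hw, fun B hB => ?_⟩, fun e => MonoidHom.ext fun a => ?_⟩
        · have := hl (DFunLike.congr_fun e (1, ⟨B, hB⟩))
          exact mul_inv_eq_iff_eq_mul.1 ((hκ' ⟨B, hB⟩).trans (congrArg (fun z => ψ z.1) this))
        · have := hκ' a.2
          rw [(e.2.2 _ a.2.2).eq, mul_inv_cancel_right] at this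
          exact congrArg lam (Subtype.ext (h.good.ψ_inj this)).symm
      split_ifs with e3 e4 e4
      · exact inv_mul_cancel₀ hN
      · exact absurd (e2.1 e3) e4
      · exact absurd (e2.2 e4) e3
      · exact mul_zero _
    · rw [if_neg, mul_zero]
      · refine Finset.sum_eq_zero fun a _ => mul_eq_zero_of_left ?_ _
        exact Finset.sum_eq_zero fun b _ => if_neg fun e => hx ⟨a, b, e⟩
      · intro e
        obtain ⟨D, hD⟩ := h.conj_out k e.1 e.2.1 (κ := MonoidHom.id _) Function.injective_id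
          (fun B => by rw [(e.2.2 _ B.2).eq, mul_inv_cancel_right]; rfl) 1
        exact hx ⟨_, _, hD⟩
  unfold fth
  rw [inner_wind _ _ (wind_class _ _), ← hNdef]
  simp only [wind, Finset.sum_mul (s := (Finset.univ : Finset G))]
  rw [Finset.sum_comm]
  simp only [key]
  rw [← Finset.mul_sum, h.sum_XX k hρ, ← hNdef]
  field_simp

end Ctx

end Cfsg.Agent.FW.Ch
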