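import Mathlib
import Cfsg.Agent.FW.CharD

/-!
The virtual character supported on the `2`-section of `j` in the character step of Fong-Wong.
-/

set_option autoImplicit false
set_option linter.unusedSectionVars false
set_option linter.dupNamespace false

namespace Cfsg.Agent.FW.Ch

open Matrix KSG.M2 ComplexConjugate Cfsg.Agent.Char Cfsg.Agent.FW.Ch
open scoped MatrixGroups Classical

variable {F K G : Type*} [Field F] [Fintype F] [Field K] [Fintype K] [Group G]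
  {φ : SL(2, F) →* G} {ψ : SL(2, K) →* G}

local notation "𝐣" => φ (-1)

namespace Cfsg.Agent.FW.Good

variable (h : Good φ ψ)
include h

theorem odd_mu {A : SL(2, F)} {B : SL(2, K)} (hA : Odd (orderOf A)) (hB : Odd (orderOf B)) :
    Odd (orderOf (φ A * ψ B)) :=
  odd_mul_of_comm (h.comm A B) (by rwa [orderOf_injective φ h.φ_inj])
    (by rwa [orderOf_injective ψ h.ψ_inj])

theorem mu_comm_j (A : SL(2, F)) (B : SL(2, K)) : Commute (φ A * ψ B) 𝐣 :=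
  (h.φ_comm A).mul_left (h.ψ_comm B)

theorem j_mul_pow {y : G} (hy : Commute y 𝐣) {k : ℕ} (hk : Odd k) (e : y ^ k = 1) :
    (𝐣 * y) ^ k = 𝐣 := by
  obtain ⟨l, rfl⟩ := hk
  rw [hy.symm.mul_pow, e, mul_one, pow_succ, pow_mul, sq, h.jj, one_pow, one_mul]

theorem eq_one_of_j_mul_sq {y : G} (hy : Commute y 𝐣) (ho : Odd (orderOf y))
    (e : 𝐣 * y * (𝐣 * y) = 1) : y = 1 := by
  rw [mul_assoc, ← mul_assoc y, hy.eq, ← mul_assoc, ← mul_assoc, h.jj, one_mul] at e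
  exact eq_one_of_odd_of_sq ho e

theorem indicator_iff {s : G} {A : SL(2, F)} {B : SL(2, K)} (hA : Odd (orderOf A))
    (hB : Odd (orderOf B)) : (IsConj 𝐣 s ∧ IsConj 𝐣 (s⁻¹ * (𝐣 * (φ A * ψ B)))) ↔
      (s * s = 1 ∧ Commute s 𝐣 ∧ s ≠ 1 ∧ s ≠ 𝐣) ∧
        s * φ A * s⁻¹ = φ A⁻¹ ∧ s * ψ B * s⁻¹ = ψ B⁻¹ := by
  have sq : ∀ g, IsConj 𝐣 g → g * g = 1 ∧ g ≠ 1 := fun g e => by
    obtain ⟨c, rfl⟩ := _root_.isConj_iff.1 e
    exact ⟨by rw [conj_mul, h.jj]; simp, fun e => h.j_ne (by simpa using e)⟩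
  have ho := h.odd_mu hA hB
  have hc := h.mu_comm_j A B
  have hinv : (φ A * ψ B)⁻¹ = φ A⁻¹ * ψ B⁻¹ := (map_inv h.mu (A, B)).symm
  have hji : 𝐣⁻¹ = 𝐣 := inv_eq_of_mul_eq_one_right h.jj
  constructor
  · rintro ⟨e1, e2⟩
    obtain ⟨h1, h1'⟩ := sq _ e1
    obtain ⟨h2, h2'⟩ := sq _ e2
    have hs : s⁻¹ = s := inv_eq_of_mul_eq_one_right h1
    have h3 : s * (𝐣 * (φ A * ψ B)) * s⁻¹ = (𝐣 * (φ A * ψ B))⁻¹ := by
      rw [hs] at h2 ⊢
      rw [eq_inv_iff_mul_eq_one, mul_assoc, h2]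
    have h4 : Commute s 𝐣 := by
      have := congrArg (· ^ orderOf (φ A * ψ B)) h3
      simp only [conj_pow, inv_pow, h.j_mul_pow hc ho (pow_orderOf_eq_one _), hji] at this
      exact mul_inv_eq_iff_eq_mul.1 this
    have h5 : s * (φ A * ψ B) * s⁻¹ = φ A⁻¹ * ψ B⁻¹ := by
      rw [← conj_mul, h4.eq, mul_inv_cancel_right, ← hc.eq, _root_.mul_inv_rev, hji, hinv] at h3
      exact mul_left_cancel h3
    refine ⟨⟨h1, h4, h1', ?_⟩, h.conj_split h4 hA (by rwa [orderOf_inv]) h5⟩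
    rintro rfl
    rw [inv_mul_cancel_left] at h2 h2'
    exact h2' (eq_one_of_odd_of_sq ho h2)
  · rintro ⟨⟨h1, h4, h1', h6⟩, e1, e2⟩
    have hs : s⁻¹ = s := inv_eq_of_mul_eq_one_right h1
    refine ⟨(h.isConj_iff h4).2 ⟨h1, h1'⟩,
      (h.isConj_iff (h4.inv_left.mul_left ((Commute.refl _).mul_left hc))).2 ⟨?_, fun e => ?_⟩⟩
    · have : s * (𝐣 * (φ A * ψ B)) * s⁻¹ = (𝐣 * (φ A * ψ B))⁻¹ := by
        rw [← conj_mul, ← conj_mul, e1, e2, h4.eq, mul_inv_cancel_right, ← hc.eq,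
          _root_.mul_inv_rev, hji, hinv]
      rw [hs] at this ⊢
      rwa [eq_inv_iff_mul_eq_one, mul_assoc] at this
    · rw [inv_mul_eq_one] at e
      rw [e, h.eq_one_of_j_mul_sq hc ho (e ▸ h1), mul_one] at h6
      exact h6 rfl

end Cfsg.Agent.FW.Good

namespace Ctx

variable {t : G} {M : GL (Fin 2) F} {M' : GL (Fin 2) K} (h : Ctx φ ψ t M M')
  (ν₁ : h.ns.To →* ℂˣ) (ν₂ : h.ns'.To →* ℂˣ)

local notation "𝐪" => Fintype.card F
local notation "ℓ" => (Nat.card SL(2, F) : ℂ)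
local notation "ℓ'" => (Nat.card SL(2, K) : ℂ)

/-- The weights of the virtual character. -/
noncomputable def cw (x : SL(2, F) × SL(2, K)) : ℂ :=
  (ℓ * ℓ')⁻¹ * (h.ns.Phi ν₁ x.1 * h.ns'.Phi ν₂ x.2)

theorem cw_odd {x : SL(2, F) × SL(2, K)} (hx : h.cw ν₁ ν₂ x ≠ 0) :
    Odd (orderOf x.1) ∧ Odd (orderOf x.2) :=
  ⟨h.ns.Phi_odd ν₁ (left_ne_zero_of_mul (right_ne_zero_of_mul hx)),
    h.ns'.Phi_odd ν₂ (right_ne_zero_of_mul (right_ne_zero_of_mul hx))⟩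

variable [Fintype G]

/-- The virtual character supported on the section of `j`. -/
noncomputable def fphi : G → ℂ :=
  wind (fun x : SL(2, F) × SL(2, K) => 𝐣 * (φ x.1 * ψ x.2)) (h.cw ν₁ ν₂)

theorem fphi_zero {g : G} (hg : ∀ k, Odd k → ¬ IsConj (g ^ k) 𝐣) : h.fphi ν₁ ν₂ g = 0 :=
  wind_eq_zero fun x i e => by
    by_contra hc
    obtain ⟨h1, h2⟩ := h.cw_odd ν₁ ν₂ hc
    have ho := h.good.odd_mu h1 h2
    refine hg _ ho (_root_.isConj_iff.2 ⟨x, ?_⟩)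
    rw [← conj_pow, e, h.good.j_mul_pow (h.good.mu_comm_j _ _) ho (pow_orderOf_eq_one _)]

theorem fphi_one : h.fphi ν₁ ν₂ 1 = 0 :=
  h.fphi_zero ν₁ ν₂ fun k _ e => h.good.j_ne (by simpa using e.symm)

theorem fphi_j : h.fphi ν₁ ν₂ 𝐣 = Nat.card (Subgroup.centralizer ({𝐣} : Set G)) *
    ((ℓ * ℓ')⁻¹ * (2 + 2 * (eta 𝐪 : ℂ) * 𝐪) ^ 2) := by
  have key : ∀ x : G, (∑ i : SL(2, F) × SL(2, K),
      if x * 𝐣 * x⁻¹ = 𝐣 * (φ i.1 * ψ i.2) then h.cw ν₁ ν₂ i else 0) =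
      if x ∈ Subgroup.centralizer ({𝐣} : Set G) then h.cw ν₁ ν₂ 1 else 0 := fun x => by
    rw [Finset.sum_eq_single 1]
    · refine if_congr ?_ rfl rfl
      rw [Subgroup.mem_centralizer_singleton_iff, mul_inv_eq_iff_eq_mul]
      simp
    · intro i _ hi
      split_ifs with e
      · by_contra hc
        obtain ⟨h1, h2⟩ := h.cw_odd ν₁ ν₂ hc
        have := h.good.eq_one_of_j_mul_sq (h.good.mu_comm_j _ _) (h.good.odd_mu h1 h2)
          (by rw [← e, conj_mul, h.good.jj]; simp)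
        obtain ⟨e1, e2⟩ := h.good.eq_of_odd (A' := 1) (B' := 1) (by rw [this]; simp) h1 (by simp)
        exact hi (Prod.ext e1 e2)
      · rfl
    · simp
  unfold fphi wind
  simp only [key]
  rw [← Finset.sum_filter, Finset.sum_const, nsmul_eq_mul, Nat.card_eq_fintype_card
    (α := Subgroup.centralizer ({𝐣} : Set G)), Fintype.card_subtype, cw, Prod.fst_one, Prod.snd_one,
    NS.Phi_one, NS.Phi_one, ← h.hq, sq]

theorem norm_fphi (h₁ : Function.Injective ν₁) (h₂ : Function.Injective ν₂) :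
    classInner (h.fphi ν₁ ν₂) (h.fphi ν₁ ν₂) = 4 := by
  have hl := card_ne_zero SL(2, F)
  have hl' := card_ne_zero SL(2, K)
  have key : ∀ z : G, ∑ i : SL(2, F) × SL(2, K), (∑ i' : SL(2, F) × SL(2, K),
      if z * (𝐣 * (φ i.1 * ψ i.2)) * z⁻¹ = 𝐣 * (φ i'.1 * ψ i'.2) then h.cw ν₁ ν₂ i' else 0) *
        conj (h.cw ν₁ ν₂ i) = (ℓ * ℓ')⁻¹ * 4 * if IsH φ ψ z then 1 else 0 := fun z => by
    by_cases hz : Commute z 𝐣
    · obtain ⟨P, σ, P', σ', a, b, o, o', -⟩ := h.good.act z hz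
      have e1 : ∀ i : SL(2, F) × SL(2, K), (∑ i' : SL(2, F) × SL(2, K),
          if z * (𝐣 * (φ i.1 * ψ i.2)) * z⁻¹ = 𝐣 * (φ i'.1 * ψ i'.2) then h.cw ν₁ ν₂ i' else 0) *
            conj (h.cw ν₁ ν₂ i) = (ℓ * ℓ')⁻¹ * (ℓ * ℓ')⁻¹ *
            (h.ns.Phi ν₁ (cg P (fm σ i.1)) * conj (h.ns.Phi ν₁ i.1) *
              (h.ns'.Phi ν₂ (cg P' (fm σ' i.2)) * conj (h.ns'.Phi ν₂ i.2))) := fun i => by
        have e2 : z * (𝐣 * (φ i.1 * ψ i.2)) * z⁻¹ =
            𝐣 * (φ (cg P (fm σ i.1)) * ψ (cg P' (fm σ' i.2))) := by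
          rw [← conj_mul, ← conj_mul, a i.1, b i.2, hz.eq, mul_inv_cancel_right]
        have e3 : h.cw ν₁ ν₂ (cg P (fm σ i.1), cg P' (fm σ' i.2)) * conj (h.cw ν₁ ν₂ i) =
            (ℓ * ℓ')⁻¹ * (ℓ * ℓ')⁻¹ * (h.ns.Phi ν₁ (cg P (fm σ i.1)) * conj (h.ns.Phi ν₁ i.1) *
              (h.ns'.Phi ν₂ (cg P' (fm σ' i.2)) * conj (h.ns'.Phi ν₂ i.2))) := by
          simp only [cw, map_mul, map_inv₀, map_natCast]
          ring
        rw [← e3]
        by_cases h0 : h.cw ν₁ ν₂ i = 0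
        · rw [h0, map_zero, mul_zero, mul_zero]
        congr 1
        rw [Finset.sum_eq_single (cg P (fm σ i.1), cg P' (fm σ' i.2)), if_pos e2]
        · intro i' _ hi
          split_ifs with e
          · by_contra hc
            obtain ⟨e4, e5⟩ := h.good.eq_of_odd (mul_left_cancel (e.symm.trans e2))
              (h.cw_odd ν₁ ν₂ hc).1
              (by rw [orderOf_eq_of_conj h.good.φ_inj (a i.1)]; exact (h.cw_odd ν₁ ν₂ h0).1)
            exact hi (Prod.ext e4 e5)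
          · rfl
        · simp
      simp only [e1]
      rw [← Finset.mul_sum, Fintype.sum_prod_type, ← Finset.sum_mul_sum
        (f := fun A => h.ns.Phi ν₁ (cg P (fm σ A)) * conj (h.ns.Phi ν₁ A))
        (g := fun B => h.ns'.Phi ν₂ (cg P' (fm σ' B)) * conj (h.ns'.Phi ν₂ B)),
        h.ns.Phi_inner ν₁ h₁ P o, h.ns'.Phi_inner ν₂ h₂ P' o']
      have e6 : IsH φ ψ z ↔ σ = 1 ∧ σ' = 1 :=
        ⟨fun ⟨Q, Q', c, d⟩ => ⟨a.eq_of_actG h.good.φ_inj c, b.eq_of_actG h.good.ψ_inj d⟩,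
          fun e => ⟨_, _, a.actG e.1, b.actG e.2⟩⟩
      rw [if_congr e6 rfl rfl]
      by_cases c1 : σ = 1 <;> by_cases c2 : σ' = 1 <;> simp [c1, c2]
      field_simp
      norm_num
    · rw [if_neg fun ⟨_, _, c, _⟩ => hz c.comm_neg, mul_zero]
      refine Finset.sum_eq_zero fun i _ => ?_
      by_cases h0 : h.cw ν₁ ν₂ i = 0
      · rw [h0, map_zero, mul_zero]
      refine mul_eq_zero_of_left (Finset.sum_eq_zero fun i' _ => ?_) _
      split_ifs with e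
      · by_contra hc
        have o1 := h.good.odd_mu (h.cw_odd ν₁ ν₂ h0).1 (h.cw_odd ν₁ ν₂ h0).2
        have o2 := h.good.odd_mu (h.cw_odd ν₁ ν₂ hc).1 (h.cw_odd ν₁ ν₂ hc).2
        have := congrArg (· ^ (orderOf (φ i.1 * ψ i.2) * orderOf (φ i'.1 * ψ i'.2))) e
        simp only [conj_pow] at this
        rw [h.good.j_mul_pow (h.good.mu_comm_j _ _) (o1.mul o2)
          (by rw [pow_mul, pow_orderOf_eq_one, one_pow]),
          h.good.j_mul_pow (h.good.mu_comm_j _ _) (o1.mul o2)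
          (by rw [mul_comm, pow_mul, pow_orderOf_eq_one, one_pow])] at this
        exact hz (mul_inv_eq_iff_eq_mul.1 this)
      · rfl
  unfold fphi
  rw [inner_wind _ _ (wind_class _ _)]
  simp only [wind, Finset.sum_mul (s := (Finset.univ : Finset G))]
  rw [Finset.sum_comm]
  simp only [key]
  rw [← Finset.mul_sum, Finset.sum_boole, ← Fintype.card_subtype, ← Nat.card_eq_fintype_card,
    h.card_H]
  push_cast
  field_simp

theorem lam_fphi (h₁ : ν₁ ≠ 1) (h₂ : ν₂ ≠ 1) :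
    ∑ a : G, h.fphi ν₁ ν₂ (a * 𝐣 * a⁻¹ * 𝐣) =
      (Nat.card (Subgroup.centralizer ({𝐣} : Set G)) : ℂ) ^ 2 *
        ((ℓ * ℓ')⁻¹ * (8 * (𝐪 : ℂ) ^ 4 * (𝐪 + eta 𝐪) ^ 2)) := by
  set T : G → ℂ := fun s => if s * s = 1 ∧ Commute s 𝐣 ∧ s ≠ 1 ∧ s ≠ 𝐣 then
    (∑ A, if s * φ A * s⁻¹ = φ A⁻¹ then h.ns.Phi ν₁ A else 0) *
      ∑ B, if s * ψ B * s⁻¹ = ψ B⁻¹ then h.ns'.Phi ν₂ B else 0 else 0 with hT
  have e1 : ∀ s : G, (∑ i : SL(2, F) × SL(2, K),
      if IsConj 𝐣 s ∧ IsConj 𝐣 (s⁻¹ * (𝐣 * (φ i.1 * ψ i.2))) then h.cw ν₁ ν₂ i else 0) =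
      (ℓ * ℓ')⁻¹ * T s := fun s => by
    have : ∀ i : SL(2, F) × SL(2, K),
        (if IsConj 𝐣 s ∧ IsConj 𝐣 (s⁻¹ * (𝐣 * (φ i.1 * ψ i.2))) then h.cw ν₁ ν₂ i else 0) =
        if (s * s = 1 ∧ Commute s 𝐣 ∧ s ≠ 1 ∧ s ≠ 𝐣) ∧
          s * φ i.1 * s⁻¹ = φ i.1⁻¹ ∧ s * ψ i.2 * s⁻¹ = ψ i.2⁻¹ then h.cw ν₁ ν₂ i else 0 :=
      fun i => by
        by_cases h0 : h.cw ν₁ ν₂ i = 0
        · rw [h0, ite_self, ite_self]
        · exact if_congr (h.good.indicator_iff (h.cw_odd ν₁ ν₂ h0).1 (h.cw_odd ν₁ ν₂ h0).2) rfl rfl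
    simp only [this, hT]
    split_ifs with c
    · rw [Finset.sum_mul_sum, Fintype.sum_prod_type, Finset.mul_sum]
      refine Finset.sum_congr rfl fun A _ => ?_
      rw [Finset.mul_sum]
      refine Finset.sum_congr rfl fun B _ => ?_
      rw [ite_zero_mul_ite_zero, mul_ite, mul_zero]
      exact if_congr (and_iff_right c) rfl rfl
    · rw [mul_zero]
      exact Finset.sum_eq_zero fun i _ => if_neg fun e => c e.1
  have s1 : ∀ {s P}, ActG φ s P → P.1.trace = 0 →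
      (∑ A, if s * φ A * s⁻¹ = φ A⁻¹ then h.ns.Phi ν₁ A else 0) =
        if IsSquare P.1.det then 0 else 4 * (eta 𝐪 : ℂ) * 𝐪 := fun {s P} a ht => by
    rw [← h.ns.sum_inv_Phi ν₁ h₁ ht]
    exact Finset.sum_congr rfl fun A _ => if_congr (by rw [a, h.good.φ_inj.eq_iff]) rfl rfl
  have s2 : ∀ {s P}, ActG ψ s P → P.1.trace = 0 →
      (∑ A, if s * ψ A * s⁻¹ = ψ A⁻¹ then h.ns'.Phi ν₂ A else 0) =
        if IsSquare P.1.det then 0 else 4 * (eta 𝐪 : ℂ) * 𝐪 := fun {s P} a ht => by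
    rw [h.hq, ← h.ns'.sum_inv_Phi ν₂ h₂ ht]
    exact Finset.sum_congr rfl fun A _ => if_congr (by rw [a, h.good.ψ_inj.eq_iff]) rfl rfl
  have e2 := h.sum_H (f := T) fun g hg => by
    have : g * g = 1 ∧ Commute g 𝐣 ∧ g ≠ 1 ∧ g ≠ 𝐣 := by
      by_contra e; exact hg (if_neg e)
    exact h.good.isH_of_sq this.1 this.2.1
  have e3 : ∀ x : SL(2, F) × SL(2, K), T (φ x.1 * ψ x.2) = 0 := fun x => by
    simp only [hT]
    split_ifs with c
    · have := (h.in_sq c.1).resolve_left (not_or.2 c.2.2)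
      rw [s1 (h.good.actφ x.1 x.2) this.1, if_pos ⟨1, by rw [one_mul]; exact x.1.2⟩, zero_mul]
    · rfl
  have e4 : ∀ x : SL(2, F) × SL(2, K), T (φ x.1 * ψ x.2 * t) =
      (4 * (eta 𝐪 : ℂ) * 𝐪) ^ 2 * ((if (M.1 * x.1.1).trace = 0 then 1 else 0) *
        if (M'.1 * x.2.1).trace = 0 then 1 else 0) := fun x => by
    rw [ite_zero_mul_ite_zero, Matrix.trace_mul_comm M.1, Matrix.trace_mul_comm M'.1]
    simp only [hT]
    by_cases c : (x.1.1 * M.1).trace = 0 ∧ (x.2.1 * M'.1).trace = 0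
    · rw [if_pos c, if_pos ⟨h.out_sq_iff.2 c, (h.good.mu_comm_j _ _).mul_left h.aF.comm_neg,
        fun e => h.mu_ne' 1 x.1 1 x.2 (by rw [e]; simp),
        fun e => h.mu_ne' (-1) x.1 1 x.2 (by rw [e]; simp)⟩,
        s1 ((h.good.actφ x.1 x.2).mul h.aF) c.1, s2 ((h.good.actψ x.1 x.2).mul h.aK) c.2,
        if_neg, if_neg]
      · ring
      · rw [Units.val_mul, Matrix.det_mul]
        change ¬ IsSquare (x.2.1.det * _)
        rw [x.2.2, one_mul]; exact h.ns'.ns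
      · rw [Units.val_mul, Matrix.det_mul]
        change ¬ IsSquare (x.1.1.det * _)
        rw [x.1.2, one_mul]; exact h.ns.ns
    · rw [if_neg c, if_neg fun e => c (h.out_sq_iff.1 e.1), mul_zero]
  have c1 : ∑ A : SL(2, F), (if (M.1 * A.1).trace = 0 then (1 : ℂ) else 0) = 𝐪 * (𝐪 + eta 𝐪) := by
    have := card_orth_all h.ns.two h.ns.tr (GL_det_ne_zero M)
    rw [ety_of_not_sq (GL_det_ne_zero M) h.ns.ns] at this
    rw [Finset.sum_boole, ← Fintype.card_subtype, ← Nat.card_eq_fintype_card]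
    exact_mod_cast this
  have c2 : ∑ A : SL(2, K), (if (M'.1 * A.1).trace = 0 then (1 : ℂ) else 0) =
      𝐪 * (𝐪 + eta 𝐪) := by
    have := card_orth_all h.ns'.two h.ns'.tr (GL_det_ne_zero M')
    rw [ety_of_not_sq (GL_det_ne_zero M') h.ns'.ns, ← h.hq] at this
    rw [Finset.sum_boole, ← Fintype.card_subtype, ← Nat.card_eq_fintype_card]
    exact_mod_cast this
  simp only [e3, e4, Finset.sum_const_zero, zero_add] at e2
  rw [← Finset.mul_sum, Fintype.sum_prod_type, ← Finset.sum_mul_sum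
    (f := fun A : SL(2, F) => if (M.1 * A.1).trace = 0 then (1 : ℂ) else 0)
    (g := fun A : SL(2, K) => if (M'.1 * A.1).trace = 0 then (1 : ℂ) else 0), c1, c2] at e2
  rw [fphi, lam_wind]
  simp only [e1]
  rw [← Finset.mul_sum]
  congr 2
  linear_combination e2 / 2 + 8 * (𝐪 : ℂ) ^ 4 * (𝐪 + eta 𝐪) ^ 2 * cast_eta_sq 𝐪

theorem inner_fphi_fth {w n : SL(2, F)} (k : Qp M w n) (lam : h.ns'.To →* ℂˣ) :
    classInner (h.fphi ν₁ ν₂) (h.fth w n lam) = 0 := by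
  rw [fth, inner_wind _ _ (show IsClassFunction G (h.fphi ν₁ ν₂) from wind_class _ _)]
  refine Finset.sum_eq_zero fun a _ => mul_eq_zero_of_left ?_ _
  refine h.fphi_zero ν₁ ν₂ fun l hl e => h.out_pow_odd k a hl ?_
  obtain ⟨c, hc⟩ := _root_.isConj_iff.1 e.symm
  rw [← hc, conj_mul, h.good.jj]; simp

end Ctx

end Cfsg.Agent.FW.Ch
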