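import Mathlib
import Cfsg.Agent.FW.Good
import Cfsg.Agent.FW.CharE

/-!
The character step: the characteristic divides the index of `C(j)`.  (Paper proof: guide `94_fw_char`.)
-/

set_option autoImplicit false
set_option linter.unusedSectionVars false
set_option linter.dupNamespace false

namespace Cfsg.Agent.FW.Ch

open Matrix KSG.M2 ComplexConjugate Cfsg.Agent.Char Cfsg.Agent.FW.Ch
open scoped MatrixGroups Classical

section Parity

variable {F K G : Type*} [Field F] [Fintype F] [Field K] [Fintype K] [Group G]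
  {φ : SL(2, F) →* G} {ψ : SL(2, K) →* G}

local notation "𝐣" => φ (-1)

theorem trace_anti_mul (h2 : (2 : F) ≠ 0) {P : Matrix (Fin 2) (Fin 2) F} (hd : P.det ≠ 0)
    {n D : SL(2, F)} (hn : n.1 * P = -(P * n.1)) (hD : D ∈ Tm P) : (n * D).1.trace = 0 := by
  refine trace_of_anti' h2 hd ?_
  rw [Matrix.SpecialLinearGroup.coe_mul, Matrix.mul_assoc, ← mem_Tm.1 hD, ← Matrix.mul_assoc, hn,
    Matrix.neg_mul, Matrix.mul_assoc]

theorem anti_inv (h2 : (2 : F) ≠ 0) {P : Matrix (Fin 2) (Fin 2) F} (hd : P.det ≠ 0)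
    {n D : SL(2, F)} (hn : n.1 * P = -(P * n.1)) (hD : D ∈ Tm P) : n * D = D⁻¹ * n := by
  rw [← mul_inv_eq_iff_eq_mul, ← cg_toGL]
  exact (cg_eq_inv_iff (trace_of_anti' h2 hd hn)).2 (trace_anti_mul h2 hd hn hD)

theorem av_sub {A L : Type*} [Group A] [Fintype A] [Group L] (π : A →* L) (α : A →* ℂˣ)
    (f g : L → ℂ) : av π α (fun x => f x - g x) = av π α f - av π α g := by
  simp only [av, sub_mul, Finset.sum_sub_distrib, mul_sub]

theorem avg_conj {A : Type*} [Group A] [Fintype A] {χ : G → ℂ} (hχ : IsClassFunction G χ)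
    {π π' : A →* G} {α α' : A →* ℂˣ} {g g' : G} (x : G) (κ : A ≃ A)
    (h : ∀ a, x * (g * π a) * x⁻¹ = g' * π' (κ a)) (hα : ∀ a, α' (κ a) = α a) :
    avg χ π α g = avg χ π' α' g' := by
  unfold avg
  congr 1
  exact Fintype.sum_equiv κ _ _ fun a => by rw [← h, hχ, hα]

theorem Cfsg.Agent.FW.ActG.trace_eq_zero {t : G} {P : GL (Fin 2) F} (a : ActG φ t P) (hφ : Function.Injective φ)
    (ht : t * t = 1) (hs : ¬ IsSquare P.1.det) : P.1.trace = 0 := by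
  refine trace_of_sq (isScal_of_cg (P := P * P) fun A => hφ ?_) fun e => ?_
  · rw [cg_mul, ← a, ← a, ← mul_assoc, ← mul_assoc, ht, mul_assoc, ← _root_.mul_inv_rev, ht]
    simp
  · obtain ⟨c, hc⟩ := isScal_iff.1 e
    exact hs ⟨c, by rw [hc, Matrix.det_smul]; simp [sq]⟩

namespace Cfsg.Agent.FW.Good

variable (h : Good φ ψ) {A₁ A₂ : Type*} [Group A₁] [Fintype A₁] [Group A₂] [Fintype A₂]
  (π₁ : A₁ →* SL(2, F)) (π₂ : A₂ →* SL(2, K))

/-- The product of two homomorphisms into the components. -/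
def pr : A₁ × A₂ →* G := h.mu.comp (π₁.prodMap π₂)

theorem pr_apply (a : A₁ × A₂) : h.pr π₁ π₂ a = φ (π₁ a.1) * ψ (π₂ a.2) := rfl

theorem av_av (α₁ : A₁ →* ℂˣ) (α₂ : A₂ →* ℂˣ) (χ : G → ℂ) (g : G) :
    av π₁ α₁ (fun A => av π₂ α₂ fun B => χ (g * (φ A * ψ B))) =
      avg χ (h.pr π₁ π₂) (α₁.coprod α₂) g := by
  simp only [av, avg, Fintype.sum_prod_type, Nat.card_prod, Nat.cast_mul, mul_inv, pr_apply,
    MonoidHom.coprod_apply, Units.val_mul, map_mul, Finset.mul_sum, Finset.sum_mul]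
  refine Finset.sum_congr rfl fun a _ => Finset.sum_congr rfl fun b _ => ?_
  ring

theorem avg_j {χ : G → ℂ} (hχ : IsCharacter G χ) (α : A₁ × A₂ →* ℂˣ) :
    ∃ a b : ℤ, avg χ (h.pr π₁ π₂) α 1 = a ∧ avg χ (h.pr π₁ π₂) α 𝐣 = a + 2 * b := by
  obtain ⟨a, ha⟩ := avg_int hχ (h.pr π₁ π₂) α
  obtain ⟨n, hn⟩ := avg_par hχ (h.pr π₁ π₂) α (g := 𝐣) (Equiv.refl _)
    (fun a => (h.mu_comm_j _ _).symm.eq) (fun _ => rfl) (b := 1) (map_one _)
    (by rw [h.jj, map_one])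
  exact ⟨a, n - a, ha, by push_cast; linear_combination hn - ha⟩

theorem avg_tr0 {χ : G → ℂ} (hχ : IsClassFunction G χ) (α : A₂ →* ℂˣ) {v w : SL(2, F)}
    (hv : ∀ a, (v * π₁ a).1.trace = 0) (hw : w.1.trace = 0) :
    avg χ (h.pr π₁ π₂) (α.comp (MonoidHom.snd _ _)) (φ v) =
      av π₂ α fun B => χ (φ w * ψ B) := by
  have e : ∀ a B, χ (φ v * (φ (π₁ a) * ψ B)) = χ (φ w * ψ B) := fun a B => by
    obtain ⟨c, hc⟩ := _root_.isConj_iff.1 (SL_isConj_of_trace' ((hv a).trans hw.symm)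
      (by rw [hv]; simpa using (four_ne h.twoF).symm))
    rw [← hc, ← mul_assoc, ← map_mul, ← hχ _ (φ c), ← conj_mul, (h.comm c B).eq,
      mul_inv_cancel_right, map_mul φ (c * _), map_mul φ c, map_inv]
  simp only [av, avg, Fintype.sum_prod_type, pr_apply, e, MonoidHom.comp_apply, MonoidHom.coe_snd,
    Finset.sum_const, Finset.card_univ, nsmul_eq_mul, Nat.card_prod, Nat.cast_mul,
    ← Nat.card_eq_fintype_card]
  have := card_ne_zero A₁
  field_simp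

end Cfsg.Agent.FW.Good

namespace Ctx

variable {t : G} {M : GL (Fin 2) F} {M' : GL (Fin 2) K} (h : Ctx φ ψ t M M')

theorem avg_t {A₁ A₂ : Type*} [Group A₁] [Fintype A₁] [Group A₂] [Fintype A₂]
    (π₁ : A₁ →* SL(2, F)) (π₂ : A₂ →* SL(2, K)) {χ : G → ℂ} (hχ : IsClassFunction G χ)
    (α : A₁ × A₂ →* ℂˣ) : avg χ (h.good.pr π₁ π₂) α 𝐣 =
      avg χ (h.good.pr ((cg M).comp π₁) ((cg M').comp π₂)) α 𝐣 :=
  avg_conj hχ t (Equiv.refl _) (fun a => by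
    rw [Cfsg.Agent.FW.Good.pr_apply, ← conj_mul, ← conj_mul, h.aF.comm_neg.eq, mul_inv_cancel_right, h.aF, h.aK]
    rfl) fun _ => rfl

variable [Fintype G]

theorem inner_fphi (ν₁ : h.ns.To →* ℂˣ) (ν₂ : h.ns'.To →* ℂˣ) {χ : G → ℂ} (hχ : IsCharacter G χ) :
    ∃ b : ℤ, classInner χ (h.fphi ν₁ ν₂) = avg χ h.tau (ν₁.coprod ν₂) 1 + 2 * b := by
  have hc := hχ.isClassFunction
  obtain ⟨α, hα⟩ := exists_addChar (F := F)
  obtain ⟨β, hβ⟩ := exists_addChar (F := K)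
  have hl := card_ne_zero SL(2, F)
  have hl' := card_ne_zero SL(2, K)
  have c2 : ∀ A, IsClassFunction SL(2, K) fun B => χ (𝐣 * (φ A * ψ B)) := fun A B D => by
    change χ _ = χ _
    rw [← hc (𝐣 * (φ A * ψ B)) (ψ D), ← conj_mul, ← conj_mul, (h.good.ψ_comm D).eq,
      mul_inv_cancel_right, ← (h.good.comm A D).eq, mul_inv_cancel_right, map_mul, map_mul, map_inv]
  have c1 : ∀ B, IsClassFunction SL(2, F) fun A => χ (𝐣 * (φ A * ψ B)) := fun B A D => by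
    change χ _ = χ _
    rw [← hc (𝐣 * (φ A * ψ B)) (φ D), ← conj_mul, ← conj_mul, (h.good.φ_comm D).eq,
      mul_inv_cancel_right, (h.good.comm D B).eq, mul_inv_cancel_right, map_mul, map_mul, map_inv]
  set f : SL(2, F) → ℂ := fun A => av h.ns'.To.subtype ν₂ (fun B => χ (𝐣 * (φ A * ψ B))) -
    av (uH K) β (fun B => χ (𝐣 * (φ A * ψ B))) -
    av ((cg M').comp (uH K)) β (fun B => χ (𝐣 * (φ A * ψ B))) with hf
  have c3 : IsClassFunction SL(2, F) f := fun A D => by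
    simp only [hf, show ∀ B, χ (𝐣 * (φ (D * A * D⁻¹) * ψ B)) = _ from fun B => c1 B A D]
  have e1 : classInner χ (h.fphi ν₁ ν₂) =
      av h.ns.To.subtype ν₁ f - av (uH F) α f - av ((cg M).comp (uH F)) α f := by
    rw [fphi, inner_wind _ _ hc, Fintype.sum_prod_type]
    have : ∀ A, ∑ B, χ (𝐣 * (φ A * ψ B)) * conj (h.cw ν₁ ν₂ (A, B)) =
        (Nat.card SL(2, F) : ℂ)⁻¹ * (f A * conj (h.ns.Phi ν₁ A)) := fun A => by
      have := h.ns'.sum_mul_Phi ν₂ hβ (c2 A)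
      rw [← inv_mul_eq_iff_eq_mul₀ hl'] at this
      simp only [hf]
      rw [← this, Finset.mul_sum, Finset.sum_mul, Finset.mul_sum]
      refine Finset.sum_congr rfl fun B _ => ?_
      simp only [cw, map_mul, map_inv₀, map_natCast]
      ring
    simp only [this]
    rw [← Finset.mul_sum, h.ns.sum_mul_Phi ν₁ hα c3, inv_mul_cancel_left₀ hl]
  have t1 : (cg M).comp h.ns.To.subtype = h.ns.To.subtype :=
    MonoidHom.ext fun a => cg_eq_iff.2 a.2.1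
  have t2 : (cg M').comp h.ns'.To.subtype = h.ns'.To.subtype :=
    MonoidHom.ext fun a => cg_eq_iff.2 a.2.1
  have t3 : (cg M').comp ((cg M').comp (uH K)) = uH K := MonoidHom.ext fun a => h.ns'.cg_cg _
  have u1 := h.avg_t (uH F) h.ns'.To.subtype hc (α.coprod ν₂)
  have u2 := h.avg_t h.ns.To.subtype (uH K) hc (ν₁.coprod β)
  have u3 := h.avg_t (uH F) (uH K) hc (α.coprod β)
  have u4 := h.avg_t (uH F) ((cg M').comp (uH K)) hc (α.coprod β)
  rw [t2] at u1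
  rw [t1] at u2
  rw [t3] at u4
  obtain ⟨a0, b0, v0, w0⟩ := h.good.avg_j h.ns.To.subtype h.ns'.To.subtype hχ (ν₁.coprod ν₂)
  obtain ⟨a1, b1, -, w1⟩ := h.good.avg_j (uH F) h.ns'.To.subtype hχ (α.coprod ν₂)
  obtain ⟨a2, b2, -, w2⟩ := h.good.avg_j h.ns.To.subtype (uH K) hχ (ν₁.coprod β)
  obtain ⟨a3, b3, -, w3⟩ := h.good.avg_j (uH F) (uH K) hχ (α.coprod β)
  obtain ⟨a4, b4, -, w4⟩ := h.good.avg_j (uH F) ((cg M').comp (uH K)) hχ (α.coprod β)
  refine ⟨b0 - (a1 + 2 * b1) - (a2 + 2 * b2) + (a3 + 2 * b3) + (a4 + 2 * b4), ?_⟩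
  rw [e1, hf]
  simp only [av_sub, h.good.av_av]
  rw [← u1, ← u2, ← u3, ← u4, w0, w1, w2, w3, w4,
    show h.tau = h.good.pr h.ns.To.subtype h.ns'.To.subtype from rfl, v0]
  push_cast
  ring

theorem inner_fth_par {w n : SL(2, F)} (k : Qp M w n) (lam : h.ns'.To →* ℂˣ) {χ : G → ℂ}
    (hχ : IsCharacter G χ) : ∃ b : ℤ, classInner χ (h.fth w n lam) =
      2 * b - avg χ h.tau (lam.comp (MonoidHom.snd _ _)) 1 := by
  have hc := hχ.isClassFunction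
  obtain ⟨d, hd⟩ := h.exists_y_sq k
  obtain ⟨n1, e1⟩ := avg_par hχ (h.zeta w) (lam.comp (MonoidHom.snd _ _)) (g := φ n * t)
    (Equiv.refl _) (fun a => (h.y_comm k a).eq) (fun _ => rfl) (b := (d, 1)) (map_one lam) hd
  obtain ⟨n2, e2⟩ := avg_par hχ (h.zeta w) (lam.comp (MonoidHom.snd _ _)) (g := φ n)
    ((Equiv.inv _).prodCongr (Equiv.refl _)) (fun a => by
      change φ n * (φ a.1.1 * ψ a.2.1) = φ a.1.1⁻¹ * ψ a.2.1 * φ n
      rw [← mul_assoc, ← map_mul, anti_inv h.ns.two (k.det_w h.ns) k.nw a.1.2, map_mul, mul_assoc,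
        (h.good.comm n _).eq, mul_assoc]) (fun _ => rfl)
    (b := (⟨-1, neg_mem_Tm (one_mem _)⟩, 1)) (map_one lam) (by
      rw [← map_mul, SL_sq_eq_neg_one_iff.2 (k.tr_n h.ns)]; simp [zeta_apply])
  have hw : ∀ a : h.ns.To × h.ns'.To, φ w * h.tau a =
      h.tau (((Equiv.inv _).prodCongr (Equiv.refl _)) a) * φ w := fun a => by
    change φ w * (φ a.1.1 * ψ a.2.1) = φ a.1.1⁻¹ * ψ a.2.1 * φ w
    rw [← mul_assoc, ← map_mul, anti_inv h.ns.two (GL_det_ne_zero M) k.wM a.1.2.1, map_mul,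
      mul_assoc, (h.good.comm w _).eq, mul_assoc]
  obtain ⟨n3, e3⟩ := avg_par4 hχ h.tau (lam.comp (MonoidHom.snd _ _)) (j := 𝐣) (g := φ w) (ε := 1)
    (one_mul 1) h.good.jj (fun a => (h.good.mu_comm_j _ _).symm.eq) (h.good.φ_comm w).eq
    ((Equiv.inv _).prodCongr (Equiv.refl _)) hw (fun _ => rfl) (b := 1) (map_one _)
    (Or.inr ⟨rfl, by rw [← map_mul, SL_sq_eq_neg_one_iff.2 (k.tr_w h.ns)]⟩)
  obtain ⟨n4, e4⟩ := avg_par4 hχ h.tau (lam.comp (MonoidHom.snd _ _)) (j := 𝐣) (g := t) (ε := -1)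
    (by simp) h.good.jj (fun a => (h.good.mu_comm_j _ _).symm.eq) h.aF.comm_neg.eq
    (Equiv.refl _) (fun a => (((h.aF.comm_iff h.good.φ_inj).2 a.1.2.1).mul_left
      (h.tψ' a.2.2.1)).symm.eq) (fun _ => rfl) (b := 1) (map_one _)
    (Or.inl (by rw [h.tt, map_one]))
  have f1 : avg χ (h.zeta w) (lam.comp (MonoidHom.snd _ _)) (φ n) = _ :=
    h.good.avg_tr0 (Tm w.1).subtype h.ns'.To.subtype hc lam
      (fun a => trace_anti_mul h.ns.two (k.det_w h.ns) k.nw a.2) (k.tr_w h.ns)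
  have f2 : avg χ h.tau (lam.comp (MonoidHom.snd _ _)) (φ w) = _ :=
    h.good.avg_tr0 h.ns.To.subtype h.ns'.To.subtype hc lam
      (fun a => trace_anti_mul h.ns.two (GL_det_ne_zero M) k.wM a.2.1) (k.tr_w h.ns)
  have f3 : avg χ h.tau (lam.comp (MonoidHom.snd _ _)) (φ (-w)) = _ :=
    h.good.avg_tr0 h.ns.To.subtype h.ns'.To.subtype hc lam
      (fun a => trace_anti_mul h.ns.two (GL_det_ne_zero M) (by simp [k.wM]) a.2.1) (k.tr_w h.ns)
  have f4 : avg χ h.tau (lam.comp (MonoidHom.snd _ _)) t =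
      avg χ h.tau (lam.comp (MonoidHom.snd _ _)) (t * 𝐣) :=
    avg_conj hc (φ w) ((Equiv.inv _).prodCongr (Equiv.refl _)) (fun a => by
      rw [← conj_mul, hw, mul_inv_cancel_right]
      congr 1
      rw [mul_inv_eq_iff_eq_mul, mul_assoc, ← h.good.φ_neg, h.tφ, cg_neg, k.cg_w h.ns, neg_neg])
      fun _ => rfl
  rw [(h.good.φ_comm w).eq, ← h.good.φ_neg w, f2, f3] at e3
  rw [f1] at e2
  rw [← f4] at e4
  refine ⟨n1 - n2 + n3 + n4, ?_⟩
  rw [h.inner_fth lam hc]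
  push_cast
  linear_combination e1 - e2 + e3 / 2 + e4 / 2

theorem main {ρ : G} {r : h.ns.To × h.ns'.To →* h.ns.To × h.ns'.To} (hρ : h.Rho ρ r) {p : ℕ}
    [Fact p.Prime] [CharP F p] : p ∣ (Subgroup.centralizer ({𝐣} : Set G)).index := by
  obtain ⟨w, n, k⟩ := h.ns.exists_qp
  obtain ⟨lam, hl⟩ := h.ns'.exists_faithful
  set ν := (lam.comp (MonoidHom.snd _ _)).comp r with hν
  set ν₁ := ν.comp (MonoidHom.inl _ _) with hν₁
  set ν₂ := ν.comp (MonoidHom.inr _ _) with hν₂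
  have h₁ : Function.Injective ν₁ :=
    (injective_iff_map_eq_one _).2 fun a e => hρ.i12 a ((injective_iff_map_eq_one _).1 hl _ e)
  have h₂ : Function.Injective ν₂ :=
    (injective_iff_map_eq_one _).2 fun a e => hρ.i22 a ((injective_iff_map_eq_one _).1 hl _ e)
  obtain ⟨d, a, b, hd, e1, e2, e3⟩ := final_num h.good.jj (x := h.fphi ν₁ ν₂) (y := h.fth w n lam)
    (wind_class _ _) (wind_class _ _) (fun χ hχ => by
      obtain ⟨b1, f1⟩ := h.inner_fphi ν₁ ν₂ hχ.isCharacter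
      obtain ⟨b2, f2⟩ := h.inner_fth_par k lam hχ.isCharacter
      obtain ⟨i, hi⟩ := avg_int hχ.isCharacter h.tau (lam.comp (MonoidHom.snd _ _))
      have : avg χ h.tau (ν₁.coprod ν₂) 1 = avg χ h.tau (lam.comp (MonoidHom.snd _ _)) 1 :=
        avg_conj hχ.isClassFunction ρ (Equiv.ofBijective r hρ.bij)
          (fun a => by rw [one_mul, one_mul, hρ.hr]; rfl) fun a => by
            rw [hν₁, hν₂, MonoidHom.coprod_unique]; rfl
      refine ⟨i + 2 * b1, b2 - i - b1, ?_, ?_⟩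
      · rw [f1, this, hi]; push_cast; ring
      · rw [f2, hi]; push_cast; ring)
    (h.norm_fphi ν₁ ν₂ h₁ h₂) (h.norm_fth k hρ hl) (h.inner_fphi_fth ν₁ ν₂ k lam)
    (h.fphi_one ν₁ ν₂) (h.fth_of_sq k lam (mul_one 1)) (h.fth_of_sq k lam h.good.jj)
    (h.lam_fth k (h.ns'.ne_one_of_inj lam hl))
  rw [h.fphi_j] at e1
  rw [h.lam_fphi ν₁ ν₂ (h.ns.ne_one_of_inj ν₁ h₁) (h.ns'.ne_one_of_inj ν₂ h₂),
    ← (Subgroup.centralizer ({𝐣} : Set G)).index_mul_card] at e2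
  have hb := h.good.card_cent_le
  rw [h.card_H, card_SL2, card_SL2, Nat.card_eq_fintype_card (α := F),
    Nat.card_eq_fintype_card (α := K), ← h.hq] at hb
  have a1 := two_mul_card_aut_le h.good.twoF
  have a2 := two_mul_card_aut_le h.good.twoK
  rw [← h.hq] at a2
  have hC := card_ne_zero (Subgroup.centralizer ({𝐣} : Set G))
  have he := cast_eta_sq (Fintype.card F)
  have hq3 := h.ns.big
  obtain ⟨f, hp, hf⟩ := FiniteField.card F p
  set C := Nat.card (Subgroup.centralizer ({𝐣} : Set G))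
  set I := (Subgroup.centralizer ({𝐣} : Set G)).index
  set q := Fintype.card F
  have hQ : (q : ℂ) + eta q ≠ 0 := by
    have : (q : ℤ) + eta q ≠ 0 := by unfold eta; split_ifs <;> omega
    exact_mod_cast this
  have e4 : (I : ℂ) * (a + b) = 2 * q ^ 4 * d := by
    have h0 : (C : ℂ) ^ 2 * ((Nat.card SL(2, F) : ℂ) * Nat.card SL(2, K))⁻¹ *
      (4 * ((q : ℂ) + eta q) ^ 2) ≠ 0 := by simp [hC, hQ]
    apply mul_left_cancel₀ h0
    push_cast at e2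
    linear_combination e2 - I * C * (a + b) * e1 - 4 * I * C ^ 2 * (a + b) *
      ((Nat.card SL(2, F) : ℂ) * Nat.card SL(2, K))⁻¹ * (q ^ 2 - 1) * he
  have e5 : (I : ℤ) * (a + b) = 2 * q ^ 4 * d := by exact_mod_cast e4
  by_contra hI
  have hco : IsCoprime ((q : ℤ) ^ 4) I := by
    rw [hf]
    exact_mod_cast Nat.isCoprime_iff_coprime.2
      (Nat.Coprime.pow_left 4 (Nat.Coprime.pow_left f ((Nat.Prime.coprime_iff_not_dvd hp).2 hI)))
  have hdv : (q : ℤ) ^ 4 ∣ a + b := hco.dvd_of_dvd_mul_left ⟨2 * d, by rw [e5]; ring⟩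
  have hq0 : (0 : ℤ) < q := by omega
  have hab : a + b ≠ 0 := fun e => by
    rw [e, mul_zero] at e5
    exact mul_ne_zero (mul_ne_zero two_ne_zero (pow_ne_zero 4 hq0.ne')) hd e5.symm
  have h5 : (q : ℤ) ^ 4 ≤ |a + b| := Int.le_of_dvd (abs_pos.2 hab) ((dvd_abs _ _).2 hdv)
  have h6 : ((q : ℤ) ^ 4) ^ 2 ≤ (a + b) ^ 2 := by
    rw [← sq_abs (a + b)]; exact pow_le_pow_left₀ (by positivity) h5 2
  have h7 : 4 * C ≤ q ^ 8 := by
    have s1 : q * (q ^ 2 - 1) ≤ q ^ 3 := by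
      rw [pow_succ' q 2]; exact Nat.mul_le_mul_left _ (Nat.sub_le _ _)
    calc 4 * C ≤ 4 * (q ^ 3 * q ^ 3 * (Nat.card (F ≃+* F) * Nat.card (K ≃+* K))) :=
          Nat.mul_le_mul_left _ (hb.trans (Nat.mul_le_mul_right _ (Nat.mul_le_mul s1 s1)))
      _ = q ^ 6 * (2 * Nat.card (F ≃+* F) * (2 * Nat.card (K ≃+* K))) := by ring
      _ ≤ q ^ 6 * (q * q) := Nat.mul_le_mul_left _ (Nat.mul_le_mul a1 a2)
      _ = q ^ 8 := by ring
  have h8 : 4 * (C : ℤ) ≤ (q : ℤ) ^ 8 := by exact_mod_cast h7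
  have h9 : (0 : ℤ) < q ^ 8 := by positivity
  nlinarith [sq_nonneg (a - b)]

end Ctx

end Parity

end Cfsg.Agent.FW.Ch

namespace Cfsg.Agent.FW

open Ch
open scoped MatrixGroups

theorem char_step {F K G : Type*} [Field F] [Fintype F] [Field K] [Fintype K] [Group G] [Finite G]
    {φ : SL(2, F) →* G} {ψ : SL(2, K) →* G} (h : Good φ ψ) (hq : Fintype.card F = Fintype.card K)
    (h3 : 3 < Fintype.card F) {p : ℕ} [Fact p.Prime] [CharP F p] {t ρ : G} {M : GL (Fin 2) F}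
    {M' : GL (Fin 2) K} (ht : t * t = 1) (hM : ActG φ t M) (hM' : ActG ψ t M') (hd : ¬ IsSquare M.1.det)
    (hn : ∀ x ∈ Tod φ ψ t, ρ * x * ρ⁻¹ ∈ Tod φ ψ t) (hj : ρ * φ (-1) * ρ⁻¹ = t)
    (hjt : ρ * t * ρ⁻¹ = φ (-1) * t)
    (h1 : ∀ A, Odd (orderOf A) → Commute (φ A) t → A ≠ 1 →
      ρ * φ A * ρ⁻¹ ∉ φ.range ∧ ρ * φ A * ρ⁻¹ ∉ ψ.range)
    (h2 : ∀ B, Odd (orderOf B) → Commute (ψ B) t → B ≠ 1 →
      ρ * ψ B * ρ⁻¹ ∉ φ.range ∧ ρ * ψ B * ρ⁻¹ ∉ ψ.range) :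
    p ∣ (Subgroup.centralizer ({φ (-1)} : Set G)).index := by
  have := Fintype.ofFinite G
  have hd' : ¬ IsSquare M'.1.det := mt (h.sq_iff hM hM').2 hd
  have c : Ctx φ ψ t M M' := ⟨h, hq, ⟨h.twoF, h3, hM.trace_eq_zero h.φ_inj ht hd, hd⟩,
    ⟨h.twoK, hq ▸ h3, hM'.trace_eq_zero h.ψ_inj ht hd', hd'⟩, ht, hM, hM'⟩
  obtain ⟨r, hr⟩ := c.exists_rho hn hj hjt h1 h2
  exact c.main hr

end Cfsg.Agent.FW
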