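import Mathlib
import Cfsg.Agent.FW.FinA
import Cfsg.Agent.FW.HexRel
import Cfsg.Agent.FW.HexD
import Cfsg.Agent.SylT.L5E

/-!
The group generated by the hexagon datum is normal, of index `|C(j) : L₁ L₂| / 2`.  (Guide `94_fw_fin`.)
-/

set_option autoImplicit false
set_option linter.unusedSectionVars false

namespace Cfsg.Agent.FW

open Cfsg.Agent.KSG.M2 hiding dg coe_dg
open Cfsg.Agent.KSG Cfsg.Agent.RootSub
open Cfsg.Agent.Comm.Hex (dg coe_dg coe_ww hom_ext)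
open scoped MatrixGroups

/-- A subgroup containing `C(j)` and fusing the involutions of `C(j)` is everything, unless involutions
generating a `2`-group commute. -/
theorem eq_top_of_one_class {G : Type*} [Group G] [Finite G] {M : Subgroup G} {j : G} (hj : orderOf j = 2)
    (hC : ∀ c, Commute c j → c ∈ M)
    (h1 : ∀ t, orderOf t = 2 → Commute t j → ∃ g ∈ M, g * j * g⁻¹ = t) {a b : G} (ha : orderOf a = 2)
    (hb : orderOf b = 2) (h4 : (a * b) ^ 2 ^ 2 = 1) (hab : a * b ≠ b * a) : M = ⊤ := by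
  have jM := hC j (Commute.refl j)
  have h2 : ∀ t ∈ M, orderOf t = 2 → ∃ g ∈ M, g * j * g⁻¹ = t := fun t ht t2 => by
    have tt := Inv.mul_self_of_orderOf_two t2
    have jj := Inv.mul_self_of_orderOf_two hj
    rcases Nat.even_or_odd (orderOf (t * j)) with e | e
    · obtain ⟨z, -, z2, c1, c2⟩ := Inv.exists_central_involution_of_even tt jj e
      obtain ⟨g, hg, rfl⟩ := h1 z z2 c2
      obtain ⟨g', hg', e⟩ := h1 (g⁻¹ * t * g) ((Inv.orderOf_conj' g t).trans t2) (by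
        simpa [mul_assoc] using c1.symm.conj g⁻¹)
      exact ⟨g * g', mul_mem hg hg', by rw [mul_assoc g, mul_inv_rev, ← mul_assoc, mul_assoc g, e]; group⟩
    · obtain ⟨k, hk⟩ := Inv.exists_conj_of_odd_orderOf_mul tt jj e
      exact ⟨_, pow_mem (mul_mem ht jM) k, hk⟩
  by_contra hM
  obtain ⟨k, -, hk⟩ := (Nat.dvd_prime_pow Nat.prime_two).1 (orderOf_dvd_of_pow_eq_one h4)
  refine hab (SylT.se_comm (M := M) (Inv.isStronglyEmbedded_iff.2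
    ⟨hM, Inv.even_card_of_involution jM hj, fun t ht t2 g hg => ?_⟩) (Inv.isPGroup_closure_pair ha hb hk)
    (Subgroup.subset_closure (by simp)) (Subgroup.subset_closure (by simp)) ha hb)
  obtain ⟨x, hx, rfl⟩ := h2 t ht t2
  obtain ⟨y, hy, e⟩ := h2 _ hg ((Inv.orderOf_conj _ _).trans t2)
  have := hC (y⁻¹ * g * x) (by
    refine mul_inv_eq_iff_eq_mul.1 ?_
    rw [show y⁻¹ * g * x * j * (y⁻¹ * g * x)⁻¹ = y⁻¹ * (g * (x * j * x⁻¹) * g⁻¹) * y by group, ← e]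
    group)
  exact (mul_mem_cancel_left (inv_mem hy)).1 ((mul_mem_cancel_right hx).1 this)

theorem Pre.exists_d8 {F K G : Type*} [Field F] [Fintype F] [Field K] [Fintype K] [Group G]
    {φ : SL(2, F) →* G} {ψ : SL(2, K) →* G} (p : Pre φ ψ) :
    ∃ a b : G, orderOf a = 2 ∧ orderOf b = 2 ∧ (a * b) ^ 2 ^ 2 = 1 ∧ a * b ≠ b * a := by
  have t1 := p.tv_inner ww_mul_self ww_mul_self
  obtain ⟨W, hW⟩ := exists_anti p.twoF t1.tr1
  have t2 := p.tv_inner (t1.anti_sq hW) ww_mul_self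
  have e : φ W * ψ ww * (φ ww * ψ ww) * (φ W * ψ ww)⁻¹ = φ (-1) * (φ ww * ψ ww) := by
    rw [← t1.anti_conj hW, mul_assoc (φ W), ((p.comm ww ww).symm.mul_right (Commute.refl _)).eq]
    group
  rw [mul_inv_eq_iff_eq_mul] at e
  refine ⟨_, _, Inv.orderOf_two_of_mul_self t2.tt t2.t_ne_one, Inv.orderOf_two_of_mul_self t1.tt t1.t_ne_one,
    ?_, by simpa [e, mul_assoc] using p.j_ne⟩
  rw [sq, pow_mul, sq, sq]
  nth_rw 1 3 [e]
  simp only [mul_assoc _ (φ W * ψ ww), ← mul_assoc (φ W * ψ ww) (φ W * ψ ww), t2.tt, one_mul,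
    mul_assoc (φ (-1)), t1.tt, mul_one, p.j_mul_j]

namespace Hex

variable {F K G : Type*} [Field F] [Field K] [Group G] (E : Hex F K G)

theorem τφ (c : Kˣ × Fˣ) : ActG E.φ (E.τ c) (dm c.2) :=
  hom_ext (f := cjh (E.τ c) E.φ) (g := E.φ.comp (cg (dm c.2)))
    (fun s => (E.τ_φx c s).trans (congrArg E.φ (cg_dm_xx _ _).symm))
    fun s => (E.τ_φy c s).trans (congrArg E.φ (cg_dm_yy _ _).symm)

theorem τψ (c : Kˣ × Fˣ) : ActG E.ψ (E.τ c) (dm c.1) :=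
  hom_ext (f := cjh (E.τ c) E.ψ) (g := E.ψ.comp (cg (dm c.1)))
    (fun s => (E.τ_ψx c s).trans (congrArg E.ψ (cg_dm_xx _ _).symm))
    fun s => (E.τ_ψy c s).trans (congrArg E.ψ (cg_dm_yy _ _).symm)

theorem eq_one_of_comm' (hF : (2 : F) ≠ 0) (hK : (2 : K) ≠ 0) {u : G} (hu : u ∈ E.U)
    (h1 : Commute (E.τ (-1, 1)) u) (h2 : Commute (E.τ (1, -1)) u) : u = 1 := by
  obtain ⟨a5, a4, a3, a2, a1, a0, rfl⟩ := E.mem_U.1 hu
  have h1 := h1.mul_inv_cancel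
  have h2 := h2.mul_inv_cancel
  rw [← conj_mul, τ_v, τ0] at h1 h2
  have h3 := E.vx_inj h1
  have h4 := E.vx_inj h2
  simp only [map_one, N_neg_one, ι_neg_one, Units.val_neg, Units.val_one, mul_one, neg_mul,
    one_mul, inv_one, neg_eq_iff_add_eq_zero, ← two_mul, mul_eq_zero, hF, hK, false_or] at h3 h4
  simp [v, h3, h4]

local notation "φ₃" => cjh (E.φ ww * E.ψ ww) E.φ

variable {E} (p : Pre (cjh (E.φ ww * E.ψ ww) E.φ) E.ψ)
include p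

theorem cfg : Cfg E.φ E.ψ where
  p3 := p
  surj r r' := ⟨_, E.τφ (r', r), E.τψ (r', r)⟩
  φd c := ⟨_, E.φ_dg' c ▸ E.τψ _⟩
  ψd c := ⟨_, E.ψ_dg' c ▸ E.τφ _⟩
  φn := E.φ_neg ▸ E.τψ (-1, 1)
  ψn := E.ψ_neg ▸ E.τφ (1, -1)
  ls := E.c01

theorem tv : Tv φ₃ E.ψ (E.φ (-1)) (dm (-1)) (dm (-1)) :=
  ⟨p, by rw [← map_mul]; simp, (cfg p).v3, (cfg p).φn, trace_dm, trace_dm⟩

theorem τ3' (c : Kˣ × Fˣ) : ∃ r, ActG φ₃ (E.τ c) (dm r) :=
  (cfg p).diag3 ((cfg p).mem_T.2 ⟨_, _, E.τφ c, E.τψ c⟩)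

theorem τ_Hl (c : Kˣ × Fˣ) : E.τ c ∈ Hl φ₃ E.ψ := by
  obtain ⟨r, h⟩ := τ3' p c
  exact ⟨_, _, h, E.τψ c⟩

theorem Y_le_gen : (φ₃).range ⊔ E.ψ.range ≤ E.gen := sup_le (by
  rintro _ ⟨A, rfl⟩
  have := mul_mem (E.φ_gen ww) (E.ψ_gen ww)
  exact mul_mem (mul_mem this (E.φ_gen A)) (inv_mem this)) (by rintro _ ⟨A, rfl⟩; exact E.ψ_gen A)

variable [Fintype F] [Fintype K]

theorem Hl_le_gen : Hl φ₃ E.ψ ≤ E.gen := by
  obtain ⟨t, M, M', a, b, s⟩ := p.out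
  obtain ⟨r, h⟩ := τ3' p (Units.mk0 _ (det_ne M'), 1)
  exact p.Hl_le (Y_le_gen p) (E.τ_gen _) h (E.τψ _) (by
    rw [det_dm]
    exact mt (p.sq_iff a b).2 s)

variable {c : G} {σ : F ≃+* F} {σ' : K ≃+* K} (a : ActS (cjh (E.φ ww * E.ψ ww) E.φ) c 1 σ)
  (b : ActS E.ψ c 1 σ') {k : ℕ} (hk : Odd k) (hc : c ^ k = 1 ∨ c ^ k = cjh (E.φ ww * E.ψ ww) E.φ (-1))
include a b hk hc

theorem pure_v : Commute c (E.φ (-1)) := by
  have h := tv p
  have a1 := (a.conj h.a1).mul h.a1.inv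
  have b1 := (b.conj h.a2).mul h.a2.inv
  simp only [gm_dm, one_mul, inv_one, mul_one, mul_inv_cancel] at a1 b1
  refine Subgroup.mem_centralizer_singleton_iff.1 (mem_of_odd hk ?_ ?_) <;>
    refine Subgroup.mem_centralizer_singleton_iff.2 ?_
  · rcases hc with e | e <;> rw [e]
    · simp
    · exact h.tj.symm
  · rcases h.of_scal a1 b1 (by simp [IsScal]) (by simp [IsScal]) with e | e
    · rw [mul_inv_eq_one, mul_inv_eq_iff_eq_mul] at e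
      exact Commute.mul_left e e
    · rw [mul_inv_eq_iff_eq_mul, mul_inv_eq_iff_eq_mul] at e
      rw [mul_assoc, e, ← mul_assoc, ← mul_assoc, a.comm_j.eq, mul_assoc _ c, e, ← mul_assoc, ← mul_assoc,
        p.j_mul_j, one_mul, mul_assoc]

theorem pure_φ : ∃ r θ, ActS E.φ c (dm r) θ := by
  obtain ⟨N, θ, -, -, a1, -⟩ := (cfg p).p5.act c (pure_v p a b hk hc)
  refine Dg.exists p.twoF (mem_of_odd hk ?_ (sq_mem_Dg (cfg p).p5.φ_inj a1 (cfg p).ψn b.comm_j))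
  rcases hc with e | e <;> rw [e]
  · exact one_mem _
  · exact ⟨_, _, actS_one.2 (p.neg ▸ (cfg p).ψn), Commute.refl _⟩

theorem pure_gen {g : G} (hg : g ∈ E.gen) : c * g * c⁻¹ ∈ E.gen := by
  obtain ⟨r, θ, a1⟩ := pure_φ p a b hk hc
  refine (show E.gen ≤ E.gen.comap (MulAut.conj c).toMonoidHom from sup_le (sup_le ?_ ?_) ?_) hg
  · exact fun x hx => Subgroup.mem_sup_left (Subgroup.mem_sup_left (a1.norm hx))
  · exact fun x hx => Subgroup.mem_sup_left (Subgroup.mem_sup_right (b.norm hx))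
  · rintro _ ⟨d, rfl⟩
    exact Hl_le_gen p (p.conj_Hl a.comm_j (τ_Hl p d))

theorem pure_U {u : G} (hu : u ∈ E.U) : c * u * c⁻¹ ∈ E.U := by
  obtain ⟨r, θ, a1⟩ := pure_φ p a b hk hc
  have hm : c * E.m * c⁻¹ = E.m := by rw [m, b, fm_ww', cg_one]
  have hn : c * E.n * c⁻¹ = E.τ ((E.ι r)⁻¹, r ^ 2) * E.n := by
    rw [n, a1, fm_ww', cg_dm_ww, map_mul, φ_dg']
  have h0 : ∀ s, c * E.x0 s * c⁻¹ = E.x0 (σ' s) := fun s => by rw [x0, X0, b, fm_xx, cg_one, x0, X0]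
  have h5 : ∀ s, c * E.x5 s * c⁻¹ = E.x5 (r * θ s) := fun s => by
    rw [x5, X5, a1, fm_xx, cg_dm_xx, x5, X5]
  have h3 : ∀ s, c * E.x3 s * c⁻¹ = E.x3 (σ s) := fun s => by
    rw [x3, x3, Cfg.X3_eq, Cfg.X3_eq, a, fm_xx, cg_one]
  have h4 : ∀ s, ∃ s', c * E.x4 s * c⁻¹ = E.x4 s' := fun s =>
    ⟨_, Eq.trans (by rw [← n0, ← conj_mul, ← conj_mul, ← conj_inv, hn, h0, ← n0]; group)
      (E.τ4 ((E.ι r)⁻¹, r ^ 2) (σ' s))⟩
  obtain ⟨s0, s1, s2, s3, s4, s5, rfl⟩ := E.mem_U'.1 hu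
  obtain ⟨t2, e2⟩ := h4 s2
  obtain ⟨t4, e4⟩ := h4 s4
  have h6 : ∀ x, c * (E.m * x * E.m⁻¹) * c⁻¹ = E.m * (c * x * c⁻¹) * E.m⁻¹ := fun x => by
    conv_rhs => rw [← hm]
    group
  rw [← conj_mul, ← conj_mul, ← conj_mul, ← conj_mul, ← conj_mul, h0, h5, h3, e4, ← m5, ← m4, h6, h6, h5, e2]
  exact E.mem_U'.2 ⟨_, _, _, _, _, _, rfl⟩

theorem pure_Hl (hg : c ∈ E.gen) : c ∈ Hl φ₃ E.ψ := by
  obtain ⟨u, hu, d, e⟩ := E.mem_B_of_norm' hg fun u => pure_U p a b hk hc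
  have key : ∀ d', Commute c (E.τ d') → Commute (E.τ d') u := fun d' h => by
    rw [← mul_inv_eq_iff_eq_mul.2 e]
    exact h.symm.mul_right ((Commute.all d' d).map E.τ).inv_right
  rw [e, E.eq_one_of_comm' p.twoF p.twoK hu (key _ (E.φ_neg ▸ pure_v p a b hk hc))
    (key _ (E.ψ_neg ▸ b.comm_j)), one_mul]
  exact τ_Hl p d

end Hex

theorem gen_normal' {F K G : Type*} [Field F] [Fintype F] [Field K] [Fintype K] [Group G] [Finite G]
    (E : Hex F K G) (p : Pre (cjh (E.φ ww * E.ψ ww) E.φ) E.ψ) :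
    E.gen.Normal ∧ 2 * E.gen.index = ((cjh (E.φ ww * E.ψ ww) E.φ).range ⊔ E.ψ.range).relIndex
      (Subgroup.centralizer ({E.ψ (-1)} : Set G)) := by
  have hC : ∀ {c}, c ∈ Subgroup.centralizer ({E.ψ (-1)} : Set G) ↔
      Commute c (cjh (E.φ ww * E.ψ ww) E.φ (-1)) := p.neg ▸ Subgroup.mem_centralizer_singleton_iff
  have h1 : Subgroup.centralizer ({E.ψ (-1)} : Set G) ≤ Subgroup.normalizer E.gen := fun c hc => by
    obtain ⟨x, hx, σ, σ', a, b, k, hk, e⟩ := p.exists_pure (hC.1 hc)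
    exact (mul_mem_cancel_left (inv_mem (Subgroup.le_normalizer (Hex.Hl_le_gen p hx)))).1
      (Subgroup.mem_normalizer_fintype fun g => Hex.pure_gen p a b hk e)
  have h2 : E.gen ⊓ Subgroup.centralizer ({E.ψ (-1)} : Set G) = Hl (cjh (E.φ ww * E.ψ ww) E.φ) E.ψ := by
    refine le_antisymm (fun c hc => ?_) (le_inf (Hex.Hl_le_gen p) fun c hc => hC.2 (Hl.comm_j hc))
    obtain ⟨x, hx, σ, σ', a, b, k, hk, e⟩ := p.exists_pure (hC.1 hc.2)
    exact (mul_mem_cancel_left (inv_mem hx)).1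
      (Hex.pure_Hl p a b hk e (mul_mem (inv_mem (Hex.Hl_le_gen p hx)) hc.1))
  have h3 : E.gen ⊔ Subgroup.centralizer ({E.ψ (-1)} : Set G) = ⊤ := by
    obtain ⟨a, b, h1, h2, h3, h4⟩ := p.exists_d8
    refine eq_top_of_one_class (Inv.orderOf_two_of_mul_self p.j_mul_j p.j_ne)
      (fun c hc => Subgroup.mem_sup_right (hC.2 hc)) (fun t t2 hc => ?_) h1 h2 h3 h4
    refine ((Hex.tv p).one_class (ρ := E.m * E.n) ?_ ?_ (Hex.Y_le_gen p)
      (mul_mem (E.ψ_gen _) (E.φ_gen _)) (Inv.mul_self_of_orderOf_two t2)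
      (Inv.ne_one_of_orderOf_two t2) hc).imp fun g hg => ⟨Subgroup.mem_sup_left hg.1, hg.2⟩
    · rw [← p.neg, E.ψ_neg, E.φ_neg, show ∀ x, E.m * E.n * x * (E.m * E.n)⁻¹ =
        E.m * (E.n * x * E.n⁻¹) * E.m⁻¹ from fun x => by group, E.n_τ, E.m_τ]
      simp
    · rw [← p.neg, E.ψ_neg, E.φ_neg, show ∀ x, E.m * E.n * x * (E.m * E.n)⁻¹ =
        E.m * (E.n * x * E.n⁻¹) * E.m⁻¹ from fun x => by group, E.n_τ, E.m_τ, ← map_mul]
      simp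
  have hn : E.gen.Normal := Subgroup.normalizer_eq_top_iff.1
    (top_le_iff.1 (h3 ▸ sup_le Subgroup.le_normalizer h1))
  refine ⟨hn, ?_⟩
  rw [← Subgroup.relIndex_top_right, ← h3, Subgroup.relIndex_sup_left, ← Subgroup.inf_relIndex_right, h2,
    ← Subgroup.relIndex_mul_relIndex _ _ _ p.Y_le (h2 ▸ inf_le_right), p.relIndex_Y]

theorem gen_normal {F K G : Type*} [Field F] [Fintype F] [Field K] [Fintype K] [Group G] [Finite G]
    (E : Hex F K G) (h : Good (cjh (E.φ ww * E.ψ ww) E.φ) E.ψ) :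
    E.gen.Normal ∧ 2 * E.gen.index = ((cjh (E.φ ww * E.ψ ww) E.φ).range ⊔ E.ψ.range).relIndex
      (Subgroup.centralizer ({E.ψ (-1)} : Set G)) :=
  gen_normal' E h.pre

end Cfsg.Agent.FW
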