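import Mathlib
import Cfsg.Agent.FW.Tor
import Cfsg.Agent.S2917
import Cfsg.Agent.Chev.Aut

/-!
The case `q₁ = q₂ = 3`.
-/

set_option autoImplicit false
set_option linter.unusedSectionVars false
set_option maxRecDepth 100000
set_option synthInstance.maxHeartbeats 400000
set_option synthInstance.maxSize 4000

namespace Cfsg.Agent.G23

open Subgroup Cfsg.Agent.Comp Cfsg.Agent.LES Cfsg.Agent.X32 Cfsg.Agent.X32.TG Cfsg.Agent.He5
open Cfsg.Agent.U43 (K0 S3 ma mb lp S3_gen sat_ker inj_of l0 link0 cmap cjk)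

variable {G : Type*} [Group G]

/-- An eight-group of `SL₂(3) ∘ SL₂(3)` normalised by an element moving the central involution. -/
theorem Pre0.std' {ψ : K0 →* G} (h : Pre0 ψ) {t y : K0} (tt : t * t = 1) (t1 : t ≠ 1) (tz : t ≠ e 1)
    (yy : y * y = 1) (ty : Commute t y) (y1 : y ≠ 1) (y2 : y ≠ e 1) (y3 : y ≠ t) (y4 : y ≠ e 1 * t) {g : G}
    (gz : g * ψ (e 1) * g⁻¹ = ψ t) (gt : g * ψ t * g⁻¹ = ψ (e 1)) (gy : g * ψ y * g⁻¹ = ψ y) :
    ∃ ψ' : K0 →* G, Pre ψ' := by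
  have fin : ∀ β : K0 →* K0, β (e 1) = e 1 → Pre0 (ψ.comp β) → β (e 2) = t → ∀ v : K0,
      (v = 1 ∨ v = e 1 ∨ v = e 2 ∨ v = e 1 * e 2) → β (e 4 * v) = y → ∃ ψ' : K0 →* G, Pre ψ' := by
    intro β b1 h' b2 v hv b4
    rw [← b1, ← b2] at gz gt
    rw [← b4] at gy
    change g * (ψ.comp β) _ * g⁻¹ = (ψ.comp β) _ at gz gt gy
    generalize ψ.comp β = χ at *
    let S : Subgroup K0 := (A0.map χ).comap ((MulAut.conj g).toMonoidHom.comp χ)
    have m1 : e 1 ∈ A0 := BD.of (by decide +kernel)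
    have m2 : e 2 ∈ A0 := BD.of (by decide +kernel)
    have m4 : e 4 ∈ A0 := BD.of (by decide +kernel)
    have s1 : e 1 ∈ S := ⟨_, m2, gz.symm⟩
    have s2 : e 2 ∈ S := ⟨_, m1, gt.symm⟩
    have sv : v ∈ S ∧ v ∈ A0 := by
      rcases hv with rfl | rfl | rfl | rfl
      exacts [⟨one_mem _, one_mem _⟩, ⟨s1, m1⟩, ⟨s2, m2⟩, ⟨mul_mem s1 s2, mul_mem m1 m2⟩]
    have s4 : e 4 ∈ S := (mul_mem_cancel_right sv.1).1 ⟨_, mul_mem m4 sv.2, gy.symm⟩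
    have : Finite (A0.map χ : Set G) := Finite.of_surjective _ (χ.subgroupMap_surjective A0)
    refine ⟨χ, h', g, mem_normalizer_fintype ?_, gz⟩
    rintro _ ⟨k, hk, rfl⟩
    change k ∈ S
    rw [← (BD.of (by decide +kernel) : ∀ k ∈ A0, th tabA [e 1, e 2, e 4] k = k) k hk]
    refine BN.ev_mem (fun i => ?_) _
    match i with
    | 0 => exact s1
    | 1 => exact s2
    | 2 => exact s4
    | i + 3 => exact one_mem _
  obtain ⟨c, rfl⟩ := (((BD.of (by decide +kernel) : ∀ k : K0, k * k = 1 → k = 1 ∨ k = e 1 ∨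
    ∃ c, c * e 2 * c⁻¹ = k) t tt).resolve_left t1).resolve_left tz
  obtain ⟨y, rfl⟩ : ∃ y', c * y' * c⁻¹ = y := ⟨c⁻¹ * y * c, by group⟩
  have cz := conj_of_comm (zc0 c)
  rcases (BD.of (by decide +kernel) : ∀ y : K0, y * y = 1 → Commute (e 2) y → y = 1 ∨ y = e 1 ∨ y = e 2 ∨
    y = e 1 * e 2 ∨ ∃ v : K0, (v = 1 ∨ v = e 1 ∨ v = e 2 ∨ v = e 1 * e 2) ∧ (y = e 4 * v ∨ y = e 5 * v)) y
      (by simpa [conj_mul] using yy) (by simpa [mul_assoc] using ty.map (MulAut.conj c⁻¹)) with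
      rfl | rfl | rfl | rfl | ⟨v, hv, a | a⟩
  · simp at y1
  · exact absurd cz y2
  · exact absurd rfl y3
  · exact absurd (by rw [← conj_mul, cz]) y4
  · exact fin (MulAut.conj c).toMonoidHom cz (h.comp _ cz c rfl (Or.inl rfl)) rfl v hv (a ▸ rfl)
  obtain ⟨α, hα⟩ := link_hom link0 (x := tup (es [1, 2, 3, 5, 4, 121, 220, 57, 92] : List K0))
    (sat_tup (by decide) (BD.of (by decide +kernel)) (BD.of (by decide +kernel)))
  have ea : ∀ (W : List ℕ) (a b : K0), BN.ev (tup l0) W = a ∧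
      BN.ev (tup (es [1, 2, 3, 5, 4, 121, 220, 57, 92])) W = b → α a = b := fun W a b c => by
    rw [← c.1, hα, c.2]
  have a1 := ea [0] (e 1) (e 1) (BD.of (by decide +kernel))
  have a2 := ea [1] (e 2) (e 2) (BD.of (by decide +kernel))
  have a3 : ((MulAut.conj c).toMonoidHom.comp α) (e 1) = e 1 := (congrArg (MulAut.conj c) a1).trans cz
  refine fin _ a3 (h.comp _ a3 c (congrArg (MulAut.conj c) (ea [1, 2] _ _ (BD.of (by decide +kernel))))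
    (Or.inr ((congrArg (MulAut.conj c) (ea [3, 4] _ (e 17)⁻¹ (BD.of (by decide +kernel)))).trans
      (map_inv _ _)))) (by simp [a2]) v hv ?_
  have : α (e 4 * v) = e 5 * v := by
    rw [map_mul, ea [3] (e 4) (e 5) (BD.of (by decide +kernel))]
    rcases hv with rfl | rfl | rfl | rfl <;> simp [a1, a2]
  rw [MonoidHom.comp_apply, this, ← a]
  rfl

theorem exists_pre0 [Finite G] (d₁ d₂ : S3 →* G) (n1 : d₁ (-1) ≠ 1) (ez : d₂ (-1) = d₁ (-1))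
    (hc : ∀ x y, Commute (d₁ x) (d₂ y))
    (c1 : ∀ g, Commute g (d₁ (-1)) → ∀ x, g * d₁ x * g⁻¹ ∈ d₁.range)
    (hidx : (d₁.range ⊔ d₂.range).relIndex (centralizer {d₁ (-1)}) = 2) :
    ∃ ψ : K0 →* G, Pre0 ψ ∧ ψ (e 1) = d₁ (-1) ∧ ψ.range = d₁.range ⊔ d₂.range := by
  have z2 : d₁ (-1) * d₁ (-1) = 1 := by rw [← map_mul, neg_mul_neg, one_mul, map_one]
  let d := d₁.noncommCoprod d₂ hc
  have dd : ∀ x y, d (x, y) = d₁ x * d₂ y := fun x y => rfl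
  have hm : d (-1, -1) = 1 := by rw [dd, ez, z2]
  obtain ⟨ψ, hψ⟩ := link_hom link0 (sat_ker (l := lp) hm (by decide) (by decide +kernel))
  simp only [← BN.map_ev] at hψ
  have key : ∀ W x y, BN.ev (tup lp) W = (x, y) → ψ (BN.ev (tup l0) W) = d₁ x * d₂ y :=
    fun W x y a => (hψ W).trans (by rw [a, dd])
  have key' : ∀ W x y, BN.ev (tup lp) W = (x, y) → d₁ x * d₂ y ∈ ψ.range := fun W x y a =>
    ⟨_, key W x y a⟩
  have pz : ψ (e 1) = d₁ (-1) := by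
    rw [← (BD.of (by decide +kernel) : BN.ev (tup l0) [0] = e 1), key _ 1 (-1) (by decide +kernel),
      map_one, one_mul, ez]
  have hr : ψ.range = d₁.range ⊔ d₂.range := by
    refine le_antisymm ?_ (sup_le ?_ ?_)
    · rintro _ ⟨k, rfl⟩
      obtain ⟨W, rfl⟩ := (BN.mem_gen_iff link0.sat.inv k).1 (link0.top ▸ mem_top k)
      rw [hψ]
      exact mul_mem_sup ⟨_, rfl⟩ ⟨_, rfl⟩
    · rintro _ ⟨x, rfl⟩
      exact S3_gen (H := ψ.range.comap d₁)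
        (by simpa using key' [7, 5] ma 1 (by decide +kernel))
        (by simpa using key' [8, 6, 2, 1] mb 1 (by decide +kernel)) x
    · rintro _ ⟨x, rfl⟩
      exact S3_gen (H := ψ.range.comap d₂)
        (by simpa using key' [7, 2, 6, 1, 0] 1 ma (by decide +kernel))
        (by simpa using key' [4, 8, 2, 5] 1 mb (by decide +kernel)) x
  refine ⟨ψ, ⟨inj_of (pz ▸ n1), by rw [hr, pz, hidx], fun g hg => ?_⟩, pz, hr⟩
  obtain ⟨x, a⟩ := c1 g (pz ▸ hg) (BN.ev (tup lp) [1, 2]).1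
  rw [← (BD.of (by decide +kernel) : BN.ev (tup l0) [1, 2] = e 13),
    ← (BD.of (by decide +kernel) : BN.ev (tup l0) [3, 4] = e 17),
    key _ (BN.ev (tup lp) [1, 2]).1 1 (by decide +kernel),
    key _ (-1) (BN.ev (tup lp) [3, 4]).2 (by decide +kernel), map_one, mul_one, ← a, ← ez]
  exact (hc _ _).mul_right (hc _ _)

/-- Recognition of `G₂(3)` from the centraliser and an element normalising an eight-group. -/
theorem recog [Finite G] (d₁ d₂ : S3 →* G) (n1 : d₁ (-1) ≠ 1) (ez : d₂ (-1) = d₁ (-1))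
    (hc : ∀ x y, Commute (d₁ x) (d₂ y))
    (c1 : ∀ g, Commute g (d₁ (-1)) → ∀ x, g * d₁ x * g⁻¹ ∈ d₁.range)
    (hidx : (d₁.range ⊔ d₂.range).relIndex (centralizer {d₁ (-1)}) = 2) {t y g : G}
    (tY : t ∈ d₁.range ⊔ d₂.range) (yY : y ∈ d₁.range ⊔ d₂.range) (tt : t * t = 1) (t1 : t ≠ 1)
    (tz : t ≠ d₁ (-1)) (yy : y * y = 1) (ty : Commute t y) (y1 : y ≠ 1) (y2 : y ≠ d₁ (-1)) (y3 : y ≠ t)
    (y4 : y ≠ d₁ (-1) * t) (gz : g * d₁ (-1) * g⁻¹ = t) (gt : g * t * g⁻¹ = d₁ (-1))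
    (gy : g * y * g⁻¹ = y) : Nonempty (G ≃* Lie.chevG2.group (ZMod 3)) := by
  obtain ⟨ψ, h, pz, hr⟩ := exists_pre0 d₁ d₂ n1 ez hc c1 hidx
  rw [← hr] at tY yY
  obtain ⟨t, rfl⟩ := tY
  obtain ⟨y, rfl⟩ := yY
  rw [← pz] at tz y2 y4 gz gt
  obtain ⟨ψ', h'⟩ := h.std' (t := t) (y := y) (h.inj (by simpa using tt)) (fun e => t1 (by simp [e]))
    (fun e => tz (by rw [e])) (h.inj (by simpa using yy)) (h.inj (by simpa only [map_mul] using ty.eq))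
    (fun e => y1 (by simp [e])) (fun e => y2 (by rw [e])) (fun e => y3 (by rw [e]))
    (fun e => y4 (by rw [e, map_mul])) gz gt gy
  obtain ⟨φ, n, h⟩ := h'.exists_fr
  obtain ⟨f⟩ := h.main
  exact ⟨f.trans Spor.ModelG23.equiv.symm⟩

end Cfsg.Agent.G23

namespace Cfsg.Agent.FW

open Cfsg.Agent.KSG.M2 hiding dg coe_dg
open Cfsg.Agent.KSG Cfsg.Agent.RootSub
open Cfsg.Agent.Comm.Hex (coe_ww)
open scoped MatrixGroups

variable {F K G : Type*} [Field F] [Field K] [Group G] {φ : SL(2, F) →* G} {ψ : SL(2, K) →* G}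

theorem Pre.mem_sup (h : Pre φ ψ) {c : G} : c ∈ φ.range ⊔ ψ.range ↔ ∃ A B, c = φ A * ψ B := by
  refine ⟨fun hc => ?_, fun ⟨A, B, e⟩ => e ▸ Subgroup.mul_mem_sup ⟨A, rfl⟩ ⟨B, rfl⟩⟩
  have : φ.range ⊔ ψ.range ≤ (φ.noncommCoprod ψ h.comm).range :=
    sup_le (by rintro _ ⟨A, rfl⟩; exact ⟨(A, 1), by simp⟩) (by rintro _ ⟨B, rfl⟩; exact ⟨(1, B), by simp⟩)
  obtain ⟨⟨A, B⟩, e⟩ := this hc
  exact ⟨A, B, e.symm⟩

theorem Pre.mem_sup_iff (h : Pre φ ψ) {c : G} {M : GL (Fin 2) F} {M' : GL (Fin 2) K} (a : ActG φ c M)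
    (b : ActG ψ c M') : c ∈ φ.range ⊔ ψ.range ↔ IsSquare M.1.det := by
  rw [h.mem_sup]
  refine ⟨fun ⟨A, B, e⟩ => ?_, fun hs => ?_⟩
  · exact ((e ▸ h.act_mulφ A B).sq_iff h.φ_inj a).1 (sq_det_tg A)
  · obtain ⟨A, B, -, -, -, -, -, -, e⟩ := h.inner a b hs
    exact ⟨A, B, e⟩

variable [Fintype F] [Fintype K]

/-- `L₁ L₂` has index two in the group of elements acting linearly. -/
theorem Pre.relIndex_Hl (h : Pre φ ψ) : (φ.range ⊔ ψ.range).relIndex (Hl φ ψ) = 2 := by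
  obtain ⟨t, N, N', a, b, s⟩ := h.out
  refine Subgroup.index_eq_two_iff.2 ⟨⟨t, N, N', a, b⟩, fun ⟨c, M, M', a', b'⟩ => ?_⟩
  rw [Subgroup.mem_subgroupOf, Subgroup.mem_subgroupOf, h.mem_sup_iff a' b']
  change Xor (c * t ∈ _) _
  rw [h.mem_sup_iff (a'.mul a) (b'.mul b), sq_det_mul]
  unfold Xor
  tauto

/-- Some inner involution inverting the torus is fused by `ρ` to an inner involution. -/
theorem Tv.exists_fuse_inner [Finite G] {t : G} {m : GL (Fin 2) F} {m' : GL (Fin 2) K} (h : Tv φ ψ t m m')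
    {ρ : G} (hj : ρ * φ (-1) * ρ⁻¹ = t) (ht : ρ * t * ρ⁻¹ = φ (-1) * t) :
    ∃ (A : SL(2, F)) (B : SL(2, K)), Anti (tg A) m ∧ Anti (tg B) m' ∧
      ρ * (φ A * ψ B) * ρ⁻¹ ∈ φ.range ⊔ ψ.range := by
  by_contra! hn
  obtain ⟨W, hW⟩ := exists_anti h.pre.twoF h.tr1
  obtain ⟨W', hW'⟩ := exists_anti h.pre.twoK h.tr2
  have key : ∀ {A B}, Anti (tg A) m → Anti (tg B) m' →
      ∃ M, ActG φ (ρ * (φ A * ψ B) * ρ⁻¹) M ∧ ¬ IsSquare M.1.det := fun {A B} hA hB => by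
    obtain ⟨M, M', a, b⟩ := h.conj_H (fun y a b => (h.rho_comm hj ht a b).1)
      ⟨_, _, h.pre.act_mulφ A B, h.pre.act_mulψ A B⟩ (h.anti_comm hA hB)
    exact ⟨M, a, fun s => hn A B hA hB ((h.pre.mem_sup_iff a b).2 s)⟩
  have := h.pre.odd_of_inv (ρ := ρ) (hj ▸ h.t_ne_j)
    (S := {x | ∃ A B, Commute (φ A) t ∧ Commute (ψ B) t ∧ x = φ A * ψ B})
    (fun x ⟨A, B, hA, hB, e⟩ => ⟨A, B, ⟨A, 1, hA, by simp, by simp⟩, ⟨1, B, by simp, hB, by simp⟩, e⟩)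
    (fun x ⟨A, B, hA, hB, e⟩ => by
      obtain ⟨M, a, s⟩ := key hW hW'
      obtain ⟨M', a', s'⟩ := key (map_mul tg W A ▸ hW.mul_comm (h.comm_φ.1 hA))
        (map_mul tg W' B ▸ hW'.mul_comm (h.comm_ψ.1 hB))
      refine h.inner (h.rho_mem hj ht (e ▸ mul_mem (h.φ_mem hA) (h.ψ_mem hB))) (M := M⁻¹ * M') ?_
        (by rw [sq_det_mul, sq_det_inv]; tauto)
      convert a.inv.mul a' using 1
      rw [e, map_mul, map_mul, mul_assoc (φ W), ← mul_assoc (φ A), (h.pre.comm A W').eq]; group)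
    (φ (-1)) ⟨-1, 1, h.tj.symm, by simp, by simp⟩
  exact h.pre.j_ne (eq_one_of_odd (k := 1) this (by rw [pow_one, sq, h.pre.j_mul_j]))

/-- An eight-group in `L₁ L₂` normalised by an element moving `j`. -/
theorem Good.exists_eight [Finite G] (h : Good φ ψ) : ∃ t ∈ φ.range ⊔ ψ.range, ∃ y ∈ φ.range ⊔ ψ.range,
    ∃ g : G, t * t = 1 ∧ t ≠ 1 ∧ t ≠ φ (-1) ∧ y * y = 1 ∧ Commute t y ∧ y ≠ 1 ∧ y ≠ φ (-1) ∧ y ≠ t ∧
      y ≠ φ (-1) * t ∧ g * φ (-1) * g⁻¹ = t ∧ g * t * g⁻¹ = φ (-1) ∧ g * y * g⁻¹ = y := by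
  have p := h.pre
  have w1 : (ww : SL(2, F)).1.trace = 0 := by simp [coe_ww]
  have w2 : (ww : SL(2, K)).1.trace = 0 := by simp [coe_ww]
  have v : Tv φ ψ (φ ww * ψ ww) (tg ww) (tg ww) :=
    ⟨p, by
      rw [← sq, (p.comm _ _).mul_pow, sq, sq, ← map_mul, ← map_mul, SL_sq_eq_neg_one_iff.2 w1,
        SL_sq_eq_neg_one_iff.2 w2, p.neg, p.j_mul_j], p.act_mulφ _ _, p.act_mulψ _ _, w1, w2⟩
  have tY : φ ww * ψ ww ∈ φ.range ⊔ ψ.range := p.mem_sup.2 ⟨_, _, rfl⟩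
  generalize φ ww * ψ ww = t at v tY
  obtain ⟨ρ, hj, ht⟩ := h.fus t v.tt v.t_ne_one v.t_ne_j v.tj
  obtain ⟨A, B, hA, hB, hY⟩ := v.exists_fuse_inner hj ht
  have hT : ρ * (φ A * ψ B) * ρ⁻¹ ∉ Tr φ ψ (tg ww) (tg ww) := fun e =>
    v.anti_not_mem hA B (by simpa [mul_assoc] using v.rho_inv_mem hj ht e)
  have cc := v.rho_comm hj ht (p.act_mulφ A B).comm_j (v.anti_comm hA hB)
  have e1 := v.anti_conj hA
  have e2 : φ A * φ (-1) * (φ A)⁻¹ = φ (-1) := by rw [(p.comm_jφ A).eq, mul_inv_cancel_right]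
  have cj : ∀ x, ρ * φ A * ρ⁻¹ * (ρ * x * ρ⁻¹) * (ρ * φ A * ρ⁻¹)⁻¹ = ρ * (φ A * x * (φ A)⁻¹) * ρ⁻¹ :=
    fun x => by group
  refine ⟨φ (-1) * t, mul_mem (Subgroup.mem_sup_left ⟨_, rfl⟩) tY, _, hY, ρ * φ A * ρ⁻¹, v.jt.tt,
    v.jt.t_ne_one, v.jt.t_ne_j, by rw [conj_mul, v.anti_mul_sq hA hB]; simp,
    (cc.1.mul_right cc.2).symm, fun e => hT (e ▸ one_mem _), fun e => hT (e ▸ v.j_mem),
    fun e => hT (e ▸ v.jt.t_mem), fun e => hT (e ▸ v.jt.jt.t_mem), ?_, ?_, ?_⟩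
  · conv_lhs => rw [← v.rho_jt hj ht, cj, ← conj_mul (a := φ (-1)) (b := φ A), e1, e2, ← mul_assoc (φ (-1)), p.j_mul_j, one_mul, ht]
  · conv_lhs => rw [← ht, cj, e1, v.rho_jt hj ht]
  · rw [cj, ((Commute.refl (φ A)).mul_right (p.comm A B)).eq, mul_inv_cancel_right]

omit [Fintype K] in
theorem aut_three (hF : Fintype.card F = 3) (σ : F ≃+* F) : σ = 1 := by
  have : Fact (Nat.Prime 3) := ⟨Nat.prime_three⟩
  let f : ZMod 3 ≃+* F := FiniteField.ringEquivOfCardEq (by rw [hF, ZMod.card])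
  refine RingEquiv.ext fun x => ?_
  obtain ⟨x, rfl⟩ := f.surjective x
  exact RingHom.congr_fun (RingHom.ext_zmod ((σ : F →+* F).comp f) f) x

omit [Fintype F] [Fintype K] in
theorem range_comp_map {R : Type*} [CommRing R] (f : R ≃+* F) (φ : SL(2, F) →* G) :
    (φ.comp (Matrix.SpecialLinearGroup.map (f : R →+* F))).range = φ.range := by
  rw [MonoidHom.range_comp, MonoidHom.range_eq_top.2, ← MonoidHom.range_eq_map]
  exact fun A => ⟨Matrix.SpecialLinearGroup.map (f.symm : F →+* R) A, by ext i j; simp⟩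

omit [Fintype F] [Fintype K] in
theorem comp_map_neg {R : Type*} [CommRing R] (f : R ≃+* F) (φ : SL(2, F) →* G) :
    φ.comp (Matrix.SpecialLinearGroup.map (f : R →+* F)) (-1) = φ (-1) := by
  rw [MonoidHom.comp_apply]
  congr 1
  ext i j; fin_cases i <;> fin_cases j <;> simp

theorem three {F K G : Type*} [Field F] [Fintype F] [Field K] [Fintype K] [Group G] [Finite G]
    {φ : SL(2, F) →* G} {ψ : SL(2, K) →* G} (h : Good φ ψ) (hF : Fintype.card F = 3) (hK : Fintype.card K = 3) :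
    (φ.range ⊔ ψ.range).relIndex (Subgroup.centralizer ({φ (-1)} : Set G)) = 2 ∧
      Nonempty (G ≃* ↥(Cfsg.Lie.chevG2.group F)) := by
  have hH : ∀ c, Commute c (φ (-1)) → c ∈ Hl φ ψ := fun c hc => by
    obtain ⟨M, σ, M', σ', a, b, -⟩ := h.act c hc
    rw [aut_three hF σ] at a
    rw [aut_three hK σ'] at b
    exact ⟨M, M', actS_one.1 a, actS_one.1 b⟩
  have hC : Subgroup.centralizer ({φ (-1)} : Set G) = Hl φ ψ := Subgroup.ext fun c =>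
    ⟨fun hc => hH c (Subgroup.mem_centralizer_singleton_iff.1 hc),
      fun hc => Subgroup.mem_centralizer_singleton_iff.2 (Hl.comm_j hc)⟩
  have hi : (φ.range ⊔ ψ.range).relIndex (Subgroup.centralizer ({φ (-1)} : Set G)) = 2 :=
    hC ▸ h.pre.relIndex_Hl
  refine ⟨hi, ?_⟩
  have : Fact (Nat.Prime 3) := ⟨Nat.prime_three⟩
  let f : ZMod 3 ≃+* F := FiniteField.ringEquivOfCardEq (by rw [hF, ZMod.card])
  let f' : ZMod 3 ≃+* K := FiniteField.ringEquivOfCardEq (by rw [hK, ZMod.card])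
  obtain ⟨t, tY, y, yY, g, h1, h2, h3, h4, h5, h6, h7, h8, h9, h10, h11, h12⟩ := h.exists_eight
  have r1 := range_comp_map f φ
  have r2 := range_comp_map f' ψ
  have n1 := comp_map_neg f φ
  have n2 := comp_map_neg f' ψ
  obtain ⟨e⟩ := G23.recog (φ.comp (Matrix.SpecialLinearGroup.map (f : ZMod 3 →+* F)))
    (ψ.comp (Matrix.SpecialLinearGroup.map (f' : ZMod 3 →+* K))) (n1 ▸ h.pre.j_ne)
    (n2.trans (h.neg.trans n1.symm)) (fun _ _ => h.comm _ _) (fun c hc x => by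
      obtain ⟨M, -, a, -⟩ := hH c (n1 ▸ hc)
      rw [r1, MonoidHom.comp_apply, a]
      exact ⟨_, rfl⟩) (by rw [r1, r2, n1, hi]) (t := t) (y := y) (g := g) (by rwa [r1, r2]) (by rwa [r1, r2])
    h1 h2 (n1 ▸ h3) h4 h5 h6 (n1 ▸ h7) h8 (n1 ▸ h9) (n1 ▸ h10) (n1 ▸ h11) h12
  exact ⟨e.trans (Chev.fieldEquiv _ f)⟩

end Cfsg.Agent.FW
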