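import Mathlib
import Cfsg.Agent.FW.Act

/-!
Definitions for the recognition of `PSp₄(q)`, `q` odd, from the centraliser of an involution `j`
containing two commuting `SL₂(q)`'s interchanged by an element `t`.
-/

set_option autoImplicit false

namespace Cfsg.Agent.FW

open Cfsg.Agent.RootSub Cfsg.Agent.Comm.Hex
open scoped MatrixGroups

variable {F G : Type*} [Field F] [Group G]

/-- The structure of `C(j)`, `j = φ (-1)`: `L₁ = φ(SL₂)`, `L₂ = t L₁ t⁻¹`. -/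
structure Sw0 (φ : SL(2, F) →* G) (t : G) : Prop where
  two : (2 : F) ≠ 0
  inj : Function.Injective φ
  tj : Commute t (φ (-1))
  comm : ∀ A B, Commute (φ A) (cjh t φ B)
  inter : ∀ A B, φ A = cjh t φ B → A = 1 ∨ A = -1
  ker : ∀ c, (∀ A, Commute c (φ A)) → (∀ B, Commute c (cjh t φ B)) → c = 1 ∨ c = φ (-1)
  act : ∀ c, Commute c (φ (-1)) → ∃ A σ, Odd (orderOf σ) ∧
    (ActS φ c (tg A) σ ∨ ActS φ (t⁻¹ * c) (tg A) σ)

/-- `Sw0` with the fusion of involutions. -/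
structure Sw (φ : SL(2, F) →* G) (t : G) : Prop extends Sw0 φ t where
  tt : t * t = 1
  fus : IsConj (φ (-1)) t
  nfus : ¬ IsConj (φ (-1)) (t * φ (-1))
  nfusY : ∀ A B, IsConj (φ (-1)) (φ A * cjh t φ B) → φ A * cjh t φ B = φ (-1)

/-- A quadrangle datum: long roots `±2e₁` (`φ`), `±2e₂` (`cjh t φ`), short roots `±(e₁ + e₂)` (`θ`);
the root group of `e₁ - e₂` is the conjugate of `θ (xx _)` by `cjh t φ ww`. -/
structure Quad (φ : SL(2, F) →* G) (t : G) (θ : SL(2, F) →* G) : Prop where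
  two : (2 : F) ≠ 0
  inj : Function.Injective φ
  tt : t * t = 1
  tj : Commute t (φ (-1))
  comm : ∀ A B, Commute (φ A) (cjh t φ B)
  inter : ∀ A B, φ A = cjh t φ B → A = 1 ∨ A = -1
  θ_ww : θ ww = φ ww * cjh t φ ww * t
  θ_dg : ∀ c, θ (dg c) = φ (dg c) * cjh t φ (dg c)
  θ_ne : ∀ a, θ (xx a) = 1 → a = 0
  θ_t : ∀ A, Commute t (θ A)
  θ_j : ∀ a, φ (-1) * θ (xx a) * (φ (-1))⁻¹ = θ (xx (-a))
  c_φ : ∀ a b, Commute (φ (xx a)) (θ (xx b))
  tor : ∀ c a, ∃ b, φ (dg c) * θ (xx a) * (φ (dg c))⁻¹ = θ (xx b)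
  c_short : ∀ c b, ∃ a, cjh (cjh t φ ww) θ (xx c) * θ (xx b) * (cjh (cjh t φ ww) θ (xx c))⁻¹ =
    θ (xx b) * φ (xx a)
  c_long : ∀ c s, ∃ a b, cjh (cjh t φ ww) θ (xx c) * cjh t φ (xx s) * (cjh (cjh t φ ww) θ (xx c))⁻¹ =
    cjh t φ (xx s) * θ (xx b) * φ (xx a)

/-- The group generated by a quadrangle datum. -/
def quadGen (φ : SL(2, F) →* G) (t : G) (θ : SL(2, F) →* G) : Subgroup G :=
  φ.range ⊔ (cjh t φ).range ⊔ θ.range

end Cfsg.Agent.FW
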