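import Mathlib
import Cfsg.Agent.FW.SpDef
import Cfsg.Agent.FW.HexA
import Cfsg.Agent.Chev.IsoB2
import Cfsg.Agent.Class.LowDim.Omega5

/-!
A quadrangle datum generates `PSp₄(q)`.
-/

set_option autoImplicit false
set_option linter.unusedSectionVars false

namespace Cfsg.Agent.Chev

open Cfsg.Lie

variable {F G : Type*} [Field F] [Group G] {D : ChevalleyDatum} {y : ℕ → F → G}

/-- The commutator relation for a pair of roots. -/
def StRelAt (D : ChevalleyDatum) (y : ℕ → F → G) (r s : ℕ) : Prop :=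
  ∀ t u : F, y s u * y r t = y r t * y s u * word y (D.commWord F r s t u)

/-- A signed permutation of the roots compatible with the commutator table. -/
def SgnSym (D : ChevalleyDatum) (π : ℕ → ℕ) (η : ℕ → ℤ) : Prop :=
  ∀ r < D.nroots, η r * η r = 1 ∧ ∀ s < D.nroots, (∀ c ∈ D.commTerms r s, c.1 < D.nroots) ∧
    D.commTerms (π r) (π s) =
      (D.commTerms r s).map fun c => (π c.1, η c.1 * c.2.1 * η r ^ c.2.2.1 * η s ^ c.2.2.2, c.2.2)

set_option synthInstance.maxSize 1000 in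
instance instDecSgnSym (D : ChevalleyDatum) (π : ℕ → ℕ) (η : ℕ → ℤ) : Decidable (SgnSym D π η) := by
  unfold SgnSym; infer_instance

theorem StRelAt.transfer {π : ℕ → ℕ} {η : ℕ → ℤ} (hs : SgnSym D π η) {g : G}
    (hg : ∀ r < D.nroots, ∀ t, g * y r t * g⁻¹ = y (π r) (η r * t)) {r s : ℕ} (hr : r < D.nroots)
    (hs' : s < D.nroots) (h : StRelAt D y r s) : StRelAt D y (π r) (π s) := fun t u => by
  have e : ∀ k < D.nroots, ∀ a : F, (η k : F) * (η k * a) = a := fun k hk a => by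
    rw [← mul_assoc, ← Int.cast_mul, (hs k hk).1, Int.cast_one, one_mul]
  have key : ∀ l : List (ℕ × ℤ × ℕ × ℕ), (∀ c ∈ l, c.1 < D.nroots) →
      g * word y (l.map fun c => (c.1, (c.2.1 : F) * (-(η r * t)) ^ c.2.2.1 * (η s * u) ^ c.2.2.2)) * g⁻¹ =
        word y ((l.map fun c => (π c.1, η c.1 * c.2.1 * η r ^ c.2.2.1 * η s ^ c.2.2.2, c.2.2)).map
          fun c => (c.1, (c.2.1 : F) * (-t) ^ c.2.2.1 * u ^ c.2.2.2)) := fun l hl => by
    induction l with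
    | nil => simp
    | cons c l ih =>
      simp only [List.map_cons, word_cons]
      rw [← conj_mul, hg _ (hl c (by simp)), ih fun c hc => hl c (by simp [hc])]
      congr 2
      push_cast
      rw [← mul_neg, mul_pow, mul_pow]; ring
  have := congrArg (fun x => g * x * g⁻¹) (h (η r * t) (η s * u))
  simp only [← conj_mul, hg _ hr, hg _ hs', e _ hr, e _ hs'] at this
  rw [this, ChevalleyDatum.commWord, ChevalleyDatum.commWord, key _ ((hs r hr).2 s hs').1, ((hs r hr).2 s hs').2]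

end Cfsg.Agent.Chev

namespace Cfsg.Agent.FW.Quad

open Cfsg.Agent.RootSub Cfsg.Agent.Comm.Hex Cfsg.Agent.Chev Cfsg.Lie
open scoped MatrixGroups

variable {F G : Type*} [Field F] [Group G] {φ θ : SL(2, F) →* G} {t : G}

local notation "ψ" => cjh t φ
local notation "j" => φ (-1)
local notation "θ'" => cjh (cjh t φ ww) θ

theorem cj_hom (π : SL(2, F) →* G) {A B C : SL(2, F)} (e : A * B * A⁻¹ = C) : π A * π B * (π A)⁻¹ = π C := by
  rw [← e, map_mul, map_mul, map_inv]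

theorem x_add (π : SL(2, F) →* G) (a b : F) : π (xx (a + b)) = π (xx a) * π (xx b) := by
  rw [← map_mul, xx_mul]

theorem x_neg (π : SL(2, F) →* G) (a : F) : π (xx (-a)) = (π (xx a))⁻¹ := by rw [← map_inv, xx_inv]

theorem y_neg (π : SL(2, F) →* G) (a : F) : π (yy (-a)) = (π (yy a))⁻¹ := by rw [← map_inv, yy_inv]

theorem x_zero (π : SL(2, F) →* G) : π (xx 0) = 1 := by rw [xx_zero, map_one]

theorem cj_of_comm {a b : G} (h : Commute a b) : a * b * a⁻¹ = b := by rw [h.eq, mul_inv_cancel_right]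

theorem comm_cj {a b : G} (h : Commute a b) (g : G) : Commute (g * a * g⁻¹) (g * b * g⁻¹) :=
  h.map (MulAut.conj g).toMonoidHom

variable (h : Quad φ t θ)
include h

theorem t_ψ (A : SL(2, F)) : t * ψ A * t⁻¹ = φ A := by
  rw [← cjh_apply, cjh_cjh, h.tt, cjh_one]

theorem ψ_neg : ψ (-1) = j := cj_of_comm h.tj

theorem φ_j (A : SL(2, F)) : Commute (φ A) j := h.ψ_neg ▸ h.comm A (-1)

theorem ψ_j (A : SL(2, F)) : Commute (ψ A) j := (h.comm (-1) A).symm

theorem j_j : j * j = 1 := by rw [← map_mul]; simp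

theorem w2_w2 : ψ ww * ψ ww = j := by rw [← map_mul, ww_sq, h.ψ_neg]

theorem t_θ (A : SL(2, F)) : t * θ A * t⁻¹ = θ A := cj_of_comm (h.θ_t A)

theorem θww_j : Commute (θ ww) j := by
  rw [h.θ_ww]; exact ((h.φ_j _).mul_left (h.ψ_j _)).mul_left h.tj

theorem j_θy (a : F) : j * θ (yy a) * j⁻¹ = θ (yy (-a)) := by
  rw [← cj_hom θ (ww_conj_xx a), ← neg_neg a, ← cj_hom θ (ww_conj_xx (-a)), ← conj_mul, ← conj_mul, h.θ_j,
    cj_of_comm h.θww_j.symm, cj_of_comm h.θww_j.symm.inv_right]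

theorem w2_q (a : F) : ψ ww * θ' (xx a) * (ψ ww)⁻¹ = θ (xx (-a)) := by
  rw [← cjh_apply, cjh_cjh, h.w2_w2, cjh_apply, h.θ_j]

theorem w2_q' (a : F) : ψ ww * θ' (yy a) * (ψ ww)⁻¹ = θ (yy (-a)) := by
  rw [← cjh_apply, cjh_cjh, h.w2_w2, cjh_apply, h.j_θy]

theorem j_q (a : F) : j * θ' (xx a) * j⁻¹ = θ' (xx (-a)) := by
  rw [cjh_apply, ← conj_mul, ← conj_mul, h.θ_j, cj_of_comm (h.ψ_j _).symm,
    cj_of_comm (h.ψ_j _).symm.inv_right, cjh_apply (ψ ww)]

theorem θ'_ww : θ' ww = j * t := by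
  have : t * (ψ ww)⁻¹ = (φ ww)⁻¹ * t := by rw [← h.t_ψ ww]; group
  rw [cjh_apply, h.θ_ww, ← mul_assoc, ← mul_assoc, ← (h.comm ww ww).eq, mul_assoc (φ ww), h.w2_w2, mul_assoc,
    this, ← mul_assoc, cj_of_comm (h.φ_j _)]

theorem θ'_dg (c : Fˣ) : θ' (dg c) = φ (dg c) * ψ (dg c⁻¹) := by
  rw [cjh_apply, h.θ_dg, ← conj_mul, cj_of_comm (h.comm _ _).symm, cj_hom ψ (ww_dg c)]

theorem t_q (a : F) : t * θ' (xx a) * t⁻¹ = θ' (yy a) := by
  have e := cj_hom θ' (ww_conj_xx (-a))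
  rw [neg_neg, h.θ'_ww, h.tj.symm.eq, mul_inv_rev, ← mul_assoc, mul_assoc t, mul_assoc t, h.j_q, neg_neg] at e
  exact e

theorem t_q' (a : F) : t * θ' (yy a) * t⁻¹ = θ' (xx a) := by
  rw [← h.t_q, ← cjh_apply, ← cjh_apply, cjh_cjh, h.tt, cjh_one]

theorem c_ψ (a b : F) : Commute (ψ (xx a)) (θ (xx b)) := by
  have := comm_cj (h.c_φ a b) t
  rwa [h.t_θ] at this

theorem c_φq (a b : F) : Commute (φ (xx a)) (θ' (xx b)) := by
  have := comm_cj (h.c_φ a b) (ψ ww)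
  rwa [cj_of_comm (h.comm _ _).symm] at this

theorem c_ψq (a b : F) : Commute (ψ (yy a)) (θ' (xx b)) := by
  have := comm_cj (h.c_ψ (-a) b) (ψ ww)
  rwa [cj_hom ψ (ww_conj_xx _), neg_neg] at this

theorem c_ψq' (a b : F) : Commute (ψ (xx a)) (θ' (yy b)) := by
  have := comm_cj (h.c_φq a b) t
  rwa [h.t_q] at this

theorem θ_inj {a b : F} (e : θ (xx a) = θ (xx b)) : a = b :=
  sub_eq_zero.1 (h.θ_ne _ (by rw [sub_eq_add_neg, x_add, e, x_neg, mul_inv_cancel]))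

theorem eq_zero_of_j {a : F} (e : Commute j (θ (xx a))) : a = 0 := by
  have := h.θ_inj ((cj_of_comm e).symm.trans (h.θ_j a))
  exact (mul_eq_zero.1 (by linear_combination this)).resolve_left h.two

theorem eq_zero_of_j' {a : F} (e : Commute j (θ' (xx a))) : a = 0 := by
  have := comm_cj e (ψ ww)
  rw [cj_of_comm (h.ψ_j _), h.w2_q] at this
  exact neg_eq_zero.1 (h.eq_zero_of_j this)

theorem nd1 {a b c a' b' c' : F} (e : ψ (xx a) * θ (xx b) * φ (xx c) = ψ (xx a') * θ (xx b') * φ (xx c')) :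
    a = a' ∧ b = b' ∧ c = c' := by
  have e1 : θ (xx (-b' + b)) = ψ (xx (-a + a')) * φ (xx (c' + -c)) := by
    rw [x_add, x_add, x_add, x_neg, x_neg, x_neg, inv_mul_eq_iff_eq_mul, ← mul_assoc, ← mul_assoc, ← mul_assoc,
      ← (h.c_ψ a b').inv_left.eq, mul_assoc _ (θ (xx b')), ← (h.c_ψ a' b').eq, mul_assoc (ψ (xx a))⁻¹, ← e]
    group
  have e2 := h.eq_zero_of_j (e1 ▸ (h.ψ_j _).symm.mul_right (h.φ_j _).symm)
  rw [e2, x_zero, eq_comm, mul_eq_one_iff_eq_inv, ← x_neg] at e1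
  have e3 : -(c' + -c) = 0 := by
    rcases h.inter _ _ e1.symm with e3 | e3
    · exact xx_injective (e3.trans xx_zero.symm)
    · have := congrArg (fun A : SL(2, F) => A.1 0 0) e3
      simp at this
      exact absurd (by linear_combination this) h.two
  rw [e3, x_zero, ← x_zero ψ] at e1
  have e4 := xx_injective (cjh_inj h.inj t e1)
  exact ⟨by linear_combination -e4, by linear_combination e2, by linear_combination e3⟩

theorem nd2 {a b c a' b' c' : F} (e : θ (xx a) * φ (xx b) * θ' (xx c) = θ (xx a') * φ (xx b') * θ' (xx c')) :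
    a = a' ∧ c = c' := by
  have e1 : θ (xx (-a' + a)) = φ (xx b') * θ' (xx (c' + -c)) * (φ (xx b))⁻¹ := by
    rw [x_add, x_add, x_neg, x_neg, inv_mul_eq_iff_eq_mul, ← mul_assoc, ← mul_assoc, ← mul_assoc, ← e]
    group
  have e2 : Commute j (θ (xx (-a' + a))) := by
    have : (Subgroup.centralizer {θ (xx (-a' + a))}).comap ψ = ⊤ := sl2_eq_top
      (fun r => Subgroup.mem_centralizer_singleton_iff.2 (h.c_ψ r _)) fun r =>
        Subgroup.mem_centralizer_singleton_iff.2 (e1 ▸ ((h.comm _ _).symm.mul_right (h.c_ψq r _)).mul_right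
          (h.comm _ _).symm.inv_right)
    exact h.ψ_neg ▸ Subgroup.mem_centralizer_singleton_iff.1 (this.ge (Subgroup.mem_top (-1)))
  have e3 := h.eq_zero_of_j e2
  rw [e3, x_zero, eq_mul_inv_iff_mul_eq, one_mul, ← inv_mul_eq_iff_eq_mul] at e1
  have e4 := h.eq_zero_of_j' (e1 ▸ (h.φ_j _).symm.inv_right.mul_right (h.φ_j _).symm)
  exact ⟨by linear_combination e3, by linear_combination -e4⟩

theorem long_α {c s a b : F} (e : θ' (xx c) * ψ (xx s) * (θ' (xx c))⁻¹ = ψ (xx s) * θ (xx b) * φ (xx a)) :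
    a = c ^ 2 * s := by
  by_cases hc : c = 0
  · rw [hc, ← (h.nd1 (a := s) (b := 0) (c := 0) (Eq.trans (by simp [hc, x_zero]) e)).2.2]; ring
  lift c to Fˣ using Ne.isUnit hc
  obtain ⟨a', b', e'⟩ := h.c_long (c : F)⁻¹ (c ^ 2 * s)
  have e1 := congrArg (fun x => t * x * t⁻¹) e'
  simp only [← conj_mul, ← conj_inv, h.t_q, h.t_ψ, h.t_θ, ← cjh_apply t φ] at e1
  have e2 : θ' (xx (c : F)) = θ' (yy (c : F)⁻¹) * (φ (dg c) * ψ (dg c⁻¹) * (j * t)) * θ' (yy (c : F)⁻¹) := by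
    rw [← h.θ'_dg, ← h.θ'_ww, ← map_mul, ← w_eq', map_mul, map_mul, y_neg]; group
  have e3 : φ (dg c) * ψ (dg c⁻¹) * (j * t) * ψ (xx s) * (φ (dg c) * ψ (dg c⁻¹) * (j * t))⁻¹ =
      φ (xx (c ^ 2 * s)) := by
    rw [← cj_hom φ (dg_xx c s), ← cj_of_comm (h.comm (xx s) (dg c⁻¹)).symm, ← cj_of_comm (h.φ_j (xx s)).symm,
      ← h.t_ψ (xx s)]
    group
  have e4 : θ' (xx (c : F)) * ψ (xx s) * (θ' (xx (c : F)))⁻¹ =
      θ' (yy (c : F)⁻¹) * φ (xx (c ^ 2 * s)) * (θ' (yy (c : F)⁻¹))⁻¹ := by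
    rw [← e3, e2]
    nth_rewrite 2 [← cj_of_comm (h.c_ψq' s (c : F)⁻¹).symm]
    group
  rw [e4, e1, (h.c_φ _ _).eq, mul_assoc, (h.comm _ _).eq, ← mul_assoc, ← (h.c_ψ _ _).eq] at e
  exact (h.nd1 e).2.2.symm

theorem ψ_tor (c : Fˣ) (a : F) : ψ (dg c) * θ (xx a) * (ψ (dg c))⁻¹ = φ (dg c) * θ (xx a) * (φ (dg c))⁻¹ := by
  obtain ⟨b, e⟩ := h.tor c a
  have := congrArg (fun x => t * x * t⁻¹) e
  simp only [← conj_mul, ← conj_inv, h.t_θ, ← cjh_apply t φ] at this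
  rw [this, e]

theorem long_β {c a b : F} {s : Fˣ}
    (e : θ' (xx c) * ψ (xx (-s)) * (θ' (xx c))⁻¹ = ψ (xx (-s)) * θ (xx b) * φ (xx a)) :
    φ (dg s) * θ (xx (-c)) * (φ (dg s))⁻¹ = θ (xx b) := by
  obtain ⟨z, hz⟩ := h.tor s (-c)
  obtain ⟨a', b', e'⟩ := h.c_long (-z) (s : F)⁻¹
  obtain ⟨a'', e''⟩ := h.c_short b' z
  have e1 := congrArg (fun x => ψ ww * x * (ψ ww)⁻¹) e'
  simp only [← conj_mul, ← conj_inv, h.w2_q, cj_hom ψ (ww_conj_xx _), cj_of_comm (h.comm _ _).symm,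
    ← cjh_apply (ψ ww) θ, neg_neg] at e1
  have e2 : ψ (xx (s : F)) = ψ (yy (s : F)⁻¹) * (ψ (dg s) * ψ ww) * ψ (yy (s : F)⁻¹) := by
    rw [← map_mul, ← w_eq', map_mul, map_mul, y_neg]; group
  have e3 : ψ (dg s) * ψ ww * θ' (xx c) * (ψ (dg s) * ψ ww)⁻¹ = θ (xx z) := by
    rw [← hz, ← h.ψ_tor, ← h.w2_q]; group
  have e4 : ψ (xx (s : F)) * θ' (xx c) * (ψ (xx (s : F)))⁻¹ =
      ψ (yy (s : F)⁻¹) * θ (xx z) * (ψ (yy (s : F)⁻¹))⁻¹ := by
    rw [← e3, e2]
    nth_rewrite 2 [← cj_of_comm (h.c_ψq (s : F)⁻¹ c)]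
    group
  have e5 : θ (xx b) * φ (xx a) * θ' (xx c) = θ (xx z) * φ (xx (a'' + a')) * θ' (xx b') := by
    rw [x_neg] at e
    rw [y_neg] at e1
    calc _ = ψ (xx (s : F)) * θ' (xx c) * (ψ (xx (s : F)))⁻¹ := by
          rw [← inv_mul_cancel_right (ψ (xx (s : F)) * θ' (xx c) * _) (θ' (xx c)), mul_assoc _ (θ' (xx c)),
            mul_assoc (ψ (xx (s : F))), e]; group
      _ = θ' (xx b') * φ (xx a') * θ (xx z) := by
          rw [e4, ← inv_mul_cancel_right (ψ (yy (s : F)⁻¹) * θ (xx z) * _) (θ (xx z)), mul_assoc _ (θ (xx z)),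
            mul_assoc (ψ (yy (s : F)⁻¹)), e1]; group
      _ = _ := by
          rw [x_add, ← mul_assoc, ← e'', mul_assoc (θ' (xx b')), (h.c_φ _ _).eq, mul_assoc _ _ (θ' (xx b')),
            (h.c_φq _ _).eq]; group
  rw [hz, (h.nd2 e5).1]

theorem long (c s : F) :
    θ' (xx c) * ψ (xx s) * (θ' (xx c))⁻¹ = ψ (xx s) * θ (xx (s * c)) * φ (xx (c ^ 2 * s)) := by
  choose α β e using h.c_long c
  have add : ∀ s s', β (s + s') = β s + β s' := fun s s' => by
    have e1 := e (s + s')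
    rw [x_add, ← conj_mul, e, e, ← x_add] at e1
    refine (h.nd1 (a' := s + s') (c' := α s + α s') (e1.symm.trans ?_)).2.1
    rw [x_add, x_add, x_add, mul_assoc _ (φ _), ← mul_assoc (φ _), ← mul_assoc (φ _), (h.comm _ _).eq,
      mul_assoc (ψ _) (φ _), (h.c_φ _ _).eq, mul_assoc (ψ _) (θ _), ← mul_assoc (θ _), ← mul_assoc (θ _),
      ← (h.c_ψ _ _).eq]
    group
  have zero : β 0 = 0 := by simpa using add 0 0
  have sq : ∀ u, β (-u ^ 2) = -u ^ 2 * c := fun u => by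
    by_cases hu : u = 0
    · simp [hu, zero]
    lift u to Fˣ using Ne.isUnit hu
    have e1 := h.long_β (s := u * u) (e _)
    have e2 := cj_hom θ (dg_xx u (-c))
    obtain ⟨z, hz⟩ := h.tor u (-c)
    rw [h.θ_dg, mul_inv_rev, ← mul_assoc, mul_assoc (φ _), mul_assoc (φ _), h.ψ_tor] at e2
    rw [dg_mul, map_mul, mul_inv_rev, ← mul_assoc, mul_assoc (φ _), mul_assoc (φ _), e2] at e1
    rw [pow_two, ← Units.val_mul, ← h.θ_inj e1, Units.val_mul]; ring
  have hβ : β s = s * c := by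
    have e1 := add s (-((s - 1) / 2) ^ 2 - s)
    have e2 := add (-((s + 1) / 2) ^ 2) s
    have e3 : -((s + 1) / 2) ^ 2 + s = -((s - 1) / 2) ^ 2 := by have := h.two; field_simp; ring
    rw [e3, sq, sq] at e2
    linear_combination -e2 - c * e3
  rw [e, hβ, h.long_α (e s)]

theorem short (c b : F) : θ' (xx c) * θ (xx b) * (θ' (xx c))⁻¹ = θ (xx b) * φ (xx (2 * c * b)) := by
  obtain ⟨a, e⟩ := h.c_short c b
  have e1 := h.long (c + b) 1
  rw [x_add, mul_inv_rev, ← mul_assoc, mul_assoc (θ' _), mul_assoc (θ' _), h.long, ← conj_mul, ← conj_mul, h.long,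
    cj_of_comm (h.c_φq _ _).symm, one_mul, one_mul, e] at e1
  have e2 := (h.nd1 (a := 1) (b := c + b) (c := c ^ 2 * 1 + a + b ^ 2 * 1) (Eq.trans (by
    rw [x_add, x_add, x_add, mul_assoc _ (φ _) (θ _ * φ _), ← mul_assoc (φ _), (h.c_φ _ _).eq]; group) e1)).2.2
  rw [e, show a = 2 * c * b by linear_combination e2]

omit h in
variable (φ t θ) in
/-- The root elements. -/
def rt : ℕ → F → G
  | 0, s => φ (yy (-s))
  | 1, s => θ (yy (-s))
  | 2, s => θ' (yy s)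
  | 3, s => ψ (yy s)
  | 4, s => ψ (xx s)
  | 5, s => θ' (xx s)
  | 6, s => θ (xx (-s))
  | 7, s => φ (xx (-s))
  | _ + 8, _ => 1

omit h in
/-- A list as a function. -/
def fl {α : Type*} [Inhabited α] (l : List α) (r : ℕ) : α := l.getD r default

theorem act_w2 : ∀ r < chevB2.nroots, ∀ s, ψ ww * rt φ θ t r s * (ψ ww)⁻¹ =
    rt φ θ t (fl [0, 2, 1, 4, 3, 6, 5, 7] r) ((fl [1, -1, 1, -1, -1, 1, -1, (1 : ℤ)] r : ℤ) * s) := by
  intro r hr s
  change r < 8 at hr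
  interval_cases r <;> simp only [fl, List.getD_cons_succ, List.getD_cons_zero, rt, Int.cast_one, Int.cast_neg,
    one_mul, neg_mul]
  exacts [cj_of_comm (h.comm _ _).symm, rfl, h.w2_q' s, cj_hom ψ (ww_conj_yy s), cj_hom ψ (ww_conj_xx s),
    h.w2_q s, rfl, cj_of_comm (h.comm _ _).symm]

theorem act_t : ∀ r < chevB2.nroots, ∀ s, t * rt φ θ t r s * t⁻¹ =
    rt φ θ t (fl [3, 1, 5, 0, 7, 2, 6, 4] r) ((fl [-1, 1, 1, -1, -1, 1, 1, (-1 : ℤ)] r : ℤ) * s) := by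
  intro r hr s
  change r < 8 at hr
  interval_cases r <;> simp only [fl, List.getD_cons_succ, List.getD_cons_zero, rt, Int.cast_one, Int.cast_neg,
    one_mul, neg_mul, neg_neg]
  exacts [rfl, h.t_θ _, h.t_q' s, h.t_ψ _, h.t_ψ _, h.t_q s, h.t_θ _, rfl]

omit h in
/-- The orbits of pairs of roots. -/
def orb : ℕ → List (ℕ × ℕ)
  | 0 => [(4, 7), (6, 7), (7, 6), (5, 6), (5, 4), (4, 5)]
  | n + 1 => ((orb n).flatMap fun p => [p, (fl [0, 2, 1, 4, 3, 6, 5, 7] p.1, fl [0, 2, 1, 4, 3, 6, 5, 7] p.2),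
      (fl [3, 1, 5, 0, 7, 2, 6, 4] p.1, fl [3, 1, 5, 0, 7, 2, 6, 4] p.2)]).dedup

set_option synthInstance.maxSize 1000 in
theorem isSt0 : IsSt0 chevB2 (rt φ θ t) where
  add r hr a b := by
    change r < 8 at hr
    interval_cases r <;> simp only [rt, ← map_mul, xx_mul, yy_mul, neg_add]
  comm r s hr hs h1 h2 := by
    have s1 : SgnSym chevB2 (fl [0, 2, 1, 4, 3, 6, 5, 7]) (fl [1, -1, 1, -1, -1, 1, -1, 1]) := by decide +kernel
    have s2 : SgnSym chevB2 (fl [3, 1, 5, 0, 7, 2, 6, 4]) (fl [-1, 1, 1, -1, -1, 1, 1, -1]) := by decide +kernel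
    have lt : ∀ r < chevB2.nroots, fl [0, 2, 1, 4, 3, 6, 5, 7] r < chevB2.nroots ∧
      fl [3, 1, 5, 0, 7, 2, 6, 4] r < chevB2.nroots := by decide +kernel
    have key : ∀ n, ∀ p ∈ orb n, p.1 < chevB2.nroots ∧ p.2 < chevB2.nroots ∧
        StRelAt chevB2 (rt φ θ t) p.1 p.2 := fun n => by
      induction n with
      | zero =>
        have c : chevB2.commTerms 4 7 = [] ∧ chevB2.commTerms 6 7 = [] ∧ chevB2.commTerms 7 6 = [] ∧
            chevB2.commTerms 5 6 = [(7, 2, 1, 1)] ∧ chevB2.commTerms 5 4 = [(6, -1, 1, 1), (7, -1, 2, 1)] ∧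
            chevB2.commTerms 4 5 = [(6, 1, 1, 1), (7, -1, 1, 2)] := by decide +kernel
        simp only [orb, List.forall_mem_cons, List.not_mem_nil, IsEmpty.forall_iff, implies_true, and_true]
        refine ⟨⟨by decide, by decide, fun a b => ?_⟩, ⟨by decide, by decide, fun a b => ?_⟩,
          ⟨by decide, by decide, fun a b => ?_⟩, ⟨by decide, by decide, fun a b => ?_⟩,
          ⟨by decide, by decide, fun a b => ?_⟩, ⟨by decide, by decide, fun a b => ?_⟩⟩ <;>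
          simp only [ChevalleyDatum.commWord, c, List.map_cons, List.map_nil, word_cons, word_nil, mul_one, rt]
        · exact h.comm _ _
        · exact h.c_φ _ _
        · exact (h.c_φ _ _).symm
        · have := h.short (-a) (-b)
          rw [x_neg θ', inv_inv, mul_assoc, inv_mul_eq_iff_eq_mul, ← mul_assoc] at this
          rw [this]; congr 3; push_cast; ring
        · have := h.long (-a) b
          rw [x_neg θ', inv_inv, mul_assoc, inv_mul_eq_iff_eq_mul, ← mul_assoc, ← mul_assoc] at this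
          rw [this, mul_assoc]; congr 4 <;> push_cast <;> ring
        · have e1 := h.long b a
          have e2 := h.short b (a * b)
          rw [mul_inv_eq_iff_eq_mul] at e1 e2
          rw [e1, show -(((1 : ℤ) : F) * (-a) ^ 1 * b ^ 1) = a * b by push_cast; ring, mul_assoc (ψ _) (θ' _),
            ← mul_assoc (θ' _), e2, mul_assoc _ (θ' _), ← (h.c_φq _ _).eq, mul_assoc (θ _), ← mul_assoc (φ _),
            ← x_add, show 2 * b * (a * b) + -(((-1 : ℤ) : F) * (-a) ^ 1 * b ^ 2) = b ^ 2 * a by push_cast; ring]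
          group
      | succ n ih =>
        intro p hp
        obtain ⟨q, hq, hp⟩ := List.mem_flatMap.1 (List.mem_dedup.1 hp)
        obtain ⟨a, b, c⟩ := ih q hq
        simp only [List.mem_cons, List.not_mem_nil, or_false] at hp
        rcases hp with rfl | rfl | rfl
        exacts [⟨a, b, c⟩, ⟨(lt _ a).1, (lt _ b).1, c.transfer s1 h.act_w2 a b⟩,
          ⟨(lt _ a).2, (lt _ b).2, c.transfer s2 h.act_t a b⟩]
    exact (key 4 (r, s) ((by decide +kernel : ∀ r < chevB2.nroots, ∀ s < chevB2.nroots, s ≠ r →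
      s ≠ chevB2.neg r → (r, s) ∈ orb 4) r hr s hs h1 h2)).2.2

omit h in
theorem φ_mem (A : SL(2, F)) : φ A ∈ quadGen φ t θ :=
  Subgroup.mem_sup_left (Subgroup.mem_sup_left ⟨A, rfl⟩)

omit h in
theorem ψ_mem (A : SL(2, F)) : ψ A ∈ quadGen φ t θ :=
  Subgroup.mem_sup_left (Subgroup.mem_sup_right ⟨A, rfl⟩)

omit h in
theorem θ_mem (A : SL(2, F)) : θ A ∈ quadGen φ t θ := Subgroup.mem_sup_right ⟨A, rfl⟩

omit h in
theorem rt_mem (r : ℕ) (s : F) : rt φ θ t r s ∈ quadGen φ t θ := by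
  have : ∀ A, θ' A ∈ quadGen φ t θ := fun A => mul_mem (mul_mem (ψ_mem _) (θ_mem A)) (inv_mem (ψ_mem _))
  unfold rt
  split
  exacts [φ_mem _, θ_mem _, this _, ψ_mem _, ψ_mem _, this _, θ_mem _, φ_mem _, one_mem _]

omit h in
theorem Gs_eq : Gs chevB2 (rt φ θ t) = quadGen φ t θ := by
  refine le_antisymm (XS_le.2 fun r _ s => rt_mem r s) ?_
  have key : ∀ (π : SL(2, F) →* G) (r r' : ℕ) (ε : F → F), r < 8 → r' < 8 → (∀ s, π (xx s) = rt φ θ t r (ε s)) →
      (∀ s, π (yy s) = rt φ θ t r' (ε s)) → π.range ≤ Gs chevB2 (rt φ θ t) := fun π r r' ε a b c d => by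
    rintro _ ⟨A, rfl⟩
    exact (sl2_eq_top (H := (Gs chevB2 (rt φ θ t)).comap π) (fun s => Subgroup.mem_comap.2 (c s ▸ mem_Gs a _))
      fun s => Subgroup.mem_comap.2 (d s ▸ mem_Gs b _)).ge (Subgroup.mem_top A)
  exact sup_le (sup_le (key φ 7 0 (-·) (by decide) (by decide) (by simp [rt]) (by simp [rt]))
    (key ψ 4 3 id (by decide) (by decide) (fun _ => rfl) fun _ => rfl))
    (key θ 6 1 (-·) (by decide) (by decide) (by simp [rt]) (by simp [rt]))

omit h in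
variable (φ t θ) in
/-- The root elements in the generated group. -/
def rz (r : ℕ) (s : F) : quadGen φ t θ := ⟨rt φ θ t r s, rt_mem r s⟩

theorem isSt0_rz : IsSt0 chevB2 (rz φ θ t) :=
  IsSt0.of_injective (quadGen φ t θ).subtype Subtype.val_injective h.isSt0

omit h in
theorem Gs_rz : Gs chevB2 (rz φ θ t) = ⊤ :=
  Subgroup.map_injective (quadGen φ t θ).subtype_injective (by
    rw [map_Gs, ← MonoidHom.range_eq_map, Subgroup.range_subtype]; exact Gs_eq)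

/-- The products `L₁ L₂`. -/
def YY : Subgroup G := (φ.noncommCoprod ψ h.comm).range

theorem mem_YY {g : G} : g ∈ h.YY ↔ ∃ A B, g = φ A * ψ B :=
  ⟨fun ⟨p, e⟩ => ⟨p.1, p.2, e.symm⟩, fun ⟨A, B, e⟩ => ⟨(A, B), e.symm⟩⟩

theorem t_YY {g : G} (hg : g ∈ h.YY) : t * g * t⁻¹ ∈ h.YY := by
  obtain ⟨A, B, rfl⟩ := h.mem_YY.1 hg
  exact h.mem_YY.2 ⟨B, A, by rw [← conj_mul, h.t_ψ, (h.comm B A).eq, cjh_apply]⟩

/-- The group `L₁ L₂ ⟨t⟩`. -/
def YT : Subgroup G where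
  carrier := {g | g ∈ h.YY ∨ g * t ∈ h.YY}
  one_mem' := Or.inl (one_mem _)
  mul_mem' := by
    have ti : t⁻¹ = t := inv_eq_of_mul_eq_one_left h.tt
    rintro a b (ha | ha) (hb | hb)
    · exact Or.inl (mul_mem ha hb)
    · exact Or.inr (mul_assoc a b t ▸ mul_mem ha hb)
    · exact Or.inr (by convert mul_mem ha (h.t_YY hb) using 1; rw [ti, mul_assoc a t, ← mul_assoc t, ← mul_assoc t,
        h.tt, one_mul, mul_assoc])
    · exact Or.inl (by convert mul_mem ha (h.t_YY hb) using 1; rw [mul_assoc t, mul_inv_cancel_right, mul_assoc a,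
        ← mul_assoc t, h.tt, one_mul])
  inv_mem' := by
    rintro a (ha | ha)
    · exact Or.inl (inv_mem ha)
    · exact Or.inr (by
        convert h.t_YY (inv_mem ha) using 1
        rw [mul_inv_rev, mul_inv_cancel_left, inv_eq_of_mul_eq_one_left h.tt])

theorem YY_j {g : G} (hg : g ∈ h.YY) : Commute g j := by
  obtain ⟨A, B, rfl⟩ := h.mem_YY.1 hg
  exact (h.φ_j A).mul_left (h.ψ_j B)

theorem YT_j {g : G} (hg : g ∈ h.YT) : Commute g j :=
  hg.elim h.YY_j fun a => by simpa using (h.YY_j a).mul_left h.tj.inv_left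

omit h in
theorem hh_eq (π : SL(2, F) →* G) {r : ℕ} (h1 : ∀ s, rt φ θ t r s = π (xx s))
    (h2 : ∀ s, rt φ θ t (chevB2.neg r) s = π (yy s)) (c : Fˣ) :
    nn chevB2 (rt φ θ t) r 1 = π ww ∧ hh chevB2 (rt φ θ t) r c = π (dg c) := by
  have key : ∀ c : Fˣ, nn chevB2 (rt φ θ t) r c = π (dg c * ww) := fun c => by
    rw [nn, h1, h2, ← w_eq, map_mul, map_mul]
  refine ⟨by simpa [dg_one] using key 1, ?_⟩
  have := key (-1)
  rw [Units.val_neg, Units.val_one] at this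
  rw [hh, key, this, ← map_mul, dg_neg, neg_one_mul, mul_neg, mul_assoc, ww_sq, mul_neg, neg_neg, mul_one]

theorem Hs_le (T : RootTable chevB2) : Hs chevB2 (rt φ θ t) ≤ h.YY :=
  (h.isSt0.isSt (by simp)).Hs_le_of_simple T fun i c hc => by
    lift c to Fˣ using Ne.isUnit hc
    match i with
    | ⟨0, _⟩ => exact h.mem_YY.2 ⟨_, _, (hh_eq θ' (r := 5) (fun _ => rfl) (fun _ => rfl) c).2.trans (h.θ'_dg c)⟩
    | ⟨1, _⟩ => exact h.mem_YY.2 ⟨1, dg c, (hh_eq ψ (r := 4) (fun _ => rfl) (fun _ => rfl) c).2.trans (by simp)⟩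

theorem Ns_le (T : RootTable chevB2) : Ns chevB2 (rt φ θ t) ≤ h.YT :=
  (h.isSt0.isSt (by simp)).Ns_le T (fun _ a => Or.inl (h.Hs_le T a)) fun i => by
    match i with
    | ⟨0, _⟩ => exact Or.inr (h.mem_YY.2 ⟨-1, 1, by
        rw [show chevB2.simple _ = 5 from rfl, (hh_eq θ' (r := 5) (fun _ => rfl) (fun _ => rfl) 1).1, h.θ'_ww,
          mul_assoc, h.tt, map_one]⟩)
    | ⟨1, _⟩ => exact Or.inl (h.mem_YY.2 ⟨1, ww, (hh_eq ψ (r := 4) (fun _ => rfl) (fun _ => rfl) 1).1.trans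
        (by simp)⟩)

theorem exists_ne : ∃ a : F, a ≠ 0 ∧ a ≠ 1 := ⟨-1, by simp, fun e => h.two (by linear_combination -e)⟩

theorem nontrivial : Nontrivial (quadGen φ t θ) :=
  ⟨⟨⟨θ (xx 1), θ_mem _⟩, 1, fun e => one_ne_zero (h.θ_ne 1 (congrArg Subtype.val e))⟩⟩

theorem center_eq : Subgroup.center (quadGen φ t θ) = ⊥ := by
  have := h.nontrivial
  obtain ⟨T⟩ := exists_rootTable (D := chevB2) (by simp)
  obtain ⟨f, hf⟩ := h.isSt0_rz.exists_hom (by simp) (fun _ => h.exists_ne) Gs_rz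
  have hs := h.isSt0_rz.isSt (by simp)
  refine eq_bot_iff.2 fun z hz => ?_
  have h1 := Subgroup.mem_map_of_mem (quadGen φ t θ).subtype
    (hs.ker_le_Hs T f hf Gs_rz (hs.ker_eq_center T f hf Gs_rz ▸ hz))
  rw [map_Hs] at h1
  obtain ⟨A, B, e⟩ := h.mem_YY.1 (h.Hs_le T h1)
  have hc : ∀ g ∈ quadGen φ t θ, Commute g (φ A * ψ B) := fun g hg =>
    e ▸ congrArg Subtype.val (Subgroup.mem_center_iff.1 hz ⟨g, hg⟩)
  have key : ∀ (π : SL(2, F) →* G), Function.Injective π → ∀ A, (∀ X, Commute (π X) (π A)) → A = 1 ∨ A = -1 :=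
    fun π i A a => by
      have s := (actG_self A).isScal i fun X => (a X).symm
      refine (KSG.M2.SL_sq_eq_one_iff h.two).1 (Subtype.ext ?_)
      have d := A.2
      rw [coe_tg] at s
      rw [s.eq_smul, Matrix.det_smul, Fintype.card_fin, Matrix.det_one, mul_one] at d
      rw [Matrix.SpecialLinearGroup.coe_pow, s.eq_smul, smul_pow, d]; simp
  have a1 := key φ h.inj A fun X => by simpa using (hc _ (φ_mem X)).mul_right (h.comm X B).inv_right
  have a2 := key ψ (cjh_inj h.inj t) B fun X => by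
    simpa using (h.comm A X).symm.inv_right.mul_right (hc _ (ψ_mem X))
  have a3 : ¬ Commute (θ (xx 1)) j := fun e => one_ne_zero (h.eq_zero_of_j e.symm)
  have a4 := hc _ (θ_mem (xx 1))
  refine Subgroup.mem_bot.2 (Subtype.ext (e.trans ?_))
  rcases a1 with rfl | rfl <;> rcases a2 with rfl | rfl <;> simp_all [h.ψ_neg, h.j_j]

theorem equiv [Fintype F] : Nonempty (quadGen φ t θ ≃* Cfsg.PSp 2 F) := by
  have := h.nontrivial
  obtain ⟨e⟩ := h.isSt0_rz.nonempty_quot_equiv (by simp) (fun _ => h.exists_ne) Gs_rz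
  obtain ⟨e1⟩ := nonempty_chevB2_equiv h.exists_ne
  obtain ⟨e2⟩ := Class.LowDim.nonempty_POmega5_equiv h.two
  exact ⟨((QuotientGroup.quotientBot.symm.trans (QuotientGroup.quotientMulEquivOfEq h.center_eq.symm)).trans
    e).trans (e1.trans e2)⟩

theorem mem_YY_of_Us (T : RootTable chevB2) {u : G} (hu : u ∈ Us chevB2 (rt φ θ t)) (hj : Commute u j) :
    u ∈ h.YY := by
  obtain ⟨a, rfl⟩ := h.isSt0.exists_oprod T.nil_pos (l := [4, 6, 7, 5]) (by decide) (fun r => by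
    have := T.nroots_eq
    rw [Set.mem_ofPred_eq, T.pos_iff]
    change 8 = _ at this
    simp only [List.mem_cons, List.not_mem_nil, or_false]
    omega) hu
  simp only [oprod_cons, oprod_nil, rt, mul_one] at hj ⊢
  have e := cj_of_comm hj.symm
  rw [← conj_mul, ← conj_mul, ← conj_mul, h.θ_j, h.j_q, cj_of_comm (h.φ_j _).symm, cj_of_comm (h.ψ_j _).symm,
    mul_right_inj, ← mul_assoc, ← mul_assoc] at e
  obtain ⟨e1, e2⟩ := h.nd2 e
  rw [show -a 6 = 0 from (mul_eq_zero.1 (by linear_combination -e1)).resolve_left h.two,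
    show a 5 = 0 from (mul_eq_zero.1 (by linear_combination -e2)).resolve_left h.two, x_zero, x_zero,
    one_mul, mul_one, ← (h.comm _ _).eq]
  exact h.mem_YY.2 ⟨_, _, rfl⟩

omit h in
theorem map_rz : (Ns chevB2 (rz φ θ t)).map (quadGen φ t θ).subtype = Ns chevB2 (rt φ θ t) ∧
    (Hs chevB2 (rz φ θ t)).map (quadGen φ t θ).subtype = Hs chevB2 (rt φ θ t) ∧
    (Us chevB2 (rz φ θ t)).map (quadGen φ t θ).subtype = Us chevB2 (rt φ θ t) := by
  rw [map_Ns, map_Hs, map_Us]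
  exact ⟨rfl, rfl, rfl⟩

theorem mem_YT {g : quadGen φ t θ} (hj : Commute (g : G) j) : (g : G) ∈ h.YT := by
  have := h.nontrivial
  obtain ⟨T⟩ := exists_rootTable (D := chevB2) (by simp)
  obtain ⟨f, hf⟩ := h.isSt0_rz.exists_hom (by simp) (fun _ => h.exists_ne) Gs_rz
  have hs := h.isSt0_rz.isSt (by simp)
  have hn := h.isSt0_rz.isND_of_hom T f hf
  obtain ⟨b, hb, n, hN, w, hw, u, hu, rfl⟩ := hs.exists_bruhat T (g := g) (Gs_rz.ge (Subgroup.mem_top _))
  obtain ⟨z, hz, ez⟩ : ∃ z ∈ Hs chevB2 (rz φ θ t), (z : G) = j :=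
    ⟨_, hh_mem_Hs (r := 4) (by decide) (Units.ne_zero (-1)), (map_hh (quadGen φ t θ).subtype 4 _).trans
      ((hh_eq ψ (r := 4) (fun _ => rfl) (fun _ => rfl) (-1)).2.trans (by rw [dg_neg, h.ψ_neg]))⟩
  have cm : ∀ {x : quadGen φ t θ}, z * x * z⁻¹ = x ↔ Commute (x : G) j := fun {x} => by
    rw [mul_inv_eq_iff_eq_mul, Subtype.ext_iff, Subgroup.coe_mul, Subgroup.coe_mul, ez]
    exact eq_comm
  have nY : (n : G) ∈ h.YT := h.Ns_le T (map_rz.1.le (Subgroup.mem_map_of_mem _ hN))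
  obtain ⟨e1, e2⟩ := hn.bruhat_unique_of_eq hw (mul_mem (mul_mem (Hs_le_Bs hz) hb) (inv_mem (Hs_le_Bs hz))) hb
    (conj_mem_of_mem_normalizer (hs.Hs_le_normalizer_XS T (T.nil_invSet w).lt hz) hu) hu (by
      rw [← cm.2 hj, ← conj_mul, ← conj_mul, cm.2 (h.YT_j nY)])
  obtain ⟨v, hv, k, hk, rfl⟩ := (hs.mem_Bs_iff T).1 hb
  have kY : (k : G) ∈ h.YY := h.Hs_le T (map_rz.2.1.le (Subgroup.mem_map_of_mem _ hk))
  have vY : (v : G) ∈ h.YY := h.mem_YY_of_Us T (map_rz.2.2.le (Subgroup.mem_map_of_mem _ hv))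
    (by simpa using (cm.1 e1).mul_left (h.YY_j kY).inv_left)
  have uY : (u : G) ∈ h.YY := h.mem_YY_of_Us T (map_rz.2.2.le
    (Subgroup.mem_map_of_mem _ (T.XS_invSet_le_Us w hu))) (cm.1 e2)
  have le : h.YY ≤ h.YT := fun _ => Or.inl
  rw [Subgroup.coe_mul, Subgroup.coe_mul, Subgroup.coe_mul]
  exact mul_mem (mul_mem (mul_mem (le vY) (le kY)) nY) (le uY)

theorem cent {g : G} (hg : g ∈ quadGen φ t θ) (hj : Commute g (φ (-1))) :
    ∃ A B, g = φ A * cjh t φ B ∨ g = φ A * cjh t φ B * t := by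
  rcases h.mem_YT (g := ⟨g, hg⟩) hj with a | a <;> obtain ⟨A, B, a⟩ := h.mem_YY.1 a
  exacts [⟨A, B, Or.inl a⟩, ⟨A, B, Or.inr (by rw [← a, mul_assoc, h.tt, mul_one])⟩]

end Cfsg.Agent.FW.Quad
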