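import Mathlib
import Cfsg.Agent.FW.SpDef
import Cfsg.Agent.FW.Rad
import Cfsg.Agent.CT.AutSL2

/-!
Basic facts on the structure `Sw0`, `Sw`.
-/

set_option autoImplicit false
set_option linter.unusedSectionVars false

namespace Cfsg.Agent.FW

open Cfsg.Agent.KSG.M2 hiding dg coe_dg
open Cfsg.Agent.KSG Cfsg.Agent.RootSub Subgroup
open Cfsg.Agent.Comm.Hex (dg coe_dg coe_ww hom_ext)
open scoped MatrixGroups

variable {F G : Type*} [Field F] [Group G]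

/-- The elements acting semilinearly on the image of `φ`. -/
def N0 (φ : SL(2, F) →* G) : Subgroup G where
  carrier := {c | ∃ M σ, ActS φ c M σ}
  one_mem' := ⟨1, 1, actS_one.2 actG_one⟩
  mul_mem' := fun ⟨_, _, a⟩ ⟨_, _, b⟩ => ⟨_, _, a.mul b⟩
  inv_mem' := fun ⟨_, _, a⟩ => ⟨_, _, a.inv⟩

/-- The field parts of the action on the two factors. -/
def Fld (φ : SL(2, F) →* G) (t c : G) (σ σ' : F ≃+* F) : Prop :=
  ∃ A B, ActS φ c (tg A) σ ∧ ActS (cjh t φ) c (tg B) σ'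

/-- `L₁ L₂`. -/
def Yg (φ : SL(2, F) →* G) (t : G) : Subgroup G := φ.range ⊔ (cjh t φ).range

theorem cg_fm_surj (M : GL (Fin 2) F) (σ : F ≃+* F) (X : SL(2, F)) : ∃ Y, cg M (fm σ Y) = X :=
  ⟨fm σ⁻¹ (cg M⁻¹ X), by rw [← fm_mul, mul_inv_cancel, fm_one, cg_cg_inv]⟩

theorem ww_ww : (ww : SL(2, F)) * ww = -1 := SL_sq_eq_neg_one_iff.2 (by simp [coe_ww])

theorem fm_ww (σ : F ≃+* F) : fm σ (ww : SL(2, F)) = ww := by
  simp only [ww, map_mul, fm_xx, fm_yy, map_neg, map_one]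

theorem inv_eq_neg_of_sq {A : SL(2, F)} (h : A * A = -1) : A⁻¹ = -A :=
  inv_eq_of_mul_eq_one_right (by rw [mul_neg, h, neg_neg])

variable {φ : SL(2, F) →* G} {t : G}

theorem N0.comm_j {c : G} (h : c ∈ N0 φ) : Commute c (φ (-1)) := by
  obtain ⟨_, _, a⟩ := h; exact a.comm_j

theorem φ_mem_N0 (A : SL(2, F)) : φ A ∈ N0 φ := ⟨_, 1, actS_one.2 (actG_self A)⟩

namespace Fld

variable {c c' : G} {σ σ' τ τ' : F ≃+* F}

theorem mem (h : Fld φ t c σ σ') : c ∈ N0 φ := by obtain ⟨_, _, a, -⟩ := h; exact ⟨_, _, a⟩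

theorem mul (h : Fld φ t c σ σ') (h' : Fld φ t c' τ τ') : Fld φ t (c * c') (σ * τ) (σ' * τ') := by
  obtain ⟨A, B, a, b⟩ := h
  obtain ⟨A', B', a', b'⟩ := h'
  exact ⟨A * fm σ A', B * fm σ' B', by rw [map_mul, tg_fm]; exact a.mul a',
    by rw [map_mul, tg_fm]; exact b.mul b'⟩

theorem inv (h : Fld φ t c σ σ') : Fld φ t c⁻¹ σ⁻¹ σ'⁻¹ := by
  obtain ⟨A, B, a, b⟩ := h
  exact ⟨fm σ⁻¹ A⁻¹, fm σ'⁻¹ B⁻¹, by rw [tg_fm, map_inv tg]; exact a.inv,
    by rw [tg_fm, map_inv tg]; exact b.inv⟩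

theorem one : Fld φ t 1 1 1 :=
  ⟨1, 1, by rw [map_one]; exact actS_one.2 actG_one, by rw [map_one]; exact actS_one.2 actG_one⟩

theorem pow (h : Fld φ t c σ σ') (n : ℕ) : Fld φ t (c ^ n) (σ ^ n) (σ' ^ n) := by
  induction n with
  | zero => simpa using one
  | succ n ih => simp only [pow_succ]; exact ih.mul h

theorem conj_t (tt : t * t = 1) (h : Fld φ t c σ σ') : Fld φ t (t * c * t⁻¹) σ' σ := by
  obtain ⟨A, B, a, b⟩ := h
  have := b.cjh t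
  rw [cjh_cjh, tt, cjh_one] at this
  exact ⟨B, A, this, a.cjh t⟩

end Fld

namespace Sw0

variable (h : Sw0 φ t)
include h

local notation "j" => φ (-1)
local notation "ψ" => cjh t φ

theorem ψ_inj : Function.Injective ψ := cjh_inj h.inj t

theorem neg : ψ (-1) = j := by rw [cjh_apply, h.tj.eq, mul_inv_cancel_right]

omit h in
theorem jj : j * j = 1 := by rw [← map_mul]; simp

omit h in
theorem j_inv : (j)⁻¹ = j := inv_eq_of_mul_eq_one_left jj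

theorem neg_one_ne : (-1 : SL(2, F)) ≠ 1 := Class.Dickson.neg_one_ne_one_SL h.two

theorem j_ne : j ≠ 1 := fun e => h.neg_one_ne (h.inj (e.trans φ.map_one.symm))

omit h in
theorem φ_j (A : SL(2, F)) : Commute (φ A) j := (actG_self A).comm_j

theorem ψ_j (B : SL(2, F)) : Commute (ψ B) j := (h.comm _ B).symm

omit h in
theorem φ_neg (A : SL(2, F)) : φ (-A) = φ A * j := by rw [← map_mul, mul_neg_one]

theorem ψ_neg (B : SL(2, F)) : ψ (-B) = ψ B * j := by rw [← h.neg, ← map_mul, mul_neg_one]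

theorem neg_neg' (A B : SL(2, F)) : φ (-A) * ψ (-B) = φ A * ψ B := by
  rw [φ_neg, h.ψ_neg, (h.ψ_j B).eq, mul_assoc, ← mul_assoc j, jj, one_mul]

theorem mul_mul (A B A' B' : SL(2, F)) :
    φ A * ψ B * (φ A' * ψ B') = φ (A * A') * ψ (B * B') := by
  rw [map_mul, map_mul, (h.comm A' B).symm.mul_mul_mul_comm]

theorem mul_inv' (A B : SL(2, F)) : (φ A * ψ B)⁻¹ = φ A⁻¹ * ψ B⁻¹ :=
  inv_eq_of_mul_eq_one_right (by rw [h.mul_mul]; simp)

theorem mul_pow' (A B : SL(2, F)) (n : ℕ) : (φ A * ψ B) ^ n = φ (A ^ n) * ψ (B ^ n) := by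
  rw [(h.comm A B).mul_pow, map_pow, map_pow]

theorem conj_mul' (X Y A B : SL(2, F)) :
    φ X * ψ Y * (φ A * ψ B) * (φ X * ψ Y)⁻¹ = φ (X * A * X⁻¹) * ψ (Y * B * Y⁻¹) := by
  rw [h.mul_inv', h.mul_mul, h.mul_mul]

theorem mul_eq {A A' B B' : SL(2, F)} (e : φ A * ψ B = φ A' * ψ B') :
    (A = A' ∧ B = B') ∨ (A = -A' ∧ B = -B') := by
  have e1 : φ (A'⁻¹ * A) = ψ (B' * B⁻¹) := by
    rw [map_mul, map_mul, map_inv, map_inv, inv_mul_eq_iff_eq_mul, ← mul_assoc, ← e]; group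
  rcases h.inter _ _ e1 with e2 | e2
  · obtain rfl := inv_mul_eq_one.1 e2
    exact Or.inl ⟨rfl, h.ψ_inj (mul_left_cancel e)⟩
  · obtain rfl : A = -A' := by rw [← mul_inv_cancel_left A' A, e2, mul_neg, mul_one]
    rw [← h.neg_neg' A'] at e
    exact Or.inr ⟨rfl, h.ψ_inj (mul_left_cancel e)⟩

theorem mul_eq_one {A B : SL(2, F)} (e : φ A * ψ B = 1) : (A = 1 ∧ B = 1) ∨ (A = -1 ∧ B = -1) :=
  h.mul_eq (by simpa using e)

theorem mul_eq_j {A B : SL(2, F)} (e : φ A * ψ B = j) : (A = -1 ∧ B = 1) ∨ (A = 1 ∧ B = -1) := by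
  simpa using h.mul_eq (A' := -1) (B' := 1) (by simpa using e)

theorem mem_Yg {x : G} : x ∈ Yg φ t ↔ ∃ A B, x = φ A * ψ B := by
  refine ⟨fun hx => ?_, ?_⟩
  · obtain ⟨_, ⟨A, rfl⟩, _, ⟨B, rfl⟩, e⟩ := (PLocal.Amb.mem_sup_of_le_normalizer_right
      (le_trans (by rintro _ ⟨A, rfl⟩ _ ⟨B, rfl⟩; exact (h.comm A B).symm.eq)
        (centralizer_le_normalizer _))).1 hx
    exact ⟨A, B, e⟩
  · rintro ⟨A, B, rfl⟩
    exact mul_mem (mem_sup_left ⟨A, rfl⟩) (mem_sup_right ⟨B, rfl⟩)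

omit h in
theorem mul_mem_Yg (A B : SL(2, F)) : φ A * ψ B ∈ Yg φ t :=
  mul_mem (mem_sup_left ⟨A, rfl⟩) (mem_sup_right ⟨B, rfl⟩)

omit h in
theorem φ_mem (A : SL(2, F)) : φ A ∈ Yg φ t := mem_sup_left ⟨A, rfl⟩

omit h in
theorem ψ_mem (A : SL(2, F)) : ψ A ∈ Yg φ t := mem_sup_right ⟨A, rfl⟩

theorem actφ (A B : SL(2, F)) : ActG φ (φ A * ψ B) (tg A) := by
  simpa using (actG_self A).mul (actG_of_comm fun X => (h.comm X B).symm)

theorem actψ (A B : SL(2, F)) : ActG ψ (φ A * ψ B) (tg B) := by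
  simpa using (actG_of_comm fun X => h.comm A X).mul (actG_self B)

theorem fld_mul (A B : SL(2, F)) : Fld φ t (φ A * ψ B) 1 1 :=
  ⟨A, B, actS_one.2 (h.actφ A B), actS_one.2 (h.actψ A B)⟩

theorem fld_of_mem {x : G} (hx : x ∈ Yg φ t) : Fld φ t x 1 1 := by
  obtain ⟨A, B, rfl⟩ := h.mem_Yg.1 hx; exact h.fld_mul A B

theorem Y_le : Yg φ t ≤ N0 φ := fun _ hx => (h.fld_of_mem hx).mem

theorem fld_unique {c : G} {σ σ' τ τ' : F ≃+* F} (h1 : Fld φ t c σ σ') (h2 : Fld φ t c τ τ') :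
    σ = τ ∧ σ' = τ' := by
  obtain ⟨A, B, a, b⟩ := h1
  obtain ⟨A', B', a', b'⟩ := h2
  exact ⟨(a.unique h.inj a').1, (b.unique h.ψ_inj b').1⟩

theorem eq_of_act {c : G} {A B : SL(2, F)} (a : ActG φ c (tg A)) (b : ActG ψ c (tg B)) :
    c = φ A * ψ B ∨ c = φ A * ψ (-B) := by
  have a' := (h.actφ A B).inv.mul a
  have b' := (h.actψ A B).inv.mul b
  rcases h.ker _ (a'.of_isScal (by simpa using isScal_one)) (b'.of_isScal (by simpa using isScal_one))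
    with e | e
  · exact Or.inl (inv_mul_eq_one.1 e).symm
  · exact Or.inr (by rw [h.ψ_neg, ← mul_assoc, ← e, mul_inv_cancel_left])

theorem mem_of_fld {c : G} (hc : Fld φ t c 1 1) : c ∈ Yg φ t := by
  obtain ⟨A, B, a, b⟩ := hc
  rcases h.eq_of_act (actS_one.1 a) (actS_one.1 b) with e | e <;> exact e ▸ mul_mem_Yg _ _

theorem ψ_xx_ne (A : SL(2, F)) : φ A ≠ ψ (xx 1) := fun e => by
  have : ψ (xx 1) = 1 ∨ ψ (xx 1) = ψ (-1) := by
    rcases h.inter _ _ e with rfl | rfl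
    · exact Or.inl (by rw [← e, map_one])
    · exact Or.inr (by rw [← e, h.neg])
  rcases this with e | e
  · simpa using congrArg (fun A : SL(2, F) => A 0 1) (h.ψ_inj (e.trans (map_one _).symm))
  · simpa using congrArg (fun A : SL(2, F) => A 0 1) (h.ψ_inj e)

theorem t_not : t ∉ N0 φ := fun ⟨_, _, a⟩ => h.ψ_xx_ne _ (a (xx 1)).symm

theorem mem_or {c : G} (hc : Commute c j) : c ∈ N0 φ ∨ t⁻¹ * c ∈ N0 φ := by
  obtain ⟨A, σ, -, a | a⟩ := h.act c hc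
  exacts [Or.inl ⟨_, _, a⟩, Or.inr ⟨_, _, a⟩]

theorem mul_mem_of_not {c c' : G} (hc : Commute c j) (hc' : Commute c' j) (n : c ∉ N0 φ)
    (n' : c' ∉ N0 φ) : c * c' ∈ N0 φ :=
  (h.mem_or (hc.mul_left hc')).resolve_right fun e => n' (by
    simpa [mul_assoc] using mul_mem (inv_mem ((h.mem_or hc).resolve_left n)) e)

theorem sq_mem {c : G} (hc : Commute c j) : c * c ∈ N0 φ := by
  by_cases n : c ∈ N0 φ
  · exact mul_mem n n
  · exact h.mul_mem_of_not hc hc n n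

theorem conj_mem {c x : G} (hx : Commute x j) (hc : c ∈ N0 φ) : x * c * x⁻¹ ∈ N0 φ := by
  by_cases n : x ∈ N0 φ
  · exact mul_mem (mul_mem n hc) (inv_mem n)
  · exact h.mul_mem_of_not (hx.mul_left (N0.comm_j hc)) hx.inv_left
      (fun e => n (by simpa using mul_mem e (inv_mem hc))) fun e => n (by simpa using inv_mem e)

theorem odd_mem {c : G} (hc : Commute c j) (ho : Odd (orderOf c)) : c ∈ N0 φ := by
  obtain ⟨k, hk⟩ := ho
  have : (c * c) ^ (k + 1) = c := by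
    rw [← sq, ← pow_mul, show 2 * (k + 1) = orderOf c + 1 by omega, pow_succ, pow_orderOf_eq_one,
      one_mul]
  exact this ▸ pow_mem (h.sq_mem hc) _

theorem act1 {c : G} (hc : c ∈ N0 φ) : ∃ A σ, Odd (orderOf σ) ∧ ActS φ c (tg A) σ := by
  obtain ⟨A, σ, o, a | a⟩ := h.act c (N0.comm_j hc)
  · exact ⟨A, σ, o, a⟩
  · exact (h.t_not (by simpa using mul_mem hc (inv_mem (⟨_, _, a⟩ : _ ∈ N0 φ)))).elim

theorem fld {c : G} (hc : c ∈ N0 φ) : ∃ σ σ', Odd (orderOf σ) ∧ Odd (orderOf σ') ∧ Fld φ t c σ σ' := by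
  obtain ⟨A, σ, o, a⟩ := h.act1 hc
  obtain ⟨B, σ', o', b⟩ := h.act1 (h.conj_mem h.tj.inv_left hc)
  exact ⟨σ, σ', o, o', A, B, a, by simpa [mul_assoc] using b.cjh t⟩

theorem mem_of_pow {c : G} (hc : c ∈ N0 φ) {k : ℕ} (e : c ^ 2 ^ k ∈ Yg φ t) : c ∈ Yg φ t := by
  obtain ⟨σ, σ', o, o', f⟩ := h.fld hc
  obtain ⟨e1, e2⟩ := h.fld_unique (f.pow _) (h.fld_of_mem e)
  rw [eq_one_of_odd o e1, eq_one_of_odd o' e2] at f
  exact h.mem_of_fld f

theorem two_mem {c : G} (hc : c ∈ N0 φ) {k : ℕ} (e : c ^ 2 ^ k = 1) : c ∈ Yg φ t :=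
  h.mem_of_pow hc (e ▸ one_mem _)

theorem invol_mem {c : G} (hc : c ∈ N0 φ) (e : c * c = 1) : c ∈ Yg φ t :=
  h.two_mem hc (k := 1) (by rw [pow_one, sq, e])

theorem conj_φ {x : G} (hx : Commute x j) (A : SL(2, F)) :
    ∃ A', x * φ A * x⁻¹ = φ A' ∨ x * φ A * x⁻¹ = ψ A' := by
  rcases h.mem_or hx with ⟨M, σ, a⟩ | ⟨M, σ, a⟩
  · exact ⟨_, Or.inl (a A)⟩
  · exact ⟨_, Or.inr (by rw [cjh_apply, ← a A]; group)⟩

theorem conj_mem_Y {c x : G} (hx : Commute x j) (hc : c ∈ Yg φ t) : x * c * x⁻¹ ∈ Yg φ t := by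
  obtain ⟨A, B, rfl⟩ := h.mem_Yg.1 hc
  rw [← conj_mul]
  refine mul_mem ?_ ?_
  · obtain ⟨A', e | e⟩ := h.conj_φ hx A <;> rw [e]
    exacts [φ_mem _, ψ_mem _]
  · rw [show x * ψ B * x⁻¹ = x * t * φ B * (x * t)⁻¹ by rw [cjh_apply]; group]
    obtain ⟨A', e | e⟩ := h.conj_φ (hx.mul_left h.tj) B <;> rw [e]
    exacts [φ_mem _, ψ_mem _]

/-- Every element of `C₀` is the product of an element of `Y` and a field automorphism. -/
theorem pure {c : G} {σ σ' : F ≃+* F} (hc : Fld φ t c σ σ') : ∃ A B c₀, c = φ A * ψ B * c₀ ∧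
    (∀ X, c₀ * φ X * c₀⁻¹ = φ (fm σ X)) ∧ ∀ X, c₀ * ψ X * c₀⁻¹ = ψ (fm σ' X) := by
  obtain ⟨A, B, a, b⟩ := hc
  refine ⟨A, B, (φ A * ψ B)⁻¹ * c, by group, fun X => ?_, fun X => ?_⟩
  · simpa [gm_one, cg_one] using ((actS_one.2 (h.actφ A B)).inv.mul a) X
  · simpa [gm_one, cg_one] using ((actS_one.2 (h.actψ A B)).inv.mul b) X

theorem cjh (g : G) : Sw0 (cjh g φ) (g * t * g⁻¹) := by
  have e : FW.cjh (g * t * g⁻¹) (FW.cjh g φ) = FW.cjh g ψ := by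
    rw [cjh_cjh, cjh_cjh, inv_mul_cancel_right]
  refine ⟨h.two, cjh_inj h.inj g, h.tj.map (MulAut.conj g).toMonoidHom,
    fun A B => e ▸ (h.comm A B).map (MulAut.conj g).toMonoidHom,
    fun A B e' => h.inter A B ((MulAut.conj g).injective (by rw [e] at e'; exact e')), fun c h1 h2 => ?_, fun c hc => ?_⟩
  · rw [e] at h2
    rcases h.ker (g⁻¹ * c * g)
      (fun A => by simpa [cjh_apply, mul_assoc] using (h1 A).map (MulAut.conj g⁻¹).toMonoidHom)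
      (fun A => by simpa [cjh_apply, mul_assoc] using (h2 A).map (MulAut.conj g⁻¹).toMonoidHom) with e | e
    · exact Or.inl (by rw [show c = g * (g⁻¹ * c * g) * g⁻¹ by group, e]; group)
    · exact Or.inr (by rw [cjh_apply, ← e]; group)
  · obtain ⟨A, σ, o, a⟩ := h.act (g⁻¹ * c * g) (by
      simpa [cjh_apply, mul_assoc] using hc.map (MulAut.conj g⁻¹).toMonoidHom)
    exact ⟨A, σ, o, a.imp (fun a => by simpa [mul_assoc] using a.cjh g)
      fun a => by simpa [mul_assoc] using a.cjh g⟩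

theorem range_change {s : G} (hs : Commute s j) (n : s ∉ N0 φ) : (FW.cjh s φ).range = (ψ).range := by
  obtain ⟨M, σ, a⟩ := (h.mem_or hs).resolve_left n
  have e : ∀ X, FW.cjh s φ X = ψ (cg M (fm σ X)) := fun X => by rw [cjh_apply, cjh_apply, ← a]; group
  ext x
  refine ⟨by rintro ⟨X, rfl⟩; exact ⟨_, (e X).symm⟩, ?_⟩
  rintro ⟨X, rfl⟩
  obtain ⟨Y, rfl⟩ := cg_fm_surj M σ X
  exact ⟨Y, e Y⟩

theorem Yg_change {s : G} (hs : Commute s j) (n : s ∉ N0 φ) : Yg φ s = Yg φ t := by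
  rw [Yg, h.range_change hs n, Yg]

theorem change {s : G} (hs : Commute s j) (n : s ∉ N0 φ) : Sw0 φ s := by
  have e := h.range_change hs n
  refine ⟨h.two, h.inj, hs, fun A B => ?_, fun A B e' => ?_, fun c h1 h2 => h.ker c h1 fun B => ?_,
    fun c hc => ?_⟩
  · obtain ⟨B', e'⟩ := e.le ⟨B, rfl⟩
    exact e' ▸ h.comm A B'
  · obtain ⟨B', e''⟩ := e.le ⟨B, rfl⟩
    exact h.inter A B' (e'.trans e''.symm)
  · obtain ⟨B', e'⟩ := e.ge ⟨B, rfl⟩
    exact e' ▸ h2 B'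
  · by_cases hn : c ∈ N0 φ
    · obtain ⟨A, σ, o, a⟩ := h.act1 hn
      exact ⟨A, σ, o, Or.inl a⟩
    · obtain ⟨A, σ, o, a⟩ := h.act1 (h.mul_mem_of_not hs.inv_left hc
        (fun e => n (by simpa using inv_mem e)) hn)
      exact ⟨A, σ, o, Or.inr a⟩

theorem re [Fintype F] (P : GL (Fin 2) F) (θ : F ≃+* F) : Sw0 (φ.comp ((cg P).comp (fm θ))) t := by
  have hn : φ.comp ((cg P).comp (fm θ)) (-1) = φ (-1) := by simp [fm_neg_one, cg_neg_one]
  have key : ∀ {c A σ}, ActS φ c (tg A) σ → ∃ A', ActS (φ.comp ((cg P).comp (fm θ))) c (tg A') σ :=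
    fun {c A σ} a => by
      obtain ⟨r, hr⟩ : IsSquare (gm θ⁻¹ (P⁻¹ * tg A * gm σ P)).1.det := by
        rw [sq_det_gm, sq_det_mul, sq_det_mul, sq_det_inv, sq_det_gm]
        have := sq_det_tg A
        tauto
      have h0 : r ≠ 0 := fun h0 => det_ne _ (by rw [hr, h0, mul_zero])
      refine ⟨⟨r⁻¹ • (gm θ⁻¹ (P⁻¹ * tg A * gm σ P)).1, by
        rw [Matrix.det_smul, Fintype.card_fin, hr]; field_simp⟩, fun X => ?_⟩
      rw [cg_congr (M := gm θ⁻¹ (P⁻¹ * tg A * gm σ P)) (r := r⁻¹) rfl]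
      simp only [MonoidHom.comp_apply]
      rw [a, fm_cg θ, ← gm_mul, mul_inv_cancel, gm_one, ← cg_mul P, fm_cg, ← cg_mul, ← fm_mul, ← fm_mul,
        aut_comm h.two, ← mul_assoc, mul_inv_cancel_left]
  refine ⟨h.two, h.inj.comp ((cg_inj P).comp (fm_inj θ)), hn ▸ h.tj, fun A B => h.comm _ _,
    fun A B e => ?_, fun c h1 h2 => hn ▸ h.ker c (fun A => ?_) fun A => ?_, fun c hc => ?_⟩
  · rcases h.inter _ _ e with e | e
    · exact Or.inl ((cg_inj P).comp (fm_inj θ) (by simpa using e))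
    · exact Or.inr ((cg_inj P).comp (fm_inj θ) (by simpa [fm_neg_one, cg_neg_one] using e))
  · obtain ⟨Y, rfl⟩ := cg_fm_surj P θ A
    exact h1 Y
  · obtain ⟨Y, rfl⟩ := cg_fm_surj P θ A
    exact h2 Y
  · obtain ⟨A, σ, o, a | a⟩ := h.act c (hn ▸ hc)
    · obtain ⟨A', a'⟩ := key a
      exact ⟨A', σ, o, Or.inl a'⟩
    · obtain ⟨A', a'⟩ := key a
      exact ⟨A', σ, o, Or.inr a'⟩

/-- The diagonal `L₂(q)`. -/
def κ : SL(2, F) →* G where
  toFun A := φ A * ψ A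
  map_one' := by simp
  map_mul' A B := (h.mul_mul A A B B).symm

theorem κ_apply (A : SL(2, F)) : h.κ A = φ A * ψ A := rfl

theorem κ_neg (A : SL(2, F)) : h.κ (-A) = h.κ A := h.neg_neg' A A

theorem κ_eq {A B : SL(2, F)} (e : h.κ A = h.κ B) : A = B ∨ A = -B :=
  (h.mul_eq e).imp And.left And.left

theorem κ_j (A : SL(2, F)) : Commute (h.κ A) j := (φ_j A).mul_left (h.ψ_j A)

theorem κ_mem (A : SL(2, F)) : h.κ A ∈ Yg φ t := mul_mem_Yg _ _

theorem κ_sq {A : SL(2, F)} (e : A * A = -1) : h.κ A * h.κ A = 1 := by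
  rw [← map_mul, e, h.κ_neg, map_one]

theorem κ_ne_j (A : SL(2, F)) : h.κ A ≠ j := fun e => by
  rcases h.mul_eq_j e with ⟨e1, e2⟩ | ⟨e1, e2⟩
  · exact h.neg_one_ne (e1.symm.trans e2)
  · exact h.neg_one_ne (e2.symm.trans e1)

theorem κ_ne_one {A : SL(2, F)} (e : A * A = -1) : h.κ A ≠ 1 := fun e' => by
  rcases h.κ_eq (e'.trans (map_one _).symm) with rfl | rfl <;> exact h.neg_one_ne (by simpa using e.symm)

/-- The involutions of `Y`. -/
theorem invol_Y {A B : SL(2, F)} (e : φ A * ψ B * (φ A * ψ B) = 1) :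
    φ A * ψ B = 1 ∨ φ A * ψ B = j ∨ (A * A = -1 ∧ B * B = -1) := by
  rw [h.mul_mul] at e
  rcases h.mul_eq_one e with ⟨e1, e2⟩ | e
  · rcases (SL_sq_eq_one_iff h.two).1 ((sq A).trans e1) with rfl | rfl <;>
      rcases (SL_sq_eq_one_iff h.two).1 ((sq B).trans e2) with rfl | rfl <;> simp [h.neg, jj]
  · exact Or.inr (Or.inr e)

theorem conj_z [Finite F] {A B : SL(2, F)} (hA : A * A = -1) (hB : B * B = -1) :
    ∃ X Y, φ X * ψ Y * h.κ ww * (φ X * ψ Y)⁻¹ = φ A * ψ B := by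
  have key : ∀ {A : SL(2, F)}, A * A = -1 → ∃ X, X * ww * X⁻¹ = A := fun hA =>
    isConj_iff.1 (SL_isConj_of_trace' ((SL_sq_eq_neg_one_iff.1 ww_ww).trans
      (SL_sq_eq_neg_one_iff.1 hA).symm)
      (Class.Dickson.zero_sq_ne_four h.two (SL_sq_eq_neg_one_iff.1 ww_ww)))
  obtain ⟨X, rfl⟩ := key hA
  obtain ⟨Y, rfl⟩ := key hB
  exact ⟨X, Y, h.conj_mul' _ _ _ _⟩

section TT

variable (tt : t * t = 1)
include tt

omit h in
theorem t_φ (A : SL(2, F)) : t * φ A = ψ A * t := by rw [cjh_apply, inv_mul_cancel_right]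

omit h in
theorem t_ψ (A : SL(2, F)) : t * ψ A = φ A * t := by
  rw [cjh_apply, ← mul_assoc, ← mul_assoc, tt, one_mul, inv_eq_of_mul_eq_one_left tt]

theorem t_mul' (A B : SL(2, F)) : t * (φ A * ψ B) = φ B * ψ A * t := by
  rw [← mul_assoc, t_φ tt, mul_assoc, t_ψ tt, ← mul_assoc, (h.comm B A).eq]

theorem outer_sq' (A B : SL(2, F)) : φ A * ψ B * t * (φ A * ψ B * t) = φ (A * B) * ψ (B * A) := by
  rw [mul_assoc _ t, ← mul_assoc t, h.t_mul' tt, mul_assoc _ t, tt, mul_one, h.mul_mul]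

theorem outer_conj' {x : G} (hx : Commute x j) (n : x ∉ N0 φ) (e : x * x ∈ Yg φ t) :
    ∃ c ∈ N0 φ, ∃ A B, c * x * c⁻¹ = φ A * ψ B * t := by
  have hu := h.mul_mem_of_not hx h.tj n h.t_not
  obtain ⟨σ, σ', ⟨k, hk⟩, -, f⟩ := h.fld hu
  have e1 := (h.fld_unique (f.mul (f.conj_t tt)) (h.fld_of_mem (by
    rwa [show x * t * (t * (x * t) * t⁻¹) = x * (t * t) * x by group, tt, mul_one]))).1
  obtain rfl := eq_inv_of_mul_eq_one_right e1
  have e2 : σ ^ (k + 1) * σ ^ k = 1 := by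
    rw [← pow_add, show k + 1 + k = orderOf σ by omega, pow_orderOf_eq_one]
  have f2 := (f.pow (k + 1)).mul ((f.pow k).inv.conj_t tt)
  rw [inv_pow, inv_inv, e2, inv_pow, ← _root_.mul_inv_rev, ← (Commute.pow_pow_self σ _ _).eq, e2,
    inv_one] at f2
  obtain ⟨A, B, e3⟩ := h.mem_Yg.1 (h.mem_of_fld f2)
  refine ⟨_, pow_mem hu k, A, B, ?_⟩
  rw [← e3, pow_succ]
  generalize (x * t) ^ k = u
  rw [show u * (x * t) * (t * u⁻¹ * t⁻¹) * t = u * x * (t * t) * u⁻¹ by group, tt, mul_one]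

theorem invol_outer' {x : G} (hx : Commute x j) (n : x ∉ N0 φ) (e : x * x = 1) :
    ∃ c ∈ N0 φ, c * x * c⁻¹ = t ∨ c * x * c⁻¹ = t * j := by
  obtain ⟨c, hc, A, B, e1⟩ := h.outer_conj' tt hx n (e ▸ one_mem _)
  have e2 := h.outer_sq' tt A B
  rw [← e1, conj_mul, e, mul_one, mul_inv_cancel] at e2
  refine ⟨_, mul_mem (inv_mem (φ_mem_N0 A)) hc, ?_⟩
  have e3 : (φ A)⁻¹ * c * x * ((φ A)⁻¹ * c)⁻¹ = ψ (B * A) * t := by
    rw [map_mul, mul_assoc (ψ B), ← t_φ tt, ← mul_assoc, ← inv_mul_cancel_left (φ A) (ψ B),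
      mul_assoc (φ A)⁻¹ _ t, ← e1]; group
  rcases h.mul_eq_one e2.symm with ⟨-, e4⟩ | ⟨-, e4⟩ <;> rw [e3, e4]
  · exact Or.inl (by simp)
  · exact Or.inr (by rw [h.neg, h.tj.eq])

theorem outer_pow_ne' {x : G} (hx : Commute x j) (n : x ∉ N0 φ) (k : ℕ) : x ^ 2 ^ k ≠ j := fun e => by
  obtain _ | k := k
  · exact n (by rw [pow_zero, pow_one] at e; exact e ▸ φ_mem_N0 _)
  rw [pow_succ', pow_mul, sq] at e
  obtain ⟨c, hc, A, B, e1⟩ := h.outer_conj' tt hx n (h.mem_of_pow (h.sq_mem hx) (e ▸ φ_mem _))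
  have e2 := h.outer_sq' tt A B
  rw [← e1, conj_mul] at e2
  have e3 := h.mul_pow' (A * B) (B * A) (2 ^ k)
  rw [← e2, conj_pow, e, (N0.comm_j hc).eq, mul_inv_cancel_right] at e3
  have e4 : (A * B) ^ 2 ^ k = A * (B * A) ^ 2 ^ k * A⁻¹ := by rw [← conj_pow]; group
  rcases h.mul_eq_j e3.symm with ⟨e5, e6⟩ | ⟨e5, e6⟩ <;> rw [e5, e6] at e4
  · exact h.neg_one_ne (by simpa using e4)
  · exact h.neg_one_ne (by simpa using e4.symm)

end TT

end Sw0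

/-- A generator of the Sylow 2-subgroup of the centraliser of `ww`, and an inverting element. -/
structure Tor2 (c w : SL(2, F)) (n : ℕ) : Prop where
  pow : c ^ 2 ^ n = ww
  quat : Class.Dickson.QuatPair ww w
  gen : ∀ A k, Commute A ww → A ^ 2 ^ k = 1 → A ∈ zpowers c

theorem ww_disc (h2 : (2 : F) ≠ 0) : (ww : SL(2, F)).1.trace ^ 2 ≠ 4 :=
  Class.Dickson.zero_sq_ne_four h2 (SL_sq_eq_neg_one_iff.1 ww_ww)

theorem tor_comm (h2 : (2 : F) ≠ 0) {A B : SL(2, F)} (hA : Commute A ww) (hB : Commute B ww) :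
    Commute A B :=
  cent_comm (SL_not_isScal_of_trace (ww_disc h2)) (mem_centralizer_singleton_iff.2 hA)
    (mem_centralizer_singleton_iff.2 hB)

theorem exists_tor2 [Finite F] (h2 : (2 : F) ≠ 0) : ∃ (c w : SL(2, F)) (n : ℕ), Tor2 c w n := by
  obtain ⟨w, hw⟩ := exists_inverting (ww_disc h2)
  have hq : Class.Dickson.QuatPair ww w := ⟨h2, SL_sq_eq_neg_one_iff.1 ww_ww, hw⟩
  obtain ⟨⟨g, hg⟩, hgen⟩ := (isCyclic_cent (ww_disc h2)).exists_generator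
  obtain ⟨m, u, hu, e⟩ := Nat.exists_eq_two_pow_mul_odd (orderOf_pos g).ne'
  have gen : ∀ A k, Commute A ww → A ^ 2 ^ k = 1 → A ∈ zpowers (g ^ u) := fun A k hA hk => by
    obtain ⟨i, hi⟩ := (mem_powers_iff_mem_zpowers.2 (hgen ⟨A, mem_centralizer_singleton_iff.2 hA⟩))
    obtain rfl : g ^ i = A := congrArg Subtype.val hi
    rw [← pow_mul, ← orderOf_dvd_iff_pow_eq_one, e] at hk
    obtain ⟨l, rfl⟩ := ((Nat.coprime_two_right.2 hu).pow_right k).dvd_of_dvd_mul_right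
      ((dvd_mul_left u _).trans hk)
    rw [pow_mul]; exact pow_mem (mem_zpowers _) _
  have ho : orderOf (g ^ u) = 2 ^ m := by
    rw [orderOf_pow' _ hu.pos.ne', e, Nat.gcd_mul_left_left, Nat.mul_div_cancel _ hu.pos]
  have hc : Commute (g ^ u) ww := Commute.pow_left (mem_centralizer_singleton_iff.1 hg) u
  generalize g ^ u = c at gen ho hc
  have n1 := Class.Dickson.neg_one_ne_one_SL h2
  have h4 : (ww : SL(2, F)) ^ 2 ^ 2 = 1 := by
    rw [show 2 ^ 2 = 2 * 2 from rfl, pow_mul, sq ww, ww_ww]; simp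
  obtain ⟨n, rfl⟩ : ∃ n, m = n + 2 := by
    have h1 : orderOf (ww : SL(2, F)) = 2 ^ (1 + 1) :=
      orderOf_eq_prime_pow (by rw [pow_one, sq, ww_ww]; exact n1) h4
    have := orderOf_dvd_of_mem_zpowers (gen _ 2 (Commute.refl _) h4)
    rw [h1, ho, Nat.pow_dvd_pow_iff_le_right one_lt_two] at this
    exact ⟨m - 2, by omega⟩
  have h5 : c ^ 2 ^ n * c ^ 2 ^ n = -1 := by
    have e1 : c ^ 2 ^ n * c ^ 2 ^ n = c ^ 2 ^ (n + 1) := by rw [← pow_add]; congr 1; ring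
    refine ((SL_sq_eq_one_iff h2).1 ?_).resolve_left ?_
    · rw [e1, ← pow_mul, ← pow_succ, ← ho, pow_orderOf_eq_one]
    · rw [e1, ← orderOf_dvd_iff_pow_eq_one, ho, Nat.pow_dvd_pow_iff_le_right one_lt_two]; omega
  rcases eq_or_eq_inv_of_mem_cent (ww_disc h2) (mem_centralizer_singleton_iff.2 (hc.pow_left (2 ^ n)))
    ((SL_sq_eq_neg_one_iff.1 h5).trans (SL_sq_eq_neg_one_iff.1 ww_ww).symm) with e | e
  · exact ⟨c, w, n, e, hq, gen⟩
  · exact ⟨c⁻¹, w, n, by rw [inv_pow, e, inv_inv], hq, by simpa only [zpowers_inv] using gen⟩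

namespace Tor2

variable {c w : SL(2, F)} {n : ℕ} (h : Tor2 c w n)
include h

theorem comm : Commute c ww := h.pow ▸ Commute.self_pow _ _

theorem pow1 : c ^ 2 ^ (n + 1) = -1 := by rw [pow_succ, pow_mul, h.pow, sq, ww_ww]

theorem pow2 : c ^ 2 ^ (n + 2) = 1 := by rw [pow_succ, pow_mul, h.pow1]; simp

theorem ww' : w * w = -1 := h.quat.sq_right

theorem inverts {A : SL(2, F)} (hA : Commute A ww) : w * A * w⁻¹ = A⁻¹ :=
  conj_eq_inv_of_mem_cent (SL_not_isScal_of_trace h.quat.disc) h.quat.inverts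
    (mem_centralizer_singleton_iff.2 hA)

theorem mul_sq {A : SL(2, F)} (hA : Commute A ww) : w * A * (w * A) = -1 := by
  calc w * A * (w * A) = w * A * (w * A * w⁻¹) * w := by group
    _ = -1 := by rw [h.inverts hA, mul_inv_cancel_right, h.ww']

theorem bound [Finite F] {A : SL(2, F)} {k : ℕ} (hA : A ^ 2 ^ k = 1) :
    A ^ 2 ^ (n + 1) = 1 ∨ A ^ 2 ^ (n + 1) = -1 := by
  have h2 := h.quat.two_ne
  refine (SL_sq_eq_one_iff h2).1 ?_
  rw [← pow_mul, ← pow_succ]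
  obtain ⟨m, -, hm⟩ := (Nat.dvd_prime_pow Nat.prime_two).1 (orderOf_dvd_of_pow_eq_one hA)
  rcases Nat.lt_or_ge m 2 with h1 | h1
  · exact orderOf_dvd_iff_pow_eq_one.1 (hm ▸ pow_dvd_pow 2 (by omega))
  obtain ⟨m, rfl⟩ := Nat.exists_eq_add_of_le' h1
  have h5 : A ^ 2 ^ m * A ^ 2 ^ m = -1 := by
    have e1 : A ^ 2 ^ m * A ^ 2 ^ m = A ^ 2 ^ (m + 1) := by rw [← pow_add]; congr 1; ring
    refine ((SL_sq_eq_one_iff h2).1 ?_).resolve_left ?_
    · rw [e1, ← pow_mul, ← pow_succ, ← hm, pow_orderOf_eq_one]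
    · rw [e1, ← orderOf_dvd_iff_pow_eq_one, hm, Nat.pow_dvd_pow_iff_le_right one_lt_two]; omega
  obtain ⟨X, hX⟩ := isConj_iff.1 (SL_isConj_of_trace' ((SL_sq_eq_neg_one_iff.1 ww_ww).trans
    (SL_sq_eq_neg_one_iff.1 h5).symm) (ww_disc h2))
  obtain ⟨i, hi⟩ := h.gen (X⁻¹ * A * X⁻¹⁻¹) k (by
    have : (ww : SL(2, F)) = (X⁻¹ * A * X⁻¹⁻¹) ^ 2 ^ m := by rw [conj_pow, ← hX]; group
    exact this ▸ Commute.self_pow _ _) (by rw [conj_pow, hA]; simp)
  have : A = X * c ^ i * X⁻¹ := by rw [show c ^ i = _ from hi]; group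
  rw [this, conj_pow, ← zpow_natCast, ← zpow_mul, mul_comm i, zpow_mul, zpow_natCast, h.pow2]; simp

end Tor2

/-- Automorphisms of `L₂(q)` are semilinear. -/
theorem exists_actS [Finite F] {κ : SL(2, F) →* G} (hn : κ (-1) = 1) (hk : ∀ A, κ A = 1 → A = 1 ∨ A = -1)
    {d : G} (hd : ∀ A, ∃ A', d * κ A * d⁻¹ = κ A') : ∃ M σ, ActS κ d M σ := by
  have e : κ.ker = center SL(2, F) := by
    ext A
    rw [MonoidHom.mem_ker, sl2_mem_center_iff]
    exact ⟨hk A, by rintro (rfl | rfl); exacts [map_one _, hn]⟩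
  let f : Matrix.ProjectiveSpecialLinearGroup (Fin 2) F ≃* κ.range :=
    (QuotientGroup.quotientMulEquivOfEq e.symm).trans (QuotientGroup.quotientKerEquivRange κ)
  have hf : ∀ A, (f (QuotientGroup.mk A) : G) = κ A := fun _ => rfl
  have hd' : d ∈ normalizer (κ.range : Set G) := by
    have : Finite κ.range := Finite.of_surjective _ κ.rangeRestrict_surjective
    refine mem_normalizer_fintype ?_
    rintro _ ⟨A, rfl⟩
    obtain ⟨A', e⟩ := hd A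
    exact ⟨A', e.symm⟩
  let β : MulAut (Matrix.ProjectiveSpecialLinearGroup (Fin 2) F) :=
    f.trans ((κ.range.normalizerMonoidHom ⟨d, hd'⟩).trans f.symm)
  obtain ⟨g, τ, hβ⟩ : ∃ (g : GL (Fin 2) F) (τ : F ≃+* F), β = psiL (Fin 2) F ⟨g, τ, 1⟩ := by
    obtain ⟨⟨g, τ, e⟩, h⟩ := psiL_surjective (ι := Fin 2) (F := F) (by simp) β
    obtain ⟨J, hJ⟩ := graph_mem_range_two (F := F)
    rcases c2_cases e with rfl | rfl
    · exact ⟨g, τ, h.symm⟩
    · refine ⟨g * glAct _ τ J, τ, ?_⟩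
      rw [← h, psiL_eq_mul, psiL_eq_mul (g * _), map_mul, mul_assoc]
      congr 1
      have := psiL_inr_conj (ι := Fin 2) (F := F) (τ, 1) J
      rw [glAct2_one] at this
      rw [← this, hJ, ← map_mul, ← map_mul]
      simp
  refine ⟨g, τ, fun X => ?_⟩
  have := (eq_psiL_iff _ _).1 hβ X (cg g (fm τ X)) (Units.ext (by rw [glAct2_one]; rfl))
  rw [← hf (cg _ _), ← this]
  simp only [β, MulEquiv.trans_apply, MulEquiv.apply_symm_apply]
  rfl

namespace Sw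

variable (h : Sw φ t)
include h

local notation "j" => φ (-1)
local notation "ψ" => cjh t φ
local notation "κ" => Sw0.κ h.toSw0

theorem t_inv : t⁻¹ = t := inv_eq_of_mul_eq_one_left h.tt

theorem t_mul (A B : SL(2, F)) : t * (φ A * ψ B) = φ B * ψ A * t := h.t_mul' h.tt A B

theorem t_conj (A B : SL(2, F)) : t * (φ A * ψ B) * t⁻¹ = φ B * ψ A := by
  rw [h.t_mul, mul_inv_cancel_right]

theorem t_κ (A : SL(2, F)) : Commute t (κ A) := h.t_mul A A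

theorem t_ne_j : t ≠ j := fun e => h.t_not (e ▸ φ_mem_N0 _)

theorem t_ne : t ≠ 1 := fun e => h.t_not (e ▸ one_mem _)

theorem yy1 : t * j * (t * j) = 1 := by rw [h.tj.symm.mul_mul_mul_comm, h.tt, Sw0.jj, one_mul]

theorem mem_or' {c : G} (hc : Commute c j) : c ∈ N0 φ ∨ c * t ∈ N0 φ :=
  or_iff_not_imp_left.2 fun n => h.mul_mem_of_not hc h.tj n h.t_not

theorem outer_sq (A B : SL(2, F)) : φ A * ψ B * t * (φ A * ψ B * t) = φ (A * B) * ψ (B * A) :=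
  h.outer_sq' h.tt A B

theorem comm_t {A B : SL(2, F)} (e : Commute (φ A * ψ B) t) : B = A ∨ B = -A := by
  have := h.t_mul A B
  rw [← e.eq, mul_left_inj] at this
  exact (h.mul_eq this.symm).imp And.left And.left

theorem comm_t' {x : G} (hx : x ∈ Yg φ t) (e : Commute x t) : ∃ A, x = κ A ∨ x = κ A * j := by
  obtain ⟨A, B, rfl⟩ := h.mem_Yg.1 hx
  refine ⟨A, ?_⟩
  rcases h.comm_t e with rfl | rfl
  · exact Or.inl rfl
  · exact Or.inr (by rw [h.ψ_neg, ← mul_assoc]; rfl)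

theorem cjh (g : G) : Sw (cjh g φ) (g * t * g⁻¹) := by
  have e : FW.cjh (g * t * g⁻¹) (FW.cjh g φ) = FW.cjh g ψ := by
    rw [cjh_cjh, cjh_cjh, inv_mul_cancel_right]
  have k : ∀ {a b : G}, IsConj (g * a * g⁻¹) (g * b * g⁻¹) ↔ IsConj a b := fun {a b} =>
    ⟨fun e => ((isConj_iff.2 ⟨g, rfl⟩).trans e).trans (isConj_iff.2 ⟨g, rfl⟩).symm,
      fun e => ((isConj_iff.2 ⟨g, rfl⟩).symm.trans e).trans (isConj_iff.2 ⟨g, rfl⟩)⟩
  refine ⟨h.toSw0.cjh g, by rw [conj_mul, h.tt]; simp, k.2 h.fus, ?_, fun A B => ?_⟩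
  · rw [cjh_apply, conj_mul, k]; exact h.nfus
  · rw [e, cjh_apply, cjh_apply, cjh_apply, conj_mul, k]
    exact fun e => by rw [h.nfusY A B e]

theorem re [Fintype F] (P : GL (Fin 2) F) (θ : F ≃+* F) : Sw (φ.comp ((cg P).comp (fm θ))) t := by
  have hn : φ.comp ((cg P).comp (fm θ)) (-1) = φ (-1) := by simp [fm_neg_one, cg_neg_one]
  exact ⟨h.toSw0.re P θ, h.tt, hn ▸ h.fus, hn ▸ h.nfus, fun A B => hn ▸ h.nfusY _ _⟩

theorem not_conj_Y {x : G} (hx : x ∈ Yg φ t) (n : x ≠ j) : ¬ IsConj j x := fun e => by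
  obtain ⟨A, B, rfl⟩ := h.mem_Yg.1 hx
  exact n (h.nfusY A B e)

theorem invol_outer {x : G} (hx : Commute x j) (n : x ∉ N0 φ) (e : x * x = 1) :
    ∃ c ∈ N0 φ, c * x * c⁻¹ = t ∨ c * x * c⁻¹ = t * j := h.invol_outer' h.tt hx n e

theorem invol_outer_j {x : G} (hx : Commute x j) (n : x ∉ N0 φ) (e : IsConj j x) :
    ∃ c ∈ N0 φ, c * x * c⁻¹ = t := by
  obtain ⟨c, hc, e1 | e1⟩ := h.invol_outer hx n (by
    obtain ⟨g, rfl⟩ := isConj_iff.1 e
    rw [conj_mul, Sw0.jj]; simp)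
  · exact ⟨c, hc, e1⟩
  · exact (h.nfus (e.trans (isConj_iff.2 ⟨c, e1⟩))).elim

theorem not_mem_of_conj {x : G} (n : x ≠ j) (e : IsConj j x) : x ∉ N0 φ := fun hx =>
  h.not_conj_Y (h.invol_mem hx (by
    obtain ⟨g, rfl⟩ := isConj_iff.1 e
    rw [conj_mul, Sw0.jj]; simp)) n e

/-- An element interchanging `j` and `t`. -/
theorem swap : ∃ g, g * j * g⁻¹ = t ∧ g * t * g⁻¹ = j := by
  obtain ⟨g, hg⟩ := isConj_iff.1 h.fus
  have h1 : IsConj j (g⁻¹ * j * g⁻¹⁻¹) := isConj_iff.2 ⟨_, rfl⟩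
  obtain ⟨c, hc, e⟩ := h.invol_outer_j (x := g⁻¹ * j * g⁻¹⁻¹) (by
    have := h.tj.symm.map (MulAut.conj g⁻¹).toMonoidHom
    rw [← hg] at this
    simpa [mul_assoc] using this) (h.not_mem_of_conj (fun e => h.t_ne_j (by
      rw [← hg]; nth_rewrite 1 [← e]; group)) h1) h1
  refine ⟨g * c⁻¹, ?_, by rw [← e]; group⟩
  rw [mul_assoc g, (N0.comm_j hc).inv_left.eq, ← hg]; group

/-- The centraliser of `j` and `t`: 2-elements. -/
theorem two_comm_t {x : G} (hj : Commute x j) (ht : Commute x t) {k : ℕ} (e : x ^ 2 ^ k = 1) :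
    ∃ A, x = κ A ∨ x = κ A * j ∨ x = κ A * t ∨ x = κ A * (t * j) := by
  rcases h.mem_or' hj with hx | hx
  · obtain ⟨A, e⟩ := h.comm_t' (h.two_mem hx e) ht
    exact ⟨A, e.imp_right Or.inl⟩
  · obtain ⟨A, e⟩ := h.comm_t' (h.two_mem hx (k := k + 1) (by
      rw [ht.mul_pow, pow_succ 2, pow_mul, e, mul_comm (2 ^ k), pow_mul, sq t, h.tt]; simp))
      (ht.mul_left (Commute.refl t))
    refine ⟨A, Or.inr (Or.inr (e.imp (fun e => ?_) fun e => ?_))⟩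
    · rw [← e, mul_assoc, h.tt, mul_one]
    · rw [h.tj.eq, ← mul_assoc, ← e, mul_assoc, h.tt, mul_one]

/-- The centraliser of `K` in `C(j)`. -/
theorem cent_κ {x : G} (hj : Commute x j) (hx : ∀ A, Commute x (κ A)) :
    x = 1 ∨ x = j ∨ x = t ∨ x = t * j := by
  have key : ∀ {x : G}, x ∈ N0 φ → (∀ A, Commute x (κ A)) → x = 1 ∨ x = j := fun {x} hn hx => by
    obtain ⟨σ, σ', -, -, A, B, a, b⟩ := h.fld hn
    have e : ∀ X, φ (cg (tg A) (fm σ X)) * ψ (cg (tg B) (fm σ' X)) = φ X * ψ X := fun X => by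
      rw [← a, ← b, conj_mul, ← h.κ_apply, (hx X).eq, mul_inv_cancel_right]
    have sq : ∀ {f : SL(2, F) →* SL(2, F)}, (∀ X, f X = X ∨ f X = -X) → ∀ X, f X = X := fun {f} hf => by
      have k : ∀ X, f (X * X) = X * X := fun X => by rcases hf X with e | e <;> simp [e]
      have hs : ∀ s : F, s / 2 + s / 2 = s := fun s => by have := h.two; field_simp; ring
      refine hom_ext (g := MonoidHom.id _) (fun s => ?_) fun s => ?_
      · simpa [xx_mul, hs] using k (xx (s / 2))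
      · simpa [yy_mul, hs] using k (yy (s / 2))
    have e1 := sq (f := (cg (tg A)).comp (fm σ)) fun X => (h.mul_eq (e X)).imp And.left And.left
    have e2 := sq (f := (cg (tg B)).comp (fm σ')) fun X => (h.mul_eq (e X)).imp And.right And.right
    exact h.ker x (fun X => mul_inv_eq_iff_eq_mul.1 ((a X).trans (congrArg φ (e1 X))))
      fun X => mul_inv_eq_iff_eq_mul.1 ((b X).trans (congrArg ψ (e2 X)))
  rcases h.mem_or' hj with hn | hn
  · exact (key hn hx).imp_right Or.inl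
  · refine Or.inr (Or.inr ((key hn fun A => (hx A).mul_left (h.t_κ A)).imp (fun e => ?_) fun e => ?_))
    · rw [eq_inv_of_mul_eq_one_left e, h.t_inv]
    · rw [h.tj.eq, ← e, mul_assoc, h.tt, mul_one]

/-- The structure of `C(t)` in coordinates compatible with `κ`. -/
structure Dual (φ' : SL(2, F) →* G) : Prop where
  sw : Sw φ' j
  neg : φ' (-1) = t
  diag : ∀ A, φ' A * FW.cjh j φ' A = κ A

end Sw

/-- The twisted diagonal `L₂(q)`. -/
def Sw0.θ {φ : SL(2, F) →* G} {t : G} (h : Sw0 φ t) : SL(2, F) →* G where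
  toFun A := φ A * FW.cjh t φ (cg (dm (-1)) A)
  map_one' := by simp
  map_mul' A B := by rw [h.mul_mul, map_mul (cg _)]

end Cfsg.Agent.FW
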