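import Mathlib
import Cfsg.Agent.FW.SpB
import Cfsg.Agent.Transfer.ThompsonMin
import Cfsg.Agent.ABG.HdGr
import Cfsg.Agent.Misc.SL2Central

/-!
A Sylow 2-subgroup of the centraliser of `z = κ ww`.
-/

set_option autoImplicit false
set_option linter.unusedSectionVars false

namespace Cfsg.Agent.FW

open Cfsg.Agent.KSG.M2 hiding dg coe_dg
open Cfsg.Agent.KSG Cfsg.Agent.RootSub Subgroup Cfsg.Agent.PLocal Cfsg.Agent.PLocal.Amb
open Cfsg.Agent.Lyons (oc)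
open scoped MatrixGroups Cfsg.Agent.Lyons

variable {F G : Type*} [Field F] [Group G]

theorem amb_thompson [Finite G] {L S M : Subgroup G} (hL : 𝐎[2, L] = L) (hS : IsSyl 2 S L)
    (hM : ∀ x ∈ S, ∀ y ∈ S, x ∉ M → y ∉ M → x * y ∈ M) {u : G} (hu : u ∈ S) (hu' : u ∉ M) {n : ℕ}
    (hn : u ^ 2 ^ n = 1) (hev : ∀ g ∈ L, ∀ k, Even k → g * u ^ k * g⁻¹ ∈ S → g * u ^ k * g⁻¹ ∈ M) :
    ∃ g ∈ L, g * u * g⁻¹ ∈ M := by
  have hi : ((S ⊓ M).subgroupOf L).relIndex (S.subgroupOf L) = 2 := by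
    rw [relIndex_subgroupOf hS.le, inf_relIndex_left, relIndex, index_eq_two_iff]
    refine ⟨⟨u, hu⟩, fun b => ?_⟩
    by_cases hb : (b : G) ∈ M
    · exact Or.inr ⟨hb, fun e => hu' ((M.mul_mem_cancel_left hb).1 e)⟩
    · exact Or.inl ⟨hM _ b.2 _ hu hb hu', hb⟩
  rcases Transfer.thompson_transfer_extremal_gen (P := S.subgroupOf L)
    (Nat.odd_iff.2 (Nat.two_dvd_ne_zero.1 hS.not_dvd_relIndex)) (comap_mono inf_le_left) hi
    (u := ⟨u, hS.le hu⟩) (n := n) (Subtype.ext hn) (fun g k hk e => ⟨e, hev g g.2 k hk e⟩)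
    (T := ⊥) IsPGroup.of_bot (by simp) with ⟨N, -, h2, h3⟩ | ⟨g, hg, -⟩
  · refine (h3 (mem_map_subtype.1 ((hL.ge.trans (pRes_le_iff.2 fun g hg ho => ?_)) (hS.le hu)))).elim
    exact mem_map_subtype (x := ⟨g, hg⟩) |>.2 (Lyons.mem_of_odd_of_pow (k := 1)
      (by rw [← orderOf_coe]; exact Nat.coprime_two_right.1 ho) (by
        rw [pow_one]; exact sq_mem_of_index_two h2 _))
  · exact ⟨g, g.2, hg.2⟩

theorem amb_zstar [Finite G] {L : Subgroup G} {x : G} (hx : x ∈ L) (xx : x * x = 1)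
    (hi : ∀ g ∈ L, Commute x (g * x * g⁻¹) → g * x * g⁻¹ = x) {g : G} (hg : g ∈ L) :
    ∃ o ∈ oc L, ∃ c ∈ L, Commute c x ∧ g = o * c := by
  obtain ⟨o, ho, c, hc, e⟩ := Inv.exists_oddCore_mul_of_isIsolated (x := (⟨x, hx⟩ : L))
    (fun g hg => Subtype.ext (hi g g.2 (hg.map L.subtype))) ⟨1, Subtype.ext (by simpa [sq] using xx)⟩ ⟨g, hg⟩
  exact ⟨o, ⟨o, ho, rfl⟩, c, c.2, congrArg Subtype.val (mem_centralizer_singleton_iff.1 hc),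
    congrArg Subtype.val e⟩

theorem zp_comm {c A B : G} (hA : A ∈ zpowers c) (hB : B ∈ zpowers c) : Commute A B := by
  obtain ⟨i, rfl⟩ := hA
  obtain ⟨k, rfl⟩ := hB
  exact Commute.zpow_zpow_self _ _ _

theorem comm_or_inv {A : SL(2, F)} (h : A * ww * A⁻¹ = -ww) : A * ww * A⁻¹ = ww⁻¹ := by
  rw [h, inv_eq_neg_of_sq ww_ww]

namespace Tor2

variable {c w : SL(2, F)} {n : ℕ} (h : Tor2 c w n)
include h

theorem ww_mem : ww ∈ zpowers c := h.pow ▸ pow_mem (mem_zpowers c) _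

theorem neg_one_mem : -1 ∈ zpowers c := h.pow1 ▸ pow_mem (mem_zpowers c) _

theorem neg_mem {A : SL(2, F)} (hA : A ∈ zpowers c) : -A ∈ zpowers c := by
  simpa using mul_mem h.neg_one_mem hA

theorem pow_of_mem {A : SL(2, F)} (hA : A ∈ zpowers c) : A ^ 2 ^ (n + 2) = 1 := by
  obtain ⟨i, rfl⟩ := hA
  rw [← zpow_natCast, ← zpow_mul, mul_comm, zpow_mul, zpow_natCast, h.pow2, one_zpow]

theorem eq_ww {A : SL(2, F)} (hA : Commute A ww) (e : A * A = -1) : A = ww ∨ A = -ww := by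
  rw [← inv_eq_neg_of_sq ww_ww]
  exact eq_or_eq_inv_of_mem_cent h.quat.disc (mem_centralizer_singleton_iff.2 hA)
    ((SL_sq_eq_neg_one_iff.1 e).trans (SL_sq_eq_neg_one_iff.1 ww_ww).symm)

theorem w_ww : w * ww * w⁻¹ = -ww := by rw [h.quat.inverts, inv_eq_neg_of_sq ww_ww]

theorem comm_of_inv {A : SL(2, F)} (e : A * ww * A⁻¹ = -ww) : Commute (w * A) ww := by
  rw [Commute, SemiconjBy, mul_assoc, mul_inv_eq_iff_eq_mul.1 e, ← mul_assoc, mul_neg,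
    mul_inv_eq_iff_eq_mul.1 h.w_ww]
  simp [mul_assoc]

theorem not_comm : ¬ Commute w ww := fun e => h.quat.two_ne (by
  have := h.w_ww
  rw [e.eq, mul_inv_cancel_right] at this
  have := congrArg (fun A : SL(2, F) => A.1 0 1) this
  simp [Comm.Hex.coe_ww] at this
  linear_combination this)

end Tor2

/-- The graph of the homomorphism `⟨c₁, c₂, t⟩ → ⟨c⟩` with kernel `T₀`. -/
def Th (φ : SL(2, F) →* G) (t : G) (c : SL(2, F)) (x : G) (u : SL(2, F)) : Prop :=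
  ∃ A ∈ zpowers c, ∃ B ∈ zpowers c,
    (x = φ A * cjh t φ B ∧ u = A * B) ∨ (x = φ A * cjh t φ B * t ∧ u = -(A * B))

namespace Sw

variable {φ : SL(2, F) →* G} {t : G} (h : Sw φ t) {c w : SL(2, F)} {n : ℕ}
include h

local notation "j" => φ (-1)
local notation "ψ" => FW.cjh t φ
local notation "κ" => Sw0.κ h.toSw0

theorem mul_t_mul (A B A' B' : SL(2, F)) :
    φ A * ψ B * t * (φ A' * ψ B') = φ (A * B') * ψ (B * A') * t := by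
  rw [mul_assoc _ t, h.t_mul, ← mul_assoc, h.mul_mul]

theorem conj_t (A : SL(2, F)) : φ A * t * (φ A)⁻¹ = φ A * ψ A⁻¹ * t := by
  rw [← map_inv, mul_assoc, Sw0.t_φ h.tt, mul_assoc]

theorem conj_t_κ {A : SL(2, F)} (e : A * A = -1) : φ A * t * (φ A)⁻¹ = κ A * (t * j) := by
  rw [h.conj_t, inv_eq_neg_of_sq e, h.ψ_neg, h.tj.eq, h.κ_apply]; group

theorem conj_y_κ {A : SL(2, F)} (e : A * A = -1) : φ A * (t * j) * (φ A)⁻¹ = κ A * t := by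
  rw [← mul_assoc, mul_assoc _ j, ← (Sw0.φ_j A).inv_left.eq, ← mul_assoc, h.conj_t_κ e, mul_assoc,
    mul_assoc, Sw0.jj, mul_one]

theorem conj_κ_y {A : SL(2, F)} (e : A * A = -1) : IsConj j (κ A * (t * j)) :=
  h.fus.trans (isConj_iff.2 ⟨_, h.conj_t_κ e⟩)

theorem not_conj_κ_t {A : SL(2, F)} (e : A * A = -1) : ¬ IsConj j (κ A * t) := fun e' =>
  h.nfus (e'.trans (isConj_iff.2 ⟨_, h.conj_y_κ e⟩).symm)

theorem not_conj_κ (A : SL(2, F)) : ¬ IsConj j (κ A) := h.not_conj_Y (h.κ_mem A) (h.κ_ne_j A)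

theorem not_conj_κ_j {A : SL(2, F)} (e : A * A = -1) : ¬ IsConj j (κ A * j) :=
  h.not_conj_Y (mul_mem (h.κ_mem A) (Sw0.φ_mem _)) fun e' => h.κ_ne_one e (mul_eq_right.1 e')

theorem not_outer {x : G} (hx : x ∈ Yg φ t) : x * t ∉ N0 φ := fun e =>
  h.t_not (by simpa using mul_mem (inv_mem (h.Y_le hx)) e)

theorem conj_φ_outer {x : G} (hx : Commute x j) (n : x ∉ N0 φ) (A : SL(2, F)) :
    ∃ A', x * φ A * x⁻¹ = ψ A' := (h.range_change hx n).le ⟨A, rfl⟩ |>.imp fun _ e => e.symm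

theorem th_mul {x x' : G} {u u' : SL(2, F)} (a : Th φ t c x u) (a' : Th φ t c x' u') :
    Th φ t c (x * x') (u * u') := by
  obtain ⟨A, hA, B, hB, ⟨rfl, rfl⟩ | ⟨rfl, rfl⟩⟩ := a <;>
    obtain ⟨A', hA', B', hB', ⟨rfl, rfl⟩ | ⟨rfl, rfl⟩⟩ := a'
  · exact ⟨_, mul_mem hA hA', _, mul_mem hB hB', Or.inl ⟨h.mul_mul _ _ _ _,
      (zp_comm hB hA').mul_mul_mul_comm _ _⟩⟩
  · exact ⟨_, mul_mem hA hA', _, mul_mem hB hB', Or.inr ⟨by rw [← mul_assoc, h.mul_mul], by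
      rw [mul_neg, (zp_comm hB hA').mul_mul_mul_comm]⟩⟩
  · exact ⟨_, mul_mem hA hB', _, mul_mem hB hA', Or.inr ⟨h.mul_t_mul _ _ _ _, by
      rw [neg_mul, (zp_comm hA' hB').eq, (zp_comm hB hB').mul_mul_mul_comm]⟩⟩
  · exact ⟨_, mul_mem hA hB', _, mul_mem hB hA', Or.inl ⟨by
      rw [← mul_assoc, h.mul_t_mul, mul_assoc _ t, h.tt, mul_one], by
      rw [neg_mul_neg, (zp_comm hA' hB').eq, (zp_comm hB hB').mul_mul_mul_comm]⟩⟩

theorem th_unique {x : G} {u u' : SL(2, F)} (a : Th φ t c x u) (a' : Th φ t c x u') : u = u' := by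
  obtain ⟨A, -, B, -, ⟨rfl, rfl⟩ | ⟨rfl, rfl⟩⟩ := a <;>
    obtain ⟨A', -, B', -, ⟨e, rfl⟩ | ⟨e, rfl⟩⟩ := a'
  · rcases h.mul_eq e with ⟨rfl, rfl⟩ | ⟨rfl, rfl⟩ <;> simp
  · exact (h.not_outer (Sw0.mul_mem_Yg _ _) (e ▸ h.Y_le (Sw0.mul_mem_Yg _ _))).elim
  · exact (h.not_outer (Sw0.mul_mem_Yg _ _) (e ▸ h.Y_le (Sw0.mul_mem_Yg _ _))).elim
  · rcases h.mul_eq (mul_right_cancel e) with ⟨rfl, rfl⟩ | ⟨rfl, rfl⟩ <;> simp

omit h in
theorem th_φ {A : SL(2, F)} (hA : A ∈ zpowers c) : Th φ t c (φ A) A :=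
  ⟨A, hA, 1, one_mem _, Or.inl ⟨by simp, by simp⟩⟩

omit h in
theorem th_one : Th φ t c 1 1 := by simpa using th_φ (φ := φ) (t := t) (one_mem (zpowers c))

omit h in
theorem th_t : Th φ t c t (-1) := ⟨1, one_mem _, 1, one_mem _, Or.inr ⟨by simp, by simp⟩⟩

theorem th_pow {x : G} {u : SL(2, F)} (a : Th φ t c x u) (k : ℕ) : Th φ t c (x ^ k) (u ^ k) := by
  induction k with
  | zero => simpa using th_one
  | succ k ih => rw [pow_succ, pow_succ]; exact h.th_mul ih a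

theorem th_inv {x : G} {u : SL(2, F)} (a : Th φ t c x u) : Th φ t c x⁻¹ u⁻¹ := by
  obtain ⟨A, hA, B, hB, ⟨rfl, rfl⟩ | ⟨rfl, rfl⟩⟩ := a
  · exact ⟨_, inv_mem hA, _, inv_mem hB, Or.inl ⟨h.mul_inv' _ _, by
      rw [(zp_comm hA hB).eq, _root_.mul_inv_rev]⟩⟩
  · exact ⟨_, inv_mem hB, _, inv_mem hA, Or.inr ⟨by
      rw [_root_.mul_inv_rev, h.t_inv, h.mul_inv', h.t_mul], by rw [inv_neg, _root_.mul_inv_rev]⟩⟩

/-- `⟨c₁, c₂, t⟩`. -/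
def P2 (c : SL(2, F)) : Subgroup G where
  carrier := {x | ∃ u, Th φ t c x u}
  one_mem' := ⟨1, th_one⟩
  mul_mem' := fun ⟨_, a⟩ ⟨_, b⟩ => ⟨_, h.th_mul a b⟩
  inv_mem' := fun ⟨_, a⟩ => ⟨_, h.th_inv a⟩

theorem mul_mem_P2 {A B : SL(2, F)} (hA : A ∈ zpowers c) (hB : B ∈ zpowers c) : φ A * ψ B ∈ h.P2 c :=
  ⟨_, A, hA, B, hB, Or.inl ⟨rfl, rfl⟩⟩

theorem t_mem_P2 : t ∈ h.P2 c := ⟨_, th_t⟩

variable (τ : Tor2 c w n)
include τ

omit h in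
theorem th_mem {x : G} {u : SL(2, F)} (a : Th φ t c x u) : u ∈ zpowers c := by
  obtain ⟨A, hA, B, hB, ⟨-, rfl⟩ | ⟨-, rfl⟩⟩ := a
  exacts [mul_mem hA hB, τ.neg_mem (mul_mem hA hB)]

omit h in
theorem th_z : Th φ t c (φ ww * ψ ww) (-1) := ⟨_, τ.ww_mem, _, τ.ww_mem, Or.inl ⟨rfl, ww_ww.symm⟩⟩

theorem P2_pgrp : IsPGroup 2 (h.P2 c) := isPGroup_iff.2 (by
  rintro x ⟨u, A, hA, B, hB, ⟨rfl, -⟩ | ⟨rfl, -⟩⟩
  · exact ⟨n + 2, by rw [h.mul_pow', τ.pow_of_mem hA, τ.pow_of_mem hB]; simp⟩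
  · exact ⟨n + 2 + 1, by
      rw [pow_succ', pow_mul, sq, h.outer_sq, h.mul_pow', τ.pow_of_mem (mul_mem hA hB),
        τ.pow_of_mem (mul_mem hB hA)]; simp⟩)

theorem W_conj {A B : SL(2, F)} (hA : Commute A ww) (hB : Commute B ww) :
    κ w * (φ A * ψ B) * (κ w)⁻¹ = φ A⁻¹ * ψ B⁻¹ := by
  rw [h.κ_apply, h.conj_mul', τ.inverts hA, τ.inverts hB]

theorem WW : κ w * κ w = 1 := h.κ_sq τ.ww'

theorem W_z : Commute (κ w) (κ ww) := by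
  rw [Commute, SemiconjBy, ← map_mul, ← map_mul, mul_inv_eq_iff_eq_mul.1 τ.w_ww, neg_mul, h.κ_neg]

theorem W_norm : κ w ∈ 𝐍[h.P2 c] := by
  have key : ∀ x ∈ h.P2 c, κ w * x * (κ w)⁻¹ ∈ h.P2 c := by
    rintro x ⟨u, A, hA, B, hB, ⟨rfl, -⟩ | ⟨rfl, -⟩⟩
    · rw [h.W_conj τ (zp_comm hA τ.ww_mem) (zp_comm hB τ.ww_mem)]
      exact h.mul_mem_P2 (inv_mem hA) (inv_mem hB)
    · rw [← conj_mul, h.W_conj τ (zp_comm hA τ.ww_mem) (zp_comm hB τ.ww_mem), ← (h.t_κ w).eq,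
        mul_inv_cancel_right]
      exact mul_mem (h.mul_mem_P2 (inv_mem hA) (inv_mem hB)) h.t_mem_P2
  refine mem_normalizer_iff.2 fun x => ⟨key x, fun hx => ?_⟩
  have := key _ hx
  rwa [show κ w * (κ w * x * (κ w)⁻¹) * (κ w)⁻¹ = κ w * κ w * x * (κ w * κ w)⁻¹ by group, h.WW τ,
    one_mul, inv_one, mul_one] at this

theorem comm_z {A B : SL(2, F)} (hA : Commute A ww) (hB : Commute B ww) : Commute (φ A * ψ B) (κ ww) := by
  rw [Commute, SemiconjBy, h.κ_apply, h.mul_mul, h.mul_mul, hA.eq, hB.eq]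

theorem P2_le [Finite G] : h.P2 c ≤ 𝐳[j] ⊓ 𝐳[κ ww] := by
  have key : ∀ {A B}, A ∈ zpowers c → B ∈ zpowers c → φ A * ψ B ∈ 𝐳[j] ⊓ 𝐳[κ ww] := fun hA hB =>
    ⟨Lyons.mem_cent.2 ((Sw0.φ_j _).mul_left (h.ψ_j _)).symm,
      Lyons.mem_cent.2 (h.comm_z τ (zp_comm hA τ.ww_mem) (zp_comm hB τ.ww_mem)).symm⟩
  rintro x ⟨u, A, hA, B, hB, ⟨rfl, -⟩ | ⟨rfl, -⟩⟩
  · exact key hA hB
  · exact mul_mem (key hA hB) ⟨Lyons.mem_cent.2 h.tj.symm, Lyons.mem_cent.2 (h.t_κ _).symm⟩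

theorem mem_T {x : G} (hx : x ∈ h.P2 c ⊔ zpowers (κ w)) : x ∈ h.P2 c ∨ κ w * x ∈ h.P2 c := by
  rw [sup_comm] at hx
  obtain ⟨y, hy, x', hx', rfl⟩ := (mem_sup_of_le_normalizer_right (zpowers_le.2 (h.W_norm τ))).1 hx
  rcases (Misc.SL2C.mem_zpowers_iff_of_sq (h.WW τ)).1 hy with e | e <;> rw [e]
  · exact Or.inl (by simpa using hx')
  · exact Or.inr (by rwa [← mul_assoc, h.WW τ, one_mul])

theorem T_le [Finite G] : h.P2 c ⊔ zpowers (κ w) ≤ 𝐳[j] ⊓ 𝐳[κ ww] :=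
  sup_le (h.P2_le τ) (zpowers_le.2 ⟨Lyons.mem_cent.2 (h.κ_j w).symm, Lyons.mem_cent.2 (h.W_z τ).symm⟩)

omit τ in
theorem comm_z_cases {A B : SL(2, F)} (e : Commute (φ A * ψ B) (κ ww)) :
    (Commute A ww ∧ Commute B ww) ∨ (A * ww * A⁻¹ = -ww ∧ B * ww * B⁻¹ = -ww) := by
  have := h.conj_mul' A B ww ww
  rw [← h.κ_apply, e.eq, mul_inv_cancel_right] at this
  exact (h.mul_eq this.symm).imp_left fun e =>
    ⟨mul_inv_eq_iff_eq_mul.1 e.1, mul_inv_eq_iff_eq_mul.1 e.2⟩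

theorem mem_P2_of_pow {A B : SL(2, F)} (hA : Commute A ww) (hB : Commute B ww) {k : ℕ}
    (e : (φ A * ψ B) ^ 2 ^ k = 1) : φ A * ψ B ∈ h.P2 c := by
  rw [h.mul_pow'] at e
  refine h.mul_mem_P2 (τ.gen A (k + 1) hA ?_) (τ.gen B (k + 1) hB ?_) <;>
    rcases h.mul_eq_one e with ⟨e1, e2⟩ | ⟨e1, e2⟩ <;> simp [pow_succ, pow_mul, e1, e2]

theorem isSyl_T [Finite G] : IsSyl 2 (h.P2 c ⊔ zpowers (κ w)) 𝐳[κ ww] := by
  have hW : κ w ∈ h.P2 c ⊔ zpowers (κ w) := mem_sup_right (mem_zpowers _)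
  have ht : t ∈ h.P2 c ⊔ zpowers (κ w) := mem_sup_left h.t_mem_P2
  have h1 : IsSyl 2 (h.P2 c ⊔ zpowers (κ w)) (𝐳[j] ⊓ 𝐳[κ ww]) := by
    refine ⟨h.T_le τ, ?_, fun R hR h1 h2 => ?_⟩
    · rw [sup_comm]
      exact isPGroup_sup (isPGroup_zpowers ⟨1, by rw [pow_one, sq, h.WW τ]⟩) (h.P2_pgrp τ)
        (zpowers_le.2 (h.W_norm τ))
    have key : ∀ r ∈ R, r ∈ N0 φ → r ∈ h.P2 c ⊔ zpowers (κ w) := fun r hr hn => by
      obtain ⟨k, hk⟩ := isPGroup_iff.1 hR r hr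
      obtain ⟨A, B, rfl⟩ := h.mem_Yg.1 (h.two_mem hn hk)
      rcases h.comm_z_cases (Lyons.mem_cent.1 (h2 hr).2).symm with ⟨a, b⟩ | ⟨a, b⟩
      · exact mem_sup_left (h.mem_P2_of_pow τ a b hk)
      · obtain ⟨k, hk⟩ := isPGroup_iff.1 hR _ (mul_mem (h1 hW) hr)
        rw [h.κ_apply, h.mul_mul] at hk
        have := h.mem_P2_of_pow τ (τ.comm_of_inv a) (τ.comm_of_inv b) hk
        rw [← h.mul_mul] at this
        exact (mul_mem_cancel_left hW).1 (mem_sup_left this)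
    intro r hr
    rcases h.mem_or' (Lyons.mem_cent.1 (h2 hr).1).symm with hn | hn
    · exact key r hr hn
    · exact (mul_mem_cancel_right ht).1 (key _ (mul_mem hr (h1 ht)) hn)
  refine isSyl_of_isSyl_normalizer (h1.mono (le_inf (h1.le.trans inf_le_right) le_normalizer)
    fun g hg => ⟨?_, hg.1⟩)
  have hj : j ∈ h.P2 c ⊔ zpowers (κ w) := mem_sup_left ⟨_, th_φ τ.neg_one_mem⟩
  have h2 := conj_mem_of_mem_normalizer hg.2 hj
  by_contra hn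
  have h3 := h.not_mem_of_conj (x := g * j * g⁻¹)
    (fun e => hn (mem_centralizer_singleton_iff.2 (mul_inv_eq_iff_eq_mul.1 e))) (isConj_iff.2 ⟨g, rfl⟩)
  obtain ⟨A, e⟩ := h.conj_φ_outer (Lyons.mem_cent.1 (h1.le h2).1).symm h3 ww
  have h4 := Lyons.mem_cent.1 (h1.le (inv_conj_mem_of_mem_normalizer hg.2
    (mem_sup_left ⟨_, th_φ τ.ww_mem⟩))).1
  have h5 : Commute (g * j * g⁻¹) (φ ww) := by
    simpa [mul_assoc] using h4.map (MulAut.conj g).toMonoidHom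
  rw [h5.eq, mul_inv_cancel_right] at e
  have := ww_ww (F := F)
  rcases h.inter _ _ e with e | e <;> rw [e] at this <;> exact h.neg_one_ne (by simpa using this.symm)

theorem invol_P2 {v : G} (hv : v ∈ h.P2 c) (vv : v * v = 1) :
    v = 1 ∨ v = κ ww ∨ IsConj j v ∨ IsConj j (v * κ ww) := by
  obtain ⟨u, A, hA, B, hB, ⟨rfl, -⟩ | ⟨rfl, -⟩⟩ := hv
  · rcases h.invol_Y vv with e | e | ⟨a, b⟩
    · exact Or.inl e
    · exact Or.inr (Or.inr (Or.inl (e ▸ IsConj.refl _)))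
    · rcases τ.eq_ww (zp_comm hA τ.ww_mem) a with rfl | rfl <;>
        rcases τ.eq_ww (zp_comm hB τ.ww_mem) b with rfl | rfl
      · exact Or.inr (Or.inl rfl)
      · exact Or.inr (Or.inr (Or.inr (by
          rw [h.κ_apply, h.mul_mul, neg_mul, ww_ww, neg_neg, map_one, mul_one])))
      · exact Or.inr (Or.inr (Or.inr (by
          rw [h.κ_apply, h.mul_mul, neg_mul, ww_ww, neg_neg, map_one, one_mul, h.neg])))
      · exact Or.inr (Or.inl (h.neg_neg' _ _))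
  · rw [h.outer_sq] at vv
    rcases h.mul_eq_one vv with ⟨e, -⟩ | ⟨e, -⟩
    · rw [← inv_eq_of_mul_eq_one_right e, ← h.conj_t]
      exact Or.inr (Or.inr (Or.inl (h.fus.trans (isConj_iff.2 ⟨_, rfl⟩))))
    · obtain rfl : B = -A⁻¹ := by rw [← inv_mul_cancel_left A B, e, mul_neg, mul_one]
      refine Or.inr (Or.inr (Or.inr ((h.conj_κ_y ww_ww).trans (isConj_iff.2 ⟨φ A, ?_⟩))))
      have := h.comm_z τ (zp_comm hA τ.ww_mem) (Commute.one_left ww)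
      rw [map_one, mul_one] at this
      rw [← conj_mul, this.eq, mul_inv_cancel_right, ← conj_mul, h.conj_t, (Sw0.φ_j A).eq,
        mul_inv_cancel_right, h.ψ_neg, mul_assoc _ t, h.tj.eq]
      have := ((h.comm_z τ (zp_comm hA τ.ww_mem) (zp_comm (inv_mem hA) τ.ww_mem)).mul_left
        ((h.κ_j ww).symm.mul_left (h.t_κ ww))).eq
      rw [← this]; group

/-- The elements of the kernel `T₀`. -/
theorem th_one_cases {x : G} (a : Th φ t c x 1) :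
    ∃ A ∈ zpowers c, x = φ A * ψ A⁻¹ ∨ x = φ A * (t * j) * (φ A)⁻¹ := by
  obtain ⟨A, hA, B, -, ⟨rfl, e⟩ | ⟨rfl, e⟩⟩ := a
  · exact ⟨A, hA, Or.inl (by rw [inv_eq_of_mul_eq_one_right e.symm])⟩
  · obtain rfl : B = -A⁻¹ := by
      rw [← inv_mul_cancel_left A B, neg_eq_iff_eq_neg.1 e.symm, mul_neg, mul_one]
    exact ⟨A, hA, Or.inr (by
      rw [← conj_mul, h.conj_t, (Sw0.φ_j A).eq, mul_inv_cancel_right, h.ψ_neg, mul_assoc _ t, h.tj.eq]; group)⟩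

end Sw

end Cfsg.Agent.FW
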