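import Mathlib
import Cfsg.Agent.FW.SpT

/-!
The centraliser of `z = κ ww`, seen from two conjugate configurations.
-/

set_option autoImplicit false
set_option linter.unusedSectionVars false

namespace Cfsg.Agent.FW

open Cfsg.Agent.KSG.M2 hiding dg coe_dg
open Cfsg.Agent.KSG Cfsg.Agent.RootSub Subgroup Cfsg.Agent.PLocal Cfsg.Agent.PLocal.Amb
open Cfsg.Agent.Lyons (oc mem_cent)
open scoped MatrixGroups Cfsg.Agent.Lyons

variable {F G : Type*} [Field F] [Group G]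

/-- Two configurations: `κ ww` of the first is `t' j'` of the second. -/
structure Host (φ : SL(2, F) →* G) (t : G) (φ' : SL(2, F) →* G) (t' : G) (c w : SL(2, F)) (n : ℕ) :
    Prop where
  sw : Sw φ t
  sw' : Sw φ' t'
  tor : Tor2 c w n
  neg' : φ' (-1) = φ w * cjh t φ w * (t * φ (-1))
  yz' : t' * φ' (-1) = φ ww * cjh t φ ww

theorem isConj_congr {a b x y : G} (h1 : IsConj a b) (h2 : IsConj x y) : IsConj a x ↔ IsConj b y :=
  ⟨fun e => (h1.symm.trans e).trans h2, fun e => (h1.trans e).trans h2.symm⟩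

theorem isConj_cj (g x : G) : IsConj x (g * x * g⁻¹) := isConj_iff.2 ⟨g, rfl⟩

theorem comm_cj {a b : G} (h : Commute a b) (g : G) : Commute (g * a * g⁻¹) (g * b * g⁻¹) :=
  h.map (MulAut.conj g).toMonoidHom

theorem Tor2.ww_w {c w : SL(2, F)} {n : ℕ} (τ : Tor2 c w n) : ww * w * (ww * w) = -1 :=
  SL_sq_eq_neg_one_iff.2 τ.quat.trace_mul

theorem Sw.jz {φ : SL(2, F) →* G} {t : G} (h : Sw φ t) {c w : SL(2, F)} {n : ℕ} (τ : Tor2 c w n) :
    Commute (h.κ ww) (h.κ w * (t * φ (-1))) :=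
  (h.W_z τ).symm.mul_right ((h.t_κ _).symm.mul_right (h.κ_j _))

theorem Sw0.of_κ_sq {φ : SL(2, F) →* G} {t : G} (h : Sw0 φ t) {A : SL(2, F)} (e : h.κ A * h.κ A = 1) :
    h.κ A = 1 ∨ A * A = -1 := by
  rw [← map_mul, ← map_one h.κ] at e
  refine (h.κ_eq e).imp_left fun e => ?_
  rcases (SL_sq_eq_one_iff h.two).1 ((sq _).trans e) with rfl | rfl
  exacts [map_one _, (h.κ_neg 1).trans (map_one _)]

theorem Sw.exists_host {φ : SL(2, F) →* G} {t : G} (h : Sw φ t) {c w : SL(2, F)} {n : ℕ}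
    (τ : Tor2 c w n) : ∃ g, Host φ t (FW.cjh g φ) (g * t * g⁻¹) c w n := by
  obtain ⟨x, hx⟩ := isConj_iff.1 (h.conj_κ_y τ.ww')
  have h1 : IsConj (φ (-1)) (x⁻¹ * (h.κ ww * (h.κ w * (t * φ (-1)))) * x⁻¹⁻¹) := by
    rw [← mul_assoc (h.κ ww), ← map_mul]
    exact (h.conj_κ_y τ.ww_w).trans (isConj_cj _ _)
  have h2 : x⁻¹ * (h.κ ww * (h.κ w * (t * φ (-1)))) * x⁻¹⁻¹ = x⁻¹ * h.κ ww * x⁻¹⁻¹ * φ (-1) := by
    rw [← hx]; group
  have h3 : Commute (x⁻¹ * h.κ ww * x⁻¹⁻¹) (φ (-1)) := by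
    have := comm_cj (h.jz τ) x⁻¹
    rwa [← hx, show x⁻¹ * (x * φ (-1) * x⁻¹) * x⁻¹⁻¹ = φ (-1) by group] at this
  obtain ⟨d, hd, e⟩ := h.invol_outer_j (h2 ▸ h3.mul_left (Commute.refl _))
    (h.not_mem_of_conj (fun e => h.κ_ne_one ww_ww (by
      rw [h2, mul_eq_right, conj_eq_one_iff] at e; exact e)) h1) h1
  have e1 : x * d⁻¹ * φ (-1) * (x * d⁻¹)⁻¹ = h.κ w * (t * φ (-1)) := by
    rw [← hx, mul_assoc x, (N0.comm_j hd).inv_left.eq]; group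
  have e2 : x * d⁻¹ * t * (x * d⁻¹)⁻¹ = h.κ ww * (h.κ w * (t * φ (-1))) := by
    rw [← congrArg (fun a => x * d⁻¹ * a * (x * d⁻¹)⁻¹) e]; group
  refine ⟨x * d⁻¹, h, h.cjh _, τ, e1, ?_⟩
  rw [cjh_apply, e2, ← e1, mul_assoc, conj_mul, Sw0.jj]
  simp [h.κ_apply]

namespace Host

variable {φ φ' : SL(2, F) →* G} {t t' : G} {c w : SL(2, F)} {n : ℕ} (H : Host φ t φ' t' c w n)
include H

local notation "j" => φ (-1)
local notation "j'" => φ' (-1)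
local notation "ψ" => FW.cjh t φ
local notation "κ" => Sw0.κ (Sw.toSw0 (Host.sw H))
local notation "κ'" => Sw0.κ (Sw.toSw0 (Host.sw' H))

theorem neg : j' = κ w * (t * j) := H.neg'

theorem yz : t' * j' = κ ww := H.yz'

theorem zz : κ ww * κ ww = 1 := H.sw.κ_sq ww_ww

theorem z_ne : κ ww ≠ 1 := H.sw.κ_ne_one ww_ww

theorem jj' : IsConj j j' := H.neg ▸ H.sw.conj_κ_y H.tor.ww'

theorem t'_eq : t' = κ ww * j' := by rw [← H.yz, mul_assoc, Sw0.jj, mul_one]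

theorem z_j' : Commute (κ ww) j' := H.neg ▸ H.sw.jz H.tor

theorem comm_t' {x : G} (hz : Commute x (κ ww)) (hj : Commute x j') : Commute x t' :=
  H.t'_eq ▸ hz.mul_right hj

theorem κ'_z (A : SL(2, F)) : Commute (κ' A) (κ ww) :=
  H.yz ▸ (H.sw'.t_κ A).symm.mul_right (H.sw'.κ_j A)

theorem j'_mem : j' ∈ H.sw.P2 c ⊔ zpowers (κ w) :=
  H.neg ▸ mul_mem (mem_sup_right (mem_zpowers _))
    (mem_sup_left (mul_mem H.sw.t_mem_P2 ⟨_, Sw.th_φ H.tor.neg_one_mem⟩))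

theorem cjh (g : G) : Host (cjh g φ) (g * t * g⁻¹) (cjh g φ') (g * t' * g⁻¹) c w n :=
  ⟨H.sw.cjh g, H.sw'.cjh g, H.tor, by simp only [cjh_apply, H.neg']; group,
    by simp only [cjh_apply, conj_mul, H.yz']; group⟩

theorem invol_K {u : G} (uu : u * u = 1) (hz : Commute u (κ ww)) (hj : Commute u j') (h1 : ¬ IsConj j u)
    (h2 : IsConj j (u * κ ww)) : ∃ A, A * A = -1 ∧ u = κ' A := by
  have h' := H.sw'
  rw [isConj_congr H.jj' (IsConj.refl _)] at h1 h2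
  rw [← H.yz] at h2
  obtain ⟨A, e⟩ := h'.two_comm_t hj (H.comm_t' hz hj) (k := 1) (by rw [pow_one, sq, uu])
  have hA : κ' A = 1 ∨ A * A = -1 := h'.of_κ_sq (by
    rcases e with rfl | rfl | rfl | rfl
    · exact uu
    · rwa [(h'.κ_j A).symm.mul_mul_mul_comm, Sw0.jj, mul_one] at uu
    · rwa [(h'.t_κ A).mul_mul_mul_comm, h'.tt, mul_one] at uu
    · rwa [((h'.t_κ A).mul_left (h'.κ_j A).symm).mul_mul_mul_comm, h'.yy1, mul_one] at uu)
  rcases e with rfl | rfl | rfl | rfl <;> rcases hA with e | e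
  · rw [e, one_mul] at h2; exact (h'.nfus h2).elim
  · exact ⟨A, e, rfl⟩
  · rw [e, one_mul] at h1; exact (h1 (IsConj.refl _)).elim
  · rw [mul_assoc, h'.tj.eq, ← mul_assoc j', Sw0.jj, one_mul] at h2
    exact (h'.not_conj_κ_t e h2).elim
  · rw [e, one_mul] at h1; exact (h1 h'.fus).elim
  · rw [mul_assoc, ← mul_assoc t', h'.tt, one_mul] at h2
    exact (h'.not_conj_κ_j e h2).elim
  · rw [mul_assoc, h'.yy1, e, one_mul] at h2
    exact (h'.j_ne (isConj_one_left.1 h2)).elim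
  · exact (h1 (h'.conj_κ_y e)).elim

theorem y_conj {A : SL(2, F)} (hA : A ∈ zpowers c) :
    ∃ B, B * B = -1 ∧ φ A * (t * j) * (φ A)⁻¹ = κ' B := by
  have h := H.sw
  have a := zp_comm hA H.tor.ww_mem
  have hz : Commute (φ A) (κ ww) := by simpa using h.comm_z H.tor a (Commute.one_left ww)
  have hy : Commute (t * j) (κ ww) := (h.t_κ _).mul_left (h.κ_j _).symm
  refine H.invol_K (by rw [conj_mul, h.yy1]; simp) ((hz.mul_left hy).mul_left hz.inv_left) ?_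
    (fun e => h.nfus (e.trans (isConj_cj _ _).symm)) ?_
  · rw [← conj_mul, h.conj_t, (Sw0.φ_j A).eq, mul_inv_cancel_right, mul_assoc _ t, H.neg]
    refine Commute.mul_left ?_ (((h.t_κ _).mul_left (h.κ_j _).symm).mul_right (Commute.refl _))
    have e1 := h.W_conj H.tor a.inv_left a
    rw [inv_inv, mul_inv_eq_iff_eq_mul] at e1
    rw [Commute, SemiconjBy, ← mul_assoc, ← e1, mul_assoc (κ w), mul_assoc (κ w), ← mul_assoc _ t,
      ← h.t_mul, mul_assoc t, mul_assoc t, ((Sw0.φ_j A).mul_left (h.ψ_j A⁻¹)).eq]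
  · rw [mul_assoc, hz.inv_left.eq, ← mul_assoc, mul_assoc (φ A), hy.eq]
    exact (h.conj_κ_y ww_ww).trans (isConj_cj _ _)

theorem y_K : ∃ B, B * B = -1 ∧ t * j = κ' B := by simpa using H.y_conj (one_mem _)

theorem th_K {x : G} (a : Th φ t c x 1) : x ∈ (κ').range := by
  obtain ⟨A, hA, rfl | rfl⟩ := H.sw.th_one_cases H.tor a
  · obtain ⟨B, -, e⟩ := H.y_conj hA
    obtain ⟨B', -, e'⟩ := H.y_K
    refine ⟨B * B', ?_⟩
    rw [map_mul, ← e, ← e', ← conj_mul, H.sw.conj_t, (Sw0.φ_j A).eq, mul_inv_cancel_right, mul_assoc _ t,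
      mul_assoc _ (t * j), H.sw.yy1, mul_one]
  · obtain ⟨B, -, e⟩ := H.y_conj hA
    exact ⟨B, e.symm⟩

variable [Fintype F] [Finite G]

/-- `O²(C(z))`. -/
abbrev D0 : Subgroup G := 𝐎[2, 𝐳[κ ww]]

local notation "D₀" => Host.D0 H
local notation "T" => Sw.P2 (Host.sw H) c ⊔ zpowers (κ w)

theorem K_le : (κ').range ≤ D₀ := by
  have key : ∀ A : SL(2, F), Odd (orderOf A) → A ∈ (D₀).comap κ' := fun A o =>
    mem_pRes (mem_cent.2 (H.κ'_z A).symm)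
      (Nat.coprime_two_right.2 (o.of_dvd_nat (orderOf_map_dvd _ _)))
  have := sl2_eq_top (fun r => key _ (odd_xx H.sw.two r)) fun r => key _ (by
    rw [← neg_neg r, ← ww_conj_xx, Amb.orderOf_conj']; exact odd_xx H.sw.two _)
  rintro _ ⟨A, rfl⟩
  exact this.ge (mem_top A)

theorem isSyl : IsSyl 2 (T ⊓ D₀) D₀ :=
  (H.sw.isSyl_T H.tor).inf_of_le (pRes_le _ _) (le_normalizer_pRes _ _)

theorem mem_S {x x' : G} {u : SL(2, F)} (hx : x ∈ T ⊓ D₀) (a : Th φ t c x u) (a' : Th φ t c x' u) :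
    x' ∈ T ⊓ D₀ := by
  have := H.sw.th_mul (H.sw.th_inv a) a'
  rw [inv_mul_cancel] at this
  exact (mul_mem_cancel_left (inv_mem hx)).1 ⟨mem_sup_left ⟨_, this⟩, H.K_le (H.th_K this)⟩

theorem S_le_P2 : T ⊓ D₀ ≤ H.sw.P2 c := fun x hx => by
  have h := H.sw
  by_contra hn
  obtain ⟨u, a⟩ := (h.mem_T H.tor hx.1).resolve_left hn
  have hu := Sw.th_mem H.tor a
  have a' := h.th_mul (h.th_inv a) (Sw.th_φ hu)
  rw [inv_mul_cancel] at a'
  have e0 : x * ((κ w * x)⁻¹ * φ u) = φ (w * u) * ψ w := by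
    rw [_root_.mul_inv_rev, inv_eq_of_mul_eq_one_left (h.WW H.tor), mul_assoc, mul_inv_cancel_left,
      h.κ_apply, map_mul, mul_assoc, mul_assoc, (h.comm u w).eq]
  have hx' : φ (w * u) * ψ w ∈ T ⊓ D₀ :=
    e0 ▸ mul_mem hx ⟨mem_sup_left ⟨_, a'⟩, H.K_le (H.th_K a')⟩
  have hn' : φ (w * u) * ψ w ∉ h.P2 c := fun e => hn (((h.P2 c).mul_mem_cancel_right ⟨_, a'⟩).1 (e0 ▸ e))
  have hsq : (φ (w * u) * ψ w) ^ 2 = 1 := by
    rw [sq, h.mul_mul, H.tor.mul_sq (zp_comm hu H.tor.ww_mem), H.tor.ww', h.neg, Sw0.jj]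
  obtain ⟨g, hg, e⟩ := amb_thompson (pRes_pRes 2 _) H.isSyl (M := h.P2 c) (fun x hx y hy n n' => by
      simpa [mul_assoc] using mul_mem (inv_mem ((h.mem_T H.tor (inv_mem hx.1)).resolve_left
        (by rwa [inv_mem_iff]))) ((h.mem_T H.tor hy.1).resolve_left n')) hx' hn' (n := 1) hsq (by
    rintro g - k ⟨k, rfl⟩ -
    rw [← two_mul, pow_mul, hsq]; simp)
  have hz := (mem_cent.1 (pRes_le _ _ hg)).symm
  have hj : j ∈ h.P2 c := ⟨_, Sw.th_φ H.tor.neg_one_mem⟩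
  have hz' : κ ww ∈ h.P2 c := ⟨_, Sw.th_z H.tor⟩
  refine hn' ?_
  rcases h.invol_P2 H.tor e (by rw [conj_mul, ← sq, hsq]; simp) with e | e | e | e
  · rw [conj_eq_one_iff.1 e]; exact one_mem _
  · rw [← Lyons.conj_eq_of_comm hz.symm, mul_left_inj, mul_right_inj] at e
    exact e ▸ hz'
  · rw [h.nfusY _ _ (e.trans (isConj_cj _ _).symm)]; exact hj
  · rw [← Lyons.conj_eq_of_comm hz.symm, conj_mul] at e
    have := e.trans (isConj_cj _ _).symm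
    rw [h.κ_apply, h.mul_mul] at this
    have := h.nfusY _ _ this
    rw [← h.mul_mul] at this
    exact (mul_mem_cancel_right hz').1 (this ▸ hj)

theorem exists_root {u : SL(2, F)} (hu : u ∈ zpowers c) {k : ℕ} (e : u ^ 2 ^ k = -1) :
    ∃ x, Th φ t c x u ∧ x ^ 2 ^ k = κ ww := by
  have h := H.sw
  obtain _ | k := k
  · rw [pow_zero, pow_one] at e
    exact ⟨_, e ▸ Sw.th_z H.tor, by simp [h.κ_apply]⟩
  refine ⟨_, ⟨_, H.tor.neg_mem hu, 1, one_mem _, Or.inr ⟨rfl, by simp⟩⟩, ?_⟩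
  rw [pow_succ', pow_mul, sq, h.outer_sq, mul_one, one_mul, h.neg_neg', ← h.κ_apply, ← map_pow]
  rw [pow_succ, pow_mul, sq] at e
  rcases H.tor.eq_ww (zp_comm (pow_mem hu _) H.tor.ww_mem) e with e | e <;> rw [e]
  exact h.κ_neg _

theorem th_S {x : G} (hx : x ∈ T ⊓ D₀) : Th φ t c x 1 := by
  have h := H.sw
  have key : ∀ m : ℕ, (∀ x ∈ T ⊓ D₀, ∀ u, Th φ t c x u → u ^ 2 ^ m = 1) →
      ∀ x ∈ T ⊓ D₀, ∀ u, Th φ t c x u → u = 1 := by
    intro m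
    induction m with
    | zero => simp only [pow_zero, pow_one]; exact id
    | succ k ih =>
    refine fun hm => ih fun x hx u a => by_contra fun hn => ?_
    have hneg : ∀ x ∈ T ⊓ D₀, ∀ u, Th φ t c x u → u ^ 2 ^ k ≠ 1 → u ^ 2 ^ k = -1 := fun x hx u a n =>
      ((SL_sq_eq_one_iff h.two).1 (by rw [← pow_mul, ← pow_succ, hm x hx u a])).resolve_left n
    obtain ⟨x', a', e'⟩ := H.exists_root (Sw.th_mem H.tor a) (hneg x hx u a hn)
    have hc : ∀ {x x' u u'}, Th φ t c x u → Th φ t c x' u' → (u * u') ^ 2 ^ k = u ^ 2 ^ k * u' ^ 2 ^ k :=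
      fun a b => (zp_comm (Sw.th_mem H.tor a) (Sw.th_mem H.tor b)).mul_pow _
    let M : Subgroup G :=
      { carrier := {x | ∃ u, Th φ t c x u ∧ u ^ 2 ^ k = 1}
        one_mem' := ⟨1, Sw.th_one, one_pow _⟩
        mul_mem' := fun ⟨_, a, e⟩ ⟨_, b, e'⟩ => ⟨_, h.th_mul a b, by rw [hc a b, e, e', mul_one]⟩
        inv_mem' := fun ⟨_, a, e⟩ => ⟨_, h.th_inv a, by rw [inv_pow, e, inv_one]⟩ }
    have h1 : x' ^ 2 ^ (k + 1) = 1 := by rw [pow_succ, pow_mul, e', sq, H.zz]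
    obtain ⟨g, hg, v, b, e⟩ := amb_thompson (pRes_pRes 2 _) H.isSyl (M := M) (fun x hx y hy n n' => by
        obtain ⟨u, a⟩ := H.S_le_P2 hx
        obtain ⟨v, b⟩ := H.S_le_P2 hy
        exact ⟨_, h.th_mul a b, by
          rw [hc a b, hneg x hx u a fun e => n ⟨u, a, e⟩, hneg y hy v b fun e => n' ⟨v, b, e⟩]; simp⟩)
      (H.mem_S hx a a') (fun ⟨v, b, e⟩ => hn (h.th_unique a' b ▸ e)) h1 (by
        rintro g - _ ⟨l, rfl⟩ hs
        obtain ⟨v, b⟩ := H.S_le_P2 hs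
        refine ⟨v, b, h.th_unique (h.th_pow b _) ?_⟩
        rw [conj_pow, ← pow_mul, ← two_mul, show 2 * l * 2 ^ k = 2 ^ (k + 1) * l by ring, pow_mul, h1]
        simpa using Sw.th_one)
    have := h.th_pow b (2 ^ k)
    rw [conj_pow, e', e, Lyons.conj_eq_of_comm (mem_cent.1 (pRes_le _ _ hg))] at this
    exact h.neg_one_ne (h.th_unique (Sw.th_z H.tor) this)
  obtain ⟨u, a⟩ := H.S_le_P2 hx
  exact key (n + 2) (fun x _ u a => H.tor.pow_of_mem (Sw.th_mem H.tor a)) x hx u a ▸ a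

theorem invol_D0 {s : G} (hs : s ∈ D₀) (ss : s * s = 1) :
    ∃ g ∈ D₀, g * s * g⁻¹ ∈ (κ').range := by
  obtain ⟨g, hg, e⟩ := Lyons.exists_conj_mem H.isSyl hs (k := 1) (by rw [pow_one, sq, ss])
  exact ⟨g, hg, H.th_K (H.th_S e)⟩

theorem j'_norm : j' ∈ 𝐍[D₀] := le_normalizer_pRes _ _ (mem_cent.2 H.z_j')

theorem decomp {d : G} (hd : d ∈ D₀) : ∃ o ∈ oc D₀, ∃ x ∈ D₀, Commute x j' ∧ d = o * x := by
  have hle : D₀ ⊔ zpowers j' ≤ 𝐳[κ ww] := sup_le (pRes_le _ _) (zpowers_le.2 (mem_cent.2 H.z_j'))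
  have ho : oc (D₀ ⊔ zpowers j') ≤ D₀ := fun x hx => mem_pRes (hle (Lyons.oc_le _ hx))
    (Nat.coprime_two_right.2 (Lyons.odd_orderOf (Lyons.odd_oc _) hx))
  obtain ⟨o, h1, x, -, h2, rfl⟩ := amb_zstar (mem_sup_right (mem_zpowers j')) Sw0.jj (fun g hg e => by
    have hs : g * j' * g⁻¹ * j' ∈ D₀ := by
      obtain ⟨d, hd, y, hy, rfl⟩ := (mem_sup_of_le_normalizer_left (zpowers_le.2 H.j'_norm)).1 hg
      have := mul_mem hd (conj_mem_of_mem_normalizer H.j'_norm (inv_mem hd))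
      rw [mul_assoc d, (zp_comm hy (mem_zpowers _)).eq]
      simpa [Sw0.j_inv, mul_assoc] using this
    have ss : g * j' * g⁻¹ * j' * (g * j' * g⁻¹ * j') = 1 := by
      rw [e.mul_mul_mul_comm, conj_mul, Sw0.jj]; simp
    obtain ⟨g', hg', A, e1⟩ := H.invol_D0 hs ss
    have hz := Lyons.conj_eq_of_comm (mem_cent.1 (pRes_le _ _ hg'))
    rcases H.sw'.of_κ_sq (A := A) (by rw [e1, conj_mul, ss]; simp) with e2 | e2
    · rw [e2, eq_comm, conj_eq_one_iff, mul_eq_one_iff_eq_inv, Sw0.j_inv] at e1; exact e1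
    obtain ⟨B, -, e3⟩ := H.invol_K ss (mem_cent.1 (pRes_le _ _ hs)).symm
      (e.symm.mul_left (Commute.refl _))
      (fun e => H.sw'.not_conj_κ A ((H.jj'.symm.trans e).trans (e1 ▸ isConj_cj _ _)))
      ((H.jj'.trans (H.sw'.conj_κ_y e2)).trans (by
        rw [e1, H.yz, ← hz, conj_mul, hz]; exact (isConj_cj _ _).symm))
    rw [← eq_mul_inv_iff_mul_eq, Sw0.j_inv] at e3
    by_contra hn
    exact H.sw'.not_conj_Y (e3 ▸ mul_mem (H.sw'.κ_mem B) (Sw0.φ_mem _)) hn (isConj_cj _ _))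
    (mem_sup_left hd)
  exact ⟨o, Lyons.le_oc ho (le_sup_left.trans (Lyons.le_norm_oc _)) (Lyons.odd_oc _) h1, x,
    (mul_mem_cancel_left (ho h1)).1 hd, h2, rfl⟩

end Host

end Cfsg.Agent.FW
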