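import Mathlib
import Cfsg.Agent.FW.SpH
import Cfsg.Agent.FW.Mat

/-!
`C(z)` normalises `K' ≅ L₂(q)`.
-/

set_option autoImplicit false
set_option linter.unusedSectionVars false

namespace Cfsg.Agent.FW

open Cfsg.Agent.KSG.M2 hiding dg coe_dg
open Cfsg.Agent.KSG Cfsg.Agent.RootSub Subgroup Cfsg.Agent.PLocal Cfsg.Agent.PLocal.Amb
open Cfsg.Agent.Lyons (oc mem_cent)
open scoped MatrixGroups Cfsg.Agent.Lyons

variable {F G : Type*} [Field F] [Group G]

theorem ne_neg_SL (h2 : (2 : F) ≠ 0) (A : SL(2, F)) : A ≠ -A := fun e =>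
  Class.Dickson.neg_one_ne_one_SL h2 (mul_left_cancel (a := A) (by rw [mul_neg, mul_one, ← e]))

theorem tor_pow [Finite F] (h2 : (2 : F) ≠ 0) {A : SL(2, F)} (hA : Commute A ww) :
    A ^ ((Nat.card F - 1) * (Nat.card F + 1)) = 1 := by
  have := congrArg Subtype.val (pow_card_eq_one' (x := (⟨A, mem_centralizer_singleton_iff.2 hA⟩ :
    centralizer {(ww : SL(2, F))})))
  rcases card_cent_cases (ww_disc h2) with ⟨-, e⟩ | ⟨-, e⟩ <;> rw [e] at this
  · rw [pow_mul]; exact (congrArg (· ^ _) this).trans (one_pow _)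
  · rw [pow_mul']; exact (congrArg (· ^ _) this).trans (one_pow _)

/-- A semilinear map of odd field order fixing the centraliser of `ww` is linear. -/
theorem fix_tor (h2 : (2 : F) ≠ 0) {M : GL (Fin 2) F} {σ : F ≃+* F} (o : Odd (orderOf σ))
    (h : ∀ A : SL(2, F), Commute A ww → cg M (fm σ A) = A) : σ = 1 := by
  have k1 : ∀ a b : F, a * a + b * b = 1 → σ a = a := fun a b e => by
    have e := congrArg (fun A : SL(2, F) => A.1.trace) (h ⟨!![a, b; -b, a], by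
      rw [Matrix.det_fin_two_of]; linear_combination e⟩ (Subtype.ext (by
        change _ * _ = _ * _; simp [Comm.Hex.coe_ww])))
    simp only [coe_cg, Matrix.trace_units_conj] at e
    change (Matrix.map !![a, b; -b, a] σ).trace = _ at e
    simp [Matrix.trace_fin_two] at e
    exact mul_left_cancel₀ h2 (by linear_combination e)
  have key : ∀ s : F, σ (s ^ 2) = s ^ 2 := fun s => by
    by_cases hs : 1 + s ^ 2 = 0
    · rw [show s ^ 2 = -1 by linear_combination hs]; simp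
    have e := k1 ((1 - s ^ 2) / (1 + s ^ 2)) (2 * s / (1 + s ^ 2)) (by field_simp; ring)
    have hs' : 1 + σ (s ^ 2) ≠ 0 := by simpa using (map_ne_zero σ).2 hs
    rw [map_div₀, map_sub, map_add, map_one, div_eq_div_iff hs' hs] at e
    exact mul_left_cancel₀ h2 (by linear_combination -e)
  refine eq_one_of_odd_sq o (RingEquiv.ext fun s => ?_)
  have := key s
  rw [map_pow] at this
  rcases sq_eq_sq_iff_eq_or_eq_neg.1 this with e | e <;> simp [e]

theorem eq_pm_one_of_odd [Fintype F] [Finite G] (h2 : (2 : F) ≠ 0) {κ : SL(2, F) →* G} (hn : κ (-1) = 1)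
    (hk : ∀ A, κ A = 1 → A = 1 ∨ A = -1) {O : Subgroup G} (hO : Odd (Nat.card O))
    (hN : κ.range ≤ 𝐍[O]) {A : SL(2, F)} (hA : κ A ∈ O) : κ A = 1 := by
  have hnorm : (O.comap κ).Normal := ⟨fun A hA B => by
    simpa using conj_mem_of_mem_normalizer (hN ⟨B, rfl⟩) hA⟩
  have hc : ∀ B : SL(2, F), B ∈ 𝐂[zpowers (-1 : SL(2, F))] := fun B => by
    rintro _ ⟨k, rfl⟩
    exact ((Commute.neg_one_left B).zpow_left k).eq
  obtain ⟨o, ho, s, hs, rfl⟩ := Lyons.burn (T := zpowers (-1)) (L := O.comap κ)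
    ⟨zpowers_le.2 (by simp [hn]), isPGroup_zpowers ⟨1, by simp⟩, fun R hR _ h r hr => by
      obtain ⟨k, hk'⟩ := isPGroup_iff.1 hR r hr
      rcases hk r (eq_one_of_odd (k := k) (Lyons.odd_orderOf hO (h hr)) (by
        rw [← map_pow, hk', map_one])) with rfl | rfl
      exacts [one_mem _, mem_zpowers _]⟩ (fun B _ => hc B) hA
  have : (oc (O.comap κ)).Normal := normalizer_eq_top_iff.1 (top_le_iff.1
    ((normalizer_eq_top _).ge.trans (Lyons.norm_le_norm_oc _)))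
  rw [odd_normal_eq_bot (odd_card h2) _ (Lyons.odd_oc _), mem_bot] at ho
  obtain ⟨k, rfl⟩ := hs
  simp [ho, hn]

theorem range_le_of_norm [Finite F] (h2 : (2 : F) ≠ 0) (h4 : 4 ≤ Nat.card F) {κ : SL(2, F) →* G}
    {N : Subgroup G} (hN : κ.range ≤ 𝐍[N]) {B : SL(2, F)} (b : B * B = -1) (hB : κ B ∈ N) :
    κ.range ≤ N := by
  rcases normal_cases h4 (N.comap κ) ⟨fun A hA B => by
    simpa using conj_mem_of_mem_normalizer (hN ⟨B, rfl⟩) hA⟩ with e | e
  · rintro _ ⟨A, rfl⟩; exact e.ge (mem_top A)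
  · rcases sl2_mem_center_iff.1 (e hB) with rfl | rfl <;>
      exact (Class.Dickson.neg_one_ne_one_SL h2 (by simpa using b.symm)).elim

theorem aut_of_three [Fintype F] (h3 : Nat.card F = 3) (σ : F ≃+* F) : σ = 1 := RingEquiv.ext fun x => by
  have := FiniteField.pow_card x
  rw [← Nat.card_eq_fintype_card, h3] at this
  rcases mul_eq_zero.1 (show x * (x ^ 2 - 1) = 0 by linear_combination this) with e | e
  · simp [e]
  · rcases sq_eq_one_iff.1 (sub_eq_zero.1 e) with e | e <;> simp [e]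

namespace Sw

variable {φ : SL(2, F) →* G} {t : G} (h : Sw φ t)
include h

local notation "j" => φ (-1)
local notation "κ" => Sw0.κ h.toSw0

theorem κ_ker (A : SL(2, F)) (e : κ A = 1) : A = 1 ∨ A = -1 := h.κ_eq (e.trans (map_one _).symm)

theorem κ_neg_one : κ (-1) = 1 := (h.κ_neg 1).trans (map_one _)

theorem norm_of_comm {x : G} (hj : Commute x j) (ht : Commute x t) (A : SL(2, F)) :
    x * κ A * x⁻¹ ∈ (κ).range := by
  have key : ∀ {x : G}, x ∈ N0 φ → Commute x t → x * κ A * x⁻¹ ∈ (κ).range := by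
    rintro x ⟨M, σ, a⟩ ht
    refine ⟨cg M (fm σ A), ?_⟩
    rw [h.κ_apply, h.κ_apply, cjh_apply, cjh_apply, ← a]
    calc _ = x * φ A * x⁻¹ * (t * x) * φ A * (t * x)⁻¹ := by group
      _ = _ := by rw [← ht.eq]; group
  rcases h.mem_or' hj with hx | hx
  · exact key hx ht
  · have := key hx (ht.mul_left (Commute.refl _))
    rwa [mul_assoc x, (h.t_κ A).eq, _root_.mul_inv_rev, mul_assoc x, mul_assoc, mul_inv_cancel_left,
      ← mul_assoc] at this

omit h in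
theorem norm_range [Finite G] {κ' : SL(2, F) →* G} {x : G} (e : ∀ A, x * κ' A * x⁻¹ ∈ κ'.range) :
    x ∈ 𝐍[κ'.range] :=
  mem_normalizer_fintype (by rintro _ ⟨A, rfl⟩; exact e A)

end Sw

namespace Host

variable {φ φ' : SL(2, F) →* G} {t t' : G} {c w : SL(2, F)} {n : ℕ} (H : Host φ t φ' t' c w n)
include H

local notation "j" => φ (-1)
local notation "j'" => φ' (-1)
local notation "ψ" => FW.cjh t φ
local notation "κ" => Sw0.κ (Sw.toSw0 (Host.sw H))
local notation "κ'" => Sw0.κ (Sw.toSw0 (Host.sw' H))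
local notation "D₀" => Host.D0 H

theorem zj_th : Th φ t c (κ ww * j) 1 :=
  ⟨ww, H.tor.ww_mem, -ww, H.tor.neg_mem H.tor.ww_mem, Or.inl ⟨by
    rw [H.sw.ψ_neg, H.sw.κ_apply, mul_assoc], by rw [mul_neg, ww_ww, neg_neg]⟩⟩

theorem j'_j : Commute j' j := H.neg ▸ (H.sw.κ_j w).mul_left (H.sw.tj.mul_left (Commute.refl _))

theorem j'_not : j' ∉ N0 φ := by
  rw [H.neg, H.sw.tj.eq, ← mul_assoc]
  exact H.sw.not_outer (mul_mem (H.sw.κ_mem w) (Sw0.φ_mem _))

theorem fld_j' {x : G} {σ σ' : F ≃+* F} (f : Fld φ t x σ σ') : Fld φ t (j' * x * (j')⁻¹) σ' σ := by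
  have := ((H.sw.fld_mul w w).mul (f.conj_t H.sw.tt)).mul (H.sw.fld_mul w w).inv
  rw [inv_one, mul_one, mul_one, one_mul, one_mul] at this
  convert this using 1
  rw [H.neg, H.sw.κ_apply]
  calc _ = φ w * ψ w * (t * (j * x * (j)⁻¹) * t⁻¹) * (φ w * ψ w)⁻¹ := by group
    _ = _ := by rw [← (N0.comm_j f.mem).eq, mul_inv_cancel_right]

theorem j'_conj {A B : SL(2, F)} (hA : Commute A ww) (hB : Commute B ww) :
    j' * (φ A * ψ B) * (j')⁻¹ = φ B⁻¹ * ψ A⁻¹ := by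
  rw [H.neg, ← H.sw.W_conj H.tor hB hA, ← H.sw.t_conj A B]
  calc _ = κ w * (t * (j * (φ A * ψ B) * (j)⁻¹) * t⁻¹) * (κ w)⁻¹ := by group
    _ = _ := by rw [← ((Sw0.φ_j A).mul_left (H.sw.ψ_j B)).eq, mul_inv_cancel_right]

variable [Fintype F] [Finite G]

theorem cent_norm_O : 𝐳[κ ww] ≤ 𝐍[oc D₀] := (le_normalizer_pRes _ _).trans (Lyons.norm_le_norm_oc _)

theorem O_z {x : G} (hx : x ∈ oc D₀) : Commute x (κ ww) :=
  (mem_cent.1 (pRes_le _ _ (Lyons.oc_le _ hx))).symm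

theorem comm_mem_O {x g : G} (hx : x ∈ oc D₀) (hg : Commute g (κ ww)) : x * g * x⁻¹ * g⁻¹ ∈ oc D₀ := by
  simpa [mul_assoc] using mul_mem hx
    (conj_mem_of_mem_normalizer (H.cent_norm_O (mem_cent.2 hg.symm)) (inv_mem hx))

theorem O_odd {x : G} (hx : x ∈ oc D₀) : Odd (orderOf x) := Lyons.odd_orderOf (Lyons.odd_oc _) hx

theorem O_fix {x : G} (hx : x ∈ oc D₀) (hj : Commute x j') : x = 1 := by
  have h' := H.sw'
  have ht := H.comm_t' (H.O_z hx) hj
  refine eq_one_of_odd_sq (H.O_odd hx) ?_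
  rcases h'.cent_κ hj (fun A => by
    obtain ⟨B, e⟩ := mul_mem (h'.norm_of_comm hj ht A) (inv_mem ⟨A, rfl⟩)
    have := eq_pm_one_of_odd h'.two h'.κ_neg_one h'.κ_ker (Lyons.odd_oc D₀)
      (H.K_le.trans (Lyons.le_norm_oc _)) (e ▸ H.comm_mem_O hx (H.κ'_z A))
    rw [e, mul_inv_eq_one, mul_inv_eq_iff_eq_mul] at this
    exact this) with e | e | e | e <;> rw [e]
  exacts [mul_one _, Sw0.jj, h'.tt, h'.yy1]

theorem O_inv {x : G} (hx : x ∈ oc D₀) : j' * x * (j')⁻¹ = x⁻¹ := by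
  obtain ⟨a, -, b, hb, e, e', rfl⟩ := exists_inv_cent (Lyons.odd_oc D₀) Sw0.jj
    (fun o ho => conj_mem_of_mem_normalizer (H.cent_norm_O (mem_cent.2 H.z_j')) ho) hx
  rwa [H.O_fix hb e', mul_one]

theorem O_j {x : G} (hx : x ∈ oc D₀) (hj : Commute x j) :
    ∃ A, Commute A ww ∧ (x = κ A ∨ x = κ A * j) := by
  have h := H.sw
  obtain ⟨σ, σ', o, -, f⟩ := h.fld (h.odd_mem hj (H.O_odd hx))
  have hc : ∀ B, Commute B ww → Commute x (φ B) := fun B hB => by
    obtain ⟨A, -, a, -⟩ := f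
    have h1 := H.comm_mem_O hx (h.comm_z H.tor hB (Commute.one_left ww))
    rw [map_one, mul_one, a, ← map_inv, ← map_mul] at h1
    obtain ⟨E, e⟩ := h.conj_φ_outer H.j'_j H.j'_not (cg (tg A) (fm σ B) * B⁻¹)
    rw [H.O_inv h1, ← map_inv] at e
    have := eq_one_of_odd_sq (H.O_odd h1) (by
      rcases h.inter _ _ e with e | e <;> rw [inv_eq_iff_eq_inv.1 e] <;> simp [Sw0.jj])
    rw [map_mul, map_inv, ← a, mul_inv_eq_one, mul_inv_eq_iff_eq_mul] at this
    exact this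
  obtain rfl : σ = 1 := by
    obtain ⟨A, -, a, -⟩ := f
    exact fix_tor h.two o fun B hB => a.of_comm h.inj (hc B hB)
  obtain rfl : σ' = 1 := by simpa using (h.fld_unique (H.O_inv hx ▸ H.fld_j' f) f.inv).1
  obtain ⟨A, B, rfl⟩ := h.mem_Yg.1 (h.mem_of_fld f)
  have hA : Commute A ww := by
    have := (actS_one.2 (h.actφ A B)).of_comm h.inj (hc ww (Commute.refl _))
    rw [fm_one, cg_tg, mul_inv_eq_iff_eq_mul] at this
    exact this
  have hB : Commute B ww := by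
    rcases h.comm_z_cases (H.O_z hx) with e | ⟨e, -⟩
    · exact e.2
    · rw [hA.eq, mul_inv_cancel_right] at e
      exact (ne_neg_SL h.two _ e).elim
  have e := H.O_inv hx
  rw [H.j'_conj hA hB, h.mul_inv'] at e
  refine ⟨A, hA, ?_⟩
  rcases h.mul_eq e with ⟨e, -⟩ | ⟨e, -⟩
  · rw [inv_injective e]; exact Or.inl rfl
  · rw [← inv_neg] at e
    rw [inv_injective e, h.ψ_neg, ← mul_assoc]; exact Or.inr rfl

theorem O_t {x : G} (hx : x ∈ oc D₀) (hj : Commute x j) : Commute x t := by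
  obtain ⟨A, -, rfl | rfl⟩ := H.O_j hx hj
  exacts [(H.sw.t_κ A).symm, (H.sw.t_κ A).symm.mul_left H.sw.tj.symm]

theorem quat : ∃ A B, Class.Dickson.QuatPair A B ∧ κ ww * j = κ' A ∧ t * j = κ' B := by
  have h := H.sw
  have h' := H.sw'
  obtain ⟨A, e⟩ := H.th_K H.zj_th
  obtain ⟨B, b, e'⟩ := H.y_K
  have a : A * A = -1 := (h'.of_κ_sq (by
    rw [e, (h.κ_j _).symm.mul_mul_mul_comm, H.zz, Sw0.jj, one_mul])).resolve_left fun e1 =>
      h.κ_ne_j ww (by rwa [e, mul_eq_one_iff_eq_inv, Sw0.j_inv] at e1)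
  have ta := SL_sq_eq_neg_one_iff.1 a
  refine ⟨A, B, ⟨h.two, ta, ?_⟩, e.symm, e'⟩
  have hc : Commute (κ' B) (κ' A) := by
    rw [e, ← e']
    exact ((h.t_κ _).mul_right h.tj).mul_left ((h.κ_j _).symm.mul_right (Commute.refl _))
  have := hc.eq
  rw [← map_mul, ← map_mul] at this
  rcases h'.κ_eq this with e1 | e1
  · have e2 : κ' B = κ' A := by
      rcases eq_or_eq_inv_of_mem_cent (Class.Dickson.zero_sq_ne_four h.two ta)
        (mem_centralizer_singleton_iff.2 e1) ((SL_sq_eq_neg_one_iff.1 b).trans ta.symm) with e2 | e2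
      · rw [e2]
      · rw [e2, inv_eq_neg_of_sq a, h'.κ_neg]
    rw [e, ← e', mul_left_inj] at e2
    exact (h.t_not (e2 ▸ h.Y_le (h.κ_mem _))).elim
  · rw [e1, inv_eq_neg_of_sq a, neg_mul, mul_inv_cancel_right]

theorem O_le {x : G} (hx : x ∈ oc D₀) : Commute x j := by
  obtain ⟨A, B, q, a, b⟩ := H.quat
  obtain ⟨ρ, e1, e2⟩ := q.exists_cycle
  have hn : ∀ X, κ' X ∈ 𝐍[oc D₀] := fun X => Lyons.le_norm_oc _ (H.K_le ⟨X, rfl⟩)
  have hj : ∀ {x}, x ∈ oc D₀ → Commute x (κ' A) → Commute x j := fun hx e => by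
    have := (H.O_z hx).mul_right e
    rwa [← a, ← mul_assoc, H.zz, one_mul] at this
  have k1 : ∀ {x}, x ∈ oc D₀ → Commute x (κ' A) → Commute x (κ' B) := fun hx e =>
    b ▸ (H.O_t hx (hj hx e)).mul_right (hj hx e)
  have k0 : ∀ {x X}, Commute ((κ' ρ)⁻¹ * x * κ' ρ) (κ' X) ↔ Commute x (κ' (ρ * X * ρ⁻¹)) :=
    fun {x X} => ⟨fun e => by simpa [mul_assoc] using comm_cj e (κ' ρ),
      fun e => by simpa [mul_assoc] using comm_cj e (κ' ρ)⁻¹⟩
  have k2 : ∀ {x}, x ∈ oc D₀ → Commute x (κ' B) → Commute x (κ' A) := fun hx e => by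
    have := k0.1 (k1 (inv_conj_mem_of_mem_normalizer (hn ρ) hx) (k0.2 (e1 ▸ e)))
    rw [e2, map_mul] at this
    simpa using this.mul_right e.inv_right
  have k3 : ∀ {x}, x ∈ oc D₀ → Commute x (κ' A * κ' B) → Commute x (κ' A) := fun hx e =>
    k2 hx (e1 ▸ k0.1 (k2 (inv_conj_mem_of_mem_normalizer (hn ρ) hx) (k0.2 (by rwa [e2, map_mul]))))
  refine hj hx (mem_cent.1 (ABG.Hd.Gr.gen_four (K := 𝐳[κ' A]) (H.sw'.κ_sq q.sq_left)
    (H.sw'.κ_sq q.sq_right) (by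
      rw [Commute, SemiconjBy, ← map_mul, ← map_mul, q.anticomm, H.sw'.κ_neg]) (Lyons.odd_oc D₀)
    (sup_le (zpowers_le.2 (hn A)) (zpowers_le.2 (hn B))) ?_ hx)).symm
  rintro _ (rfl | rfl | rfl) x ⟨hx, e⟩
  · exact e
  · exact mem_cent.2 (k2 hx (mem_cent.1 e).symm).symm
  · exact mem_cent.2 (k3 hx (mem_cent.1 e).symm).symm

theorem O_three (h3 : Nat.card F = 3) {x : G} (hx : x ∈ oc D₀) : x = 1 := by
  obtain ⟨B, hB, e⟩ := H.O_j hx (H.O_le hx)
  have := tor_pow H.sw.two hB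
  rw [h3] at this
  refine eq_one_of_odd (k := 3) (H.O_odd hx) ?_
  rcases e with rfl | rfl
  · rw [← map_pow]; exact (congrArg _ this).trans (map_one _)
  · rw [(H.sw.κ_j B).mul_pow, ← map_pow, ← map_pow]
    exact (congrArg₂ (κ · * φ ·) this (Even.neg_one_pow ⟨4, rfl⟩)).trans (by simp)

theorem O_K {x : G} (hx : x ∈ oc D₀) (A : SL(2, F)) : Commute x (κ' A) := by
  rcases K.three_or_four H.sw.two with h3 | h4
  · exact H.O_three h3 hx ▸ Commute.one_left _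
  · obtain ⟨B, b, e⟩ := H.y_K
    exact range_le_of_norm H.sw.two h4 (H.K_le.trans ((Lyons.le_norm_oc _).trans
      (normalizer_le_normalizer_centralizer _))) b
      (fun x hx => (e ▸ (H.O_t hx (H.O_le hx)).mul_right (H.O_le hx)).eq) ⟨A, rfl⟩ x hx

theorem D0_norm : D₀ ≤ 𝐍[(κ').range] := fun d hd => by
  obtain ⟨o, ho, x, hx, e, rfl⟩ := H.decomp hd
  refine mul_mem (Sw.norm_range fun A => ⟨A, by rw [(H.O_K ho A).eq, mul_inv_cancel_right]⟩)
    (Sw.norm_range (H.sw'.norm_of_comm e (H.comm_t' (mem_cent.1 (pRes_le _ _ hx)).symm e)))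

theorem norm_K : 𝐳[κ ww] ≤ 𝐍[(κ').range] := by
  have h' := H.sw'
  rcases K.three_or_four H.sw.two with h3 | h4
  · refine le_antisymm H.K_le (pRes_le_iff.2 fun d hd ho => ?_) ▸ le_normalizer_pRes _ _
    obtain ⟨o, ho', x, hx, e, rfl⟩ := H.decomp (mem_pRes hd ho)
    rw [H.O_three h3 ho', one_mul] at ho hd ⊢
    have o := Nat.coprime_two_right.1 ho
    obtain ⟨σ, σ', -, -, f⟩ := h'.fld (h'.odd_mem e o)
    rw [aut_of_three h3 σ, aut_of_three h3 σ'] at f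
    refine Lyons.mem_of_odd_of_pow (k := 1) o ?_
    obtain ⟨A, rfl | rfl⟩ := h'.comm_t' (h'.mem_of_fld f) (H.comm_t' (mem_cent.1 hd).symm e)
    · exact ⟨A ^ _, map_pow _ _ _⟩
    · rw [pow_one, sq, (h'.κ_j A).symm.mul_mul_mul_comm, Sw0.jj, mul_one]
      exact ⟨A * A, map_mul _ _ _⟩
  · have hn : 𝐳[κ ww] ≤ 𝐍[closure {s | s ∈ D₀ ∧ s * s = 1}] := le_normalizer_closure_iff.2
      fun g hg s hs => subset_closure ⟨conj_mem_of_mem_normalizer (le_normalizer_pRes _ _ hg) hs.1, by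
        rw [conj_mul, hs.2]; simp⟩
    obtain ⟨B, b, e⟩ := H.y_K
    refine le_antisymm (range_le_of_norm H.sw.two h4 ((H.K_le.trans (pRes_le _ _)).trans hn) b
      (subset_closure ⟨H.K_le ⟨B, rfl⟩, h'.κ_sq b⟩)) ((closure_le _).2 fun s hs => ?_) ▸ hn
    obtain ⟨g, hg, e⟩ := H.invol_D0 hs.1 hs.2
    exact (mem_normalizer_iff.1 (H.D0_norm hg) s).2 e

end Host

end Cfsg.Agent.FW
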