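import Mathlib
import Cfsg.Agent.FW.SpK

/-!
The centraliser of the involution `y = t j`.  (Guide `94_fw_sp`.)
-/

set_option autoImplicit false
set_option linter.unusedSectionVars false

namespace Cfsg.Agent.FW

open Cfsg.Agent.KSG.M2 hiding dg coe_dg
open Cfsg.Agent.KSG Cfsg.Agent.RootSub Subgroup Cfsg.Agent.PLocal Cfsg.Agent.PLocal.Amb
open Cfsg.Agent.Lyons (oc mem_cent)
open scoped MatrixGroups Cfsg.Agent.Lyons

variable {F G : Type*} [Field F] [Fintype F] [Group G] [Finite G]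

namespace Host

variable {φ φ' : SL(2, F) →* G} {t t' : G} {c w : SL(2, F)} {n : ℕ} (H : Host φ t φ' t' c w n)
include H

local notation "j" => φ (-1)
local notation "j'" => φ' (-1)
local notation "ψ" => FW.cjh t φ
local notation "κ" => Sw0.κ (Sw.toSw0 (Host.sw H))
local notation "κ'" => Sw0.κ (Sw.toSw0 (Host.sw' H))

theorem comm_jt {x : G} (hx : Commute x (κ ww)) (hk : ∀ A, Commute x (κ' A)) :
    Commute x j ∧ Commute x t := by
  obtain ⟨A, B, -, a, b⟩ := H.quat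
  have hj := hx.mul_right (hk A)
  rw [← a, ← mul_assoc, H.zz, one_mul] at hj
  have ht := (hk B).mul_right hj
  rw [← b, mul_assoc, Sw0.jj, mul_one] at ht
  exact ⟨hj, ht⟩

theorem invol_cent {u : G} (uu : u * u = 1) (hu : Commute u (κ ww)) (hk : ∀ A, Commute u (κ' A)) :
    u = 1 ∨ u = κ ww ∨ IsConj j u := by
  have h := H.sw
  obtain ⟨hj, ht⟩ := H.comm_jt hu hk
  obtain ⟨A, B, q, a, b⟩ := H.quat
  obtain ⟨ρ, e1, e2⟩ := q.exists_cycle
  have k : ∀ X, IsConj (u * κ' X) (u * κ' (ρ * X * ρ⁻¹)) := fun X => isConj_iff.2 ⟨κ' ρ, by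
    rw [← conj_mul, ← (hk ρ).eq, mul_inv_cancel_right, map_mul, map_mul, map_inv]⟩
  have k1 := k A
  have k2 := k B
  rw [e1, ← a, ← b] at k1
  have ty : t * (t * j) = j := by rw [← mul_assoc, h.tt, one_mul]
  have jy : j * (t * j) = t := by rw [h.tj.eq, ← mul_assoc, Sw0.jj, one_mul]
  rw [e2, map_mul, ← a, ← b, mul_assoc (κ ww), jy] at k2
  have h1 := (h.κ_j ww).symm
  have h2 := h.t_κ ww
  obtain ⟨X, e⟩ := h.two_comm_t hj ht (k := 1) (by rw [pow_one, sq, uu])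
  have hX : κ X = 1 ∨ X * X = -1 := h.of_κ_sq (by
    rcases e with rfl | rfl | rfl | rfl
    · exact uu
    · rwa [(h.κ_j X).symm.mul_mul_mul_comm, Sw0.jj, mul_one] at uu
    · rwa [(h.t_κ X).mul_mul_mul_comm, h.tt, mul_one] at uu
    · rwa [((h.t_κ X).mul_left (h.κ_j X).symm).mul_mul_mul_comm, h.yy1, mul_one] at uu)
  rcases hX with x | x
  · rw [x, one_mul, one_mul, one_mul] at e
    rcases e with rfl | rfl | rfl | rfl
    · exact Or.inl rfl
    · exact Or.inr (Or.inr (IsConj.refl _))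
    · exact Or.inr (Or.inr h.fus)
    · rw [h.yy1, isConj_one_left, (h2.mul_left h1).left_comm, mul_assoc, Sw0.jj, mul_one] at k1
      exact (h.not_outer (h.κ_mem _) (k1 ▸ one_mem _)).elim
  have hz : Commute (κ X) (κ ww) := by
    rcases e with rfl | rfl | rfl | rfl
    · exact hu
    · simpa using hu.mul_left h1.inv_left
    · simpa using hu.mul_left h2.inv_left
    · simpa only [mul_inv_cancel_right] using hu.mul_left (h2.mul_left h1).inv_left
  have hw : κ X = κ ww ∨ X * ww * (X * ww) = -1 := by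
    rcases h.comm_z_cases hz with ⟨e, -⟩ | ⟨e, -⟩
    · rcases H.tor.eq_ww e x with rfl | rfl
      exacts [Or.inl rfl, Or.inl (h.κ_neg _)]
    · exact Or.inr (by
        nth_rw 1 [mul_inv_eq_iff_eq_mul.1 e]
        rw [mul_assoc, ← mul_assoc X, x]; simp [ww_ww])
  rcases e with rfl | rfl | rfl | rfl
  · refine Or.inr (Or.inl (hw.resolve_right fun e => h.not_conj_κ_j e ?_))
    rw [map_mul, mul_assoc]
    exact (h.conj_κ_y x).trans k1.symm
  · rw [mul_assoc _ j (t * j), jy] at k1 k2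
    rcases hw with e | e
    · rw [e, h1.mul_mul_mul_comm, H.zz, Sw0.jj, one_mul, isConj_one_right] at k1
      exact (h.not_outer (h.κ_mem _) (k1 ▸ one_mem _)).elim
    · rw [h1.mul_mul_mul_comm, ← map_mul, ← h.tj.eq] at k2
      exact (h.not_conj_κ_t x ((h.conj_κ_y e).trans k2.symm)).elim
  · rw [mul_assoc _ t (t * j), ty] at k1 k2
    rcases hw with e | e
    · rw [e, h2.mul_mul_mul_comm, H.zz, h.tt, one_mul, isConj_one_left, mul_eq_one_iff_eq_inv,
        Sw0.j_inv] at k2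
      exact (h.κ_ne_j _ k2).elim
    · rw [h2.mul_mul_mul_comm, ← map_mul] at k1
      exact (h.not_conj_κ_j x ((h.conj_κ_y e).trans k1)).elim
  · exact Or.inr (Or.inr (h.conj_κ_y x))

theorem eq_one {p k : ℕ} [CharP F p] {x : G} (hx : Commute x (κ ww)) (hk : ∀ A, Commute x (κ' A))
    (hj' : j' * x * (j')⁻¹ = x⁻¹) (hp : x ^ p ^ k = 1) : x = 1 := by
  have h := H.sw
  obtain ⟨hj, ht⟩ := H.comm_jt hx hk
  obtain ⟨m, pp, hm⟩ := FiniteField.card F p
  have hc : ∀ i, (p ^ k).Coprime (2 ^ i * ((Nat.card F - 1) * (Nat.card F + 1))) := fun i => by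
    have h0 : p ∣ Nat.card F := by rw [Nat.card_eq_fintype_card, hm]; exact dvd_pow_self _ m.ne_zero
    have h1 : 1 ≤ Nat.card F := Nat.card_pos
    refine ((Nat.Coprime.pow_right _ ?_).mul_right (Nat.Coprime.mul_right ?_ ?_)).pow_left _
    · rw [Nat.card_eq_fintype_card] at h0
      exact Nat.coprime_two_right.2 ((odd_card h.two).of_dvd_nat h0)
    · exact (Nat.coprime_self_sub_right h1).2 (by simp) |>.coprime_dvd_left h0
    · exact (by simp : (Nat.card F).Coprime (Nat.card F + 1)).coprime_dvd_left h0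
  have key : ∀ i, x ^ (2 ^ i * ((Nat.card F - 1) * (Nat.card F + 1))) = 1 → x = 1 := fun i e => by
    have := pow_gcd_eq_one.2 ⟨hp, e⟩
    rwa [(hc i).gcd_eq_one, pow_one] at this
  have o : Odd (orderOf x) := Nat.coprime_two_right.1 (((hc 1).coprime_dvd_left
    (orderOf_dvd_of_pow_eq_one hp)).coprime_dvd_right (dvd_mul_right _ _))
  obtain ⟨σ, σ', o1, -, f⟩ := h.fld (h.odd_mem hj o)
  have e1 := f.conj_t h.tt
  rw [← ht.eq, mul_inv_cancel_right] at e1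
  obtain rfl := (h.fld_unique f e1).1
  obtain rfl : σ = 1 := eq_one_of_odd_sq o1
    (mul_eq_one_iff_eq_inv.2 (h.fld_unique (hj' ▸ H.fld_j' f) f.inv).1)
  obtain ⟨A, e⟩ := h.comm_t' (h.mem_of_fld f) ht
  have hz : Commute (κ A) (κ ww) := by
    rcases e with rfl | rfl
    · exact hx
    · simpa using hx.mul_left (h.κ_j ww).symm.inv_left
  have e2 : x ^ 2 = κ (A ^ 2) := by
    rcases e with rfl | rfl
    · rw [map_pow]
    · rw [(h.κ_j A).mul_pow, sq j, Sw0.jj, mul_one, map_pow]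
  refine key 1 ?_
  rw [pow_mul, pow_one, e2, ← map_pow]
  rcases h.comm_z_cases hz with ⟨e, -⟩ | ⟨e, -⟩
  · rw [tor_pow h.two (e.pow_left 2), map_one]
  · rw [sq, SL_sq_eq_neg_one_iff.2 (trace_eq_zero_of_inverts (ww_disc h.two) (comm_or_inv e)), map_pow,
      h.κ_neg_one, one_pow]

theorem cent_le {M : Subgroup G} (hj : centralizer {j} ≤ M) (hj' : centralizer {j'} ≤ M) :
    centralizer {κ ww} ≤ M := by
  rw [← (H.sw.isSyl_T H.tor).pRes_sup]
  refine sup_le (fun d hd => ?_) (((H.sw.T_le H.tor).trans inf_le_left).trans hj)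
  obtain ⟨o, ho, x, -, e, rfl⟩ := H.decomp hd
  exact mul_mem (hj (mem_cent.2 (H.O_le ho).symm)) (hj' (mem_cent.2 e.symm))

theorem fld_eq {x : G} {σ σ' : F ≃+* F} (hc : Fld φ t x σ σ') : σ = σ' := by
  have h := H.sw
  obtain ⟨A, B, x₀, rfl, e1, e2⟩ := h.pure hc
  have f := (h.fld_mul A B).inv.mul hc
  rw [inv_mul_cancel_left, inv_one, one_mul, one_mul] at f
  have hz : x₀ ∈ 𝐳[κ ww] := mem_cent.2 (Lyons.comm_of_conj_eq (by
    rw [h.κ_apply, ← conj_mul, e1, e2, fm_ww, fm_ww]))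
  obtain ⟨B, -, b⟩ := H.y_K
  obtain ⟨E, e⟩ := mul_mem (conj_mem_of_mem_normalizer (H.norm_K hz) ⟨B, rfl⟩) (inv_mem ⟨B, rfl⟩)
  have g := f.mul (f.inv.conj_t h.tt)
  rw [show x₀ * (t * x₀⁻¹ * t⁻¹) = κ' E by
    rw [e, ← b, mul_assoc x₀ (t * j), mul_assoc t j, ← (N0.comm_j f.mem).inv_left.eq]; group] at g
  obtain ⟨τ, τ', o, -, g'⟩ := h.fld g.mem
  have g2 := H.fld_j' g
  rw [← (H.sw'.κ_j E).eq, mul_inv_cancel_right] at g2
  rw [← (h.fld_unique g g').1] at o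
  refine mul_inv_eq_one.1 (eq_one_of_odd_sq o ?_)
  nth_rw 2 [(h.fld_unique g g2).1]
  group

end Host

namespace Sw

variable {φ : SL(2, F) →* G} {t : G} (h : Sw φ t)
include h

local notation "j" => φ (-1)
local notation "ψ" => FW.cjh t φ
local notation "κ" => Sw0.κ h.toSw0

theorem host : ∃ φ' t' c w n, Host φ t φ' t' c w n := by
  obtain ⟨c, w, n, τ⟩ := exists_tor2 h.two
  obtain ⟨g, H⟩ := h.exists_host τ
  exact ⟨_, _, c, w, n, H⟩

theorem host' : ∃ φ' t' c w n, Host φ' t' φ t c w n := by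
  obtain ⟨c, w, n, τ⟩ := exists_tor2 h.two
  obtain ⟨g, H⟩ := h.exists_host τ
  have := H.cjh g⁻¹
  rw [cjh_cjh, inv_mul_cancel, cjh_one, show g⁻¹ * (g * t * g⁻¹) * g⁻¹⁻¹ = t by group] at this
  exact ⟨_, _, c, w, n, this⟩

theorem norm_κ {x : G} (hx : Commute x (t * j)) (A : SL(2, F)) : ∃ A', x * κ A * x⁻¹ = κ A' := by
  obtain ⟨φ', t', c, w, n, H⟩ := h.host'
  obtain ⟨A', e⟩ := conj_mem_of_mem_normalizer (H.norm_K (mem_cent.2 (H.yz ▸ hx.symm))) ⟨A, rfl⟩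
  exact ⟨A', e.symm⟩

theorem invol_cent_κ {u : G} (uu : u * u = 1) (hu : Commute u (t * j)) (hk : ∀ A, Commute u (κ A)) :
    u = 1 ∨ u = t * j ∨ IsConj j u := by
  obtain ⟨φ', t', c, w, n, H⟩ := h.host'
  rw [H.yz] at hu ⊢
  exact (H.invol_cent uu hu hk).imp_right (Or.imp_right H.jj'.symm.trans)

theorem eq_one_of_cent_κ {p k : ℕ} [CharP F p] {x : G} (hx : Commute x (t * j))
    (hk : ∀ A, Commute x (κ A)) (hj : j * x * (j)⁻¹ = x⁻¹) (hp : x ^ p ^ k = 1) : x = 1 := by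
  obtain ⟨φ', t', c, w, n, H⟩ := h.host'
  exact H.eq_one (H.yz ▸ hx) hk hj hp

theorem fld_eq {c : G} {σ σ' : F ≃+* F} (hc : Fld φ t c σ σ') : σ = σ' := by
  obtain ⟨φ', t', c, w, n, H⟩ := h.host
  exact H.fld_eq hc

theorem cent_y_le {M : Subgroup G} (hj : centralizer {j} ≤ M) (ht : centralizer {t} ≤ M) :
    centralizer {t * j} ≤ M ∧ centralizer {κ ww} ≤ M := by
  have key : ∀ {x : G}, Commute x j → x ∉ N0 φ → IsConj j x → centralizer {x} ≤ M := fun hx n e g hg => by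
    obtain ⟨c, hc, e⟩ := h.invol_outer_j hx n e
    have hc := hj (mem_cent.2 (N0.comm_j hc).symm)
    exact (M.mul_mem_cancel_left hc).1 ((M.mul_mem_cancel_right (inv_mem hc)).1
      (ht (mem_cent.2 (e ▸ comm_cj (mem_cent.1 hg) c))))
  constructor
  · obtain ⟨φ', t', c, w, n, H⟩ := h.host'
    rw [H.yz]
    exact H.cent_le (key H.j'_j.symm (h.not_mem_of_conj (fun e => H.j'_not (e ▸ φ_mem_N0 _))
      H.jj'.symm) H.jj'.symm) hj
  · obtain ⟨φ', t', c, w, n, H⟩ := h.host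
    exact H.cent_le hj (key H.j'_j H.j'_not H.jj')

theorem conj_into {s : G} (ss : s * s = 1) (hs : Commute s (κ ww)) :
    ∃ g, Commute g (κ ww) ∧ Commute (g * s * g⁻¹) j := by
  obtain ⟨c, w, n, τ⟩ := exists_tor2 h.two
  obtain ⟨g, hg, e⟩ := Lyons.exists_conj_mem (h.isSyl_T τ) (mem_cent.2 hs.symm) (k := 1)
    (by rw [pow_one, sq, ss])
  exact ⟨g, (mem_cent.1 hg).symm, (mem_cent.1 (h.T_le τ e).1).symm⟩

theorem exists_dual : ∃ φ', h.Dual φ' := by
  obtain ⟨g, e1, e2⟩ := h.swap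
  obtain ⟨M, σ, a⟩ := exists_actS h.κ_neg_one h.κ_ker (h.norm_κ (x := g) (by
    rw [Commute, SemiconjBy, ← mul_inv_eq_iff_eq_mul, ← conj_mul, e1, e2, h.tj.eq]))
  refine ⟨(FW.cjh g φ).comp ((cg (gm σ⁻¹ M⁻¹)).comp (fm σ⁻¹)), e2 ▸ (h.cjh g).re _ _, ?_, fun A => ?_⟩
  · simp [fm_neg_one, cg_neg_one, cjh_apply, e1]
  · have := a (cg (gm σ⁻¹ M⁻¹) (fm σ⁻¹ A))
    rw [← fm_cg, ← fm_mul, mul_inv_cancel, fm_one, cg_cg_inv, fm_cg] at this
    rw [← this, ← e2]
    simp only [cjh_apply, h.κ_apply, MonoidHom.comp_apply]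
    group

end Sw

end Cfsg.Agent.FW
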