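import Mathlib
import Cfsg.Agent.FW.SpD

/-!
The abelian group `E = U₁ U₂ W₀` of order `q³`.  (Guide `94_fw_sp`.)
-/

set_option autoImplicit false
set_option linter.unusedSectionVars false

namespace Cfsg.Agent.FW.SpE

open Subgroup

variable {G : Type*} [Group G] [Finite G]

section OddGroup

variable {P : Subgroup G} (hP : Odd (Nat.card P)) {s : G} (ss : s * s = 1)
  (hs : ∀ o ∈ P, s * o * s⁻¹ ∈ P) (hc : ∀ c ∈ P, Commute c s → ∀ o ∈ P, Commute c o)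
include hP ss hs hc

theorem inv_mod {o : G} (ho : o ∈ P) : ∃ u ∈ P, Commute u s ∧ s * o * s⁻¹ = u * o⁻¹ := by
  obtain ⟨x, hx, c, hc', e1, e2, rfl⟩ := exists_inv_cent hP ss hs ho
  refine ⟨c * c, mul_mem hc' hc', e2.mul_left e2, ?_⟩
  rw [← conj_mul, e1, ← e2.eq, mul_inv_cancel_right, ← (hc c hc' e2 x hx).inv_right.eq]; group

theorem comm_mod {o o' : G} (ho : o ∈ P) (ho' : o' ∈ P) :
    ∃ u ∈ P, Commute u s ∧ o * o' = o' * o * u := by
  obtain ⟨u, hu, cu, e⟩ := inv_mod hP ss hs hc (inv_mem ho)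
  obtain ⟨u', hu', cu', e'⟩ := inv_mod hP ss hs hc (inv_mem ho')
  obtain ⟨u'', hu'', cu'', e''⟩ := inv_mod hP ss hs hc (mul_mem (inv_mem ho) (inv_mem ho'))
  refine ⟨u'' * (u * u')⁻¹, mul_mem hu'' (inv_mem (mul_mem hu hu')),
    cu''.mul_left (cu.mul_left cu').inv_left, ?_⟩
  rw [← conj_mul, e, e', inv_inv, inv_inv, mul_assoc, ← mul_assoc o, ← (hc u' hu' cu' o ho).eq,
    mul_inv_rev, inv_inv, inv_inv, (hc u'' hu'' cu'' _ (mul_mem ho' ho)).eq, ← mul_assoc,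
    ← mul_assoc, mul_assoc, (hc _ (mul_mem hu hu') (cu.mul_left cu') _ (mul_mem ho ho')).eq] at e''
  rw [← mul_assoc, ← e'']; group

end OddGroup

section Isolated

variable {X : Subgroup G} {s : G} (hs : s ∈ X) (ss : s * s = 1)
  (hi : ∀ x ∈ X, Commute s (x * s * x⁻¹) → x * s * x⁻¹ = s)
include hs ss hi

theorem decomp {g : G} (hg : g ∈ X) : ∃ o ∈ Lyons.oc X, ∃ c ∈ X, Commute c s ∧ g = o * c := by
  have hi' : IsIsolated (⟨s, hs⟩ : X) := fun x hx => Subtype.ext (hi x x.2 (hx.map X.subtype))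
  obtain ⟨o, ho, c, hc, e⟩ := Inv.exists_oddCore_mul_of_isIsolated hi'
    ⟨1, Subtype.ext (by simpa [sq] using ss)⟩ ⟨g, hg⟩
  exact ⟨o, ⟨o, ho, rfl⟩, c, c.2, congrArg Subtype.val (mem_centralizer_singleton_iff.1 hc),
    congrArg Subtype.val e⟩

theorem mem_oc {u : G} (hu : u ∈ X) (ho : Odd (orderOf u)) (e : s * u * s⁻¹ = u⁻¹) :
    u ∈ Lyons.oc X := by
  obtain ⟨o, hO, c, -, hc, rfl⟩ := decomp hs ss hi hu
  refine Lyons.mem_of_odd_of_pow ho (k := 1) ?_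
  have : (o * c) ^ 2 ^ 1 = (s * o * s⁻¹ * o⁻¹)⁻¹ := by
    rw [show s * o * s⁻¹ * o⁻¹ = s * o * (s⁻¹ * c) * (o * c)⁻¹ by group, ← hc.inv_right.eq,
      ← mul_assoc, mul_assoc s, e, pow_one, sq]; group
  exact this ▸ inv_mem (mul_mem
    ((mem_normalizer_iff.1 (Lyons.le_norm_oc X hs) o).1 hO) (inv_mem hO))

end Isolated

theorem mem_oc_of_central {X : Subgroup G} {u : G} (hu : u ∈ X) (ho : Odd (orderOf u))
    (hc : ∀ c ∈ X, Commute c u) : u ∈ Lyons.oc X := by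
  refine Lyons.le_oc (K := zpowers u) (zpowers_le.2 hu) (fun c hc' => ?_)
    (by rw [Nat.card_zpowers]; exact ho) (mem_zpowers _)
  refine mem_normalizer_fintype fun x hx => ?_
  obtain ⟨k, rfl⟩ := mem_zpowers_iff.1 hx
  rw [((hc c hc').zpow_right k).eq, mul_inv_cancel_right]
  exact hx

theorem conj_mem_oc {X : Subgroup G} {g o : G} (hg : ∀ x ∈ X, g * x * g⁻¹ ∈ X)
    (ho : o ∈ Lyons.oc X) : g * o * g⁻¹ ∈ Lyons.oc X :=
  (mem_normalizer_iff.1 (Lyons.norm_le_norm_oc _ (mem_normalizer_fintype hg)) o).1 ho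

omit [Finite G] in
theorem mul_pow_of_central {a b u : G} (ha : Commute u a) (hb : Commute u b)
    (e : a * b = b * a * u) (n : ℕ) : ∃ m : ℕ, a ^ n * b ^ n = (a * b) ^ n * u ^ m := by
  have h1 : ∀ n : ℕ, a * b ^ n = b ^ n * a * u ^ n := fun n => by
    induction n with
    | zero => simp
    | succ n ih =>
      rw [pow_succ, ← mul_assoc, ih, mul_assoc, (hb.pow_left n).eq, ← mul_assoc, mul_assoc (b ^ n),
        e, pow_succ' u]
      simp only [mul_assoc]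
  induction n with
  | zero => exact ⟨0, by simp⟩
  | succ n ih =>
    obtain ⟨m, hm⟩ := ih
    refine ⟨m + n, ?_⟩
    rw [pow_succ a, pow_succ b, mul_assoc, ← mul_assoc a, h1, ← mul_assoc, ← mul_assoc,
      ← mul_assoc, hm, pow_succ, pow_add, mul_assoc _ (u ^ n), (hb.pow_left n).eq,
      mul_assoc _ (u ^ m) a, (ha.pow_left m).eq]
    simp only [mul_assoc]
    rw [← mul_assoc (u ^ m), (hb.pow_left m).eq, mul_assoc]

/-- The `p`-elements of a group that is abelian modulo a central subgroup of exponent `p`. -/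
def pel (p : ℕ) (O : Subgroup G) (h : ∀ a ∈ O, ∀ b ∈ O, ∃ u, u ^ p = 1 ∧ Commute u a ∧
    Commute u b ∧ a * b = b * a * u) : Subgroup G where
  carrier := {g | g ∈ O ∧ ∃ k, g ^ p ^ k = 1}
  one_mem' := ⟨one_mem _, 0, one_pow _⟩
  inv_mem' := fun ⟨h1, k, hk⟩ => ⟨inv_mem h1, k, by rw [inv_pow, hk, inv_one]⟩
  mul_mem' := fun {a b} ⟨ha, k, hk⟩ ⟨hb, l, hl⟩ => ⟨mul_mem ha hb, k + l + 1, by
    obtain ⟨u, hu, c1, c2, e⟩ := h a ha b hb
    obtain ⟨m, hm⟩ := mul_pow_of_central c1 c2 e (p ^ (k + l))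
    rw [pow_add, pow_mul a, hk, one_pow, mul_comm, pow_mul b, hl, one_pow, one_mul, eq_comm,
      mul_eq_one_iff_eq_inv] at hm
    rw [pow_succ, pow_mul, pow_add, mul_comm, hm, inv_pow, ← pow_mul, mul_comm, pow_mul, hu,
      one_pow, inv_one]⟩

end Cfsg.Agent.FW.SpE

namespace Cfsg.Agent.FW.Sw0

open Cfsg.Agent.RootSub Subgroup
open scoped MatrixGroups

variable {F G : Type*} [Field F] [Fintype F] [Group G] {φ : SL(2, F) →* G} {t : G} (h : Sw0 φ t)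
include h

local notation "j" => φ (-1)
local notation "ψ" => FW.cjh t φ

/-- The product of the two long root groups. -/
def Rg : Subgroup G where
  carrier := {x | ∃ a b, x = φ (xx a) * ψ (xx b)}
  one_mem' := ⟨0, 0, by simp [xx_zero]⟩
  mul_mem' := by
    rintro _ _ ⟨a, b, rfl⟩ ⟨c, d, rfl⟩
    exact ⟨a + c, b + d, by rw [h.mul_mul, xx_mul, xx_mul]⟩
  inv_mem' := by
    rintro _ ⟨a, b, rfl⟩
    exact ⟨-a, -b, by rw [h.mul_inv', xx_inv, xx_inv]⟩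

theorem Rg_pow {p : ℕ} [CharP F p] {x : G} (hx : x ∈ h.Rg) : x ^ p = 1 := by
  obtain ⟨a, b, rfl⟩ := hx
  rw [h.mul_pow', xx_pow, xx_pow, CharP.cast_eq_zero, zero_mul, zero_mul, xx_zero]; simp

theorem Rg_odd {x : G} (hx : x ∈ h.Rg) : Odd (orderOf x) := by
  obtain ⟨a, b, rfl⟩ := hx
  refine (odd_card h.two).of_dvd_nat (orderOf_dvd_of_pow_eq_one ?_)
  rw [h.mul_pow', xx_pow, xx_pow, FiniteField.cast_card_eq_zero, zero_mul, zero_mul, xx_zero]; simp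

theorem Rg_comm {x y : G} (hx : x ∈ h.Rg) (hy : y ∈ h.Rg) : Commute x y := by
  obtain ⟨a, b, rfl⟩ := hx
  obtain ⟨c, d, rfl⟩ := hy
  rw [Commute, SemiconjBy, h.mul_mul, h.mul_mul, xx_mul, xx_mul, xx_mul, xx_mul, add_comm a,
    add_comm b]

theorem Rg_j {x : G} (hx : x ∈ h.Rg) : Commute x j := by
  obtain ⟨a, b, rfl⟩ := hx
  exact (Sw0.φ_j _).mul_left (h.ψ_j _)

theorem φ_Rg (a : F) : φ (xx a) ∈ h.Rg := ⟨a, 0, by simp [xx_zero]⟩

theorem ψ_Rg (a : F) : ψ (xx a) ∈ h.Rg := ⟨0, a, by simp [xx_zero]⟩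

theorem κ_Rg (a : F) : h.κ (xx a) ∈ h.Rg := ⟨a, a, rfl⟩

theorem θ_xx (a : F) : h.θ (xx a) = φ (xx a) * ψ (xx (-a)) := by
  change φ (xx a) * ψ (cg (dm (-1)) (xx a)) = _
  rw [cg_dm_xx]; simp

theorem θ_Rg (a : F) : h.θ (xx a) ∈ h.Rg := ⟨a, -a, h.θ_xx a⟩

theorem Rg_dec {x : G} (hx : x ∈ h.Rg) : ∃ a b, x = h.κ (xx a) * h.θ (xx b) := by
  obtain ⟨a, b, rfl⟩ := hx
  refine ⟨(a + b) / 2, (a - b) / 2, ?_⟩
  have := h.two
  rw [θ_xx, κ_apply, h.mul_mul, xx_mul, xx_mul]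
  congr 3 <;> field_simp <;> ring

omit h in
theorem fix_xx_sign (h2 : (2 : F) ≠ 0) {M : GL (Fin 2) F} {σ : F ≃+* F}
    (e : ∀ s, cg M (fm σ (xx s)) = xx s ∨ cg M (fm σ (xx s)) = -xx s) :
    σ = 1 ∧ ∃ (s a : F), (tg (xx s)).1 = a • M.1 := by
  obtain ⟨h0, h1, h3⟩ := fix_xx (M := M) (σ := σ) fun s => (e s).resolve_right fun e' => by
    have := congrArg (fun A : SL(2, F) => A.1.trace) e'
    simp only [coe_cg, fm_xx] at this
    rw [Matrix.trace_mul_cycle, Units.inv_mul, Matrix.one_mul] at this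
    simp only [Matrix.trace_fin_two, Matrix.SpecialLinearGroup.coe_neg, Matrix.neg_apply,
      xx_00, xx_11] at this
    exact mul_ne_zero h2 h2 (by linear_combination this)
  exact ⟨h0, eq_xx h1 h3⟩

theorem cent_UK {c : G} (hc : c ∈ N0 φ) (hk : ∀ s, Commute c (h.κ (xx s))) :
    c ∈ h.Rg ∨ c * j ∈ h.Rg := by
  obtain ⟨σ, σ', -, -, A, B, a, b⟩ := h.fld hc
  have e : ∀ s, φ (cg (tg A) (fm σ (xx s))) * ψ (cg (tg B) (fm σ' (xx s))) =
      φ (xx s) * ψ (xx s) := fun s => by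
    rw [← a, ← b, conj_mul, ← κ_apply, (hk s).eq, mul_inv_cancel_right]
  obtain ⟨rfl, s, r, e1⟩ := fix_xx_sign h.two fun s => (h.mul_eq (e s)).imp And.left And.left
  obtain ⟨rfl, s', r', e2⟩ := fix_xx_sign h.two fun s => (h.mul_eq (e s)).imp And.right And.right
  rcases h.eq_of_act ((actS_one.1 a).congr e1) ((actS_one.1 b).congr e2) with e3 | e3
  · exact Or.inl ⟨s, s', e3⟩
  · exact Or.inr ⟨s, s', by rw [e3, h.ψ_neg, mul_assoc, mul_assoc, Sw0.jj, mul_one]⟩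

theorem mem_Rg_of_odd {c : G} (hj : Commute c j) (ho : Odd (orderOf c))
    (hk : ∀ s, Commute c (h.κ (xx s))) : c ∈ h.Rg := by
  refine (h.cent_UK (h.odd_mem hj ho) hk).resolve_right fun e => h.j_ne ?_
  have : Odd (orderOf (c⁻¹ * (c * j))) :=
    ((orderOf_inv c ▸ ho).mul (h.Rg_odd e)).of_dvd_nat
      ((Commute.refl c).mul_right hj).inv_left.orderOf_mul_dvd_mul_orderOf
  rw [inv_mul_cancel_left] at this
  exact eq_one_of_odd_sq this Sw0.jj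

end Cfsg.Agent.FW.Sw0

namespace Cfsg.Agent.FW.Sw

open Cfsg.Agent.RootSub Subgroup
open scoped MatrixGroups

variable {F G : Type*} [Field F] [Fintype F] [Group G] [Finite G] {φ : SL(2, F) →* G} {t : G}
  (h : Sw φ t)
include h

local notation "j" => φ (-1)
local notation "ψ" => FW.cjh t φ
local notation "κ" => Sw0.κ h.toSw0
local notation "𝐑" => Sw0.Rg h.toSw0

theorem t_Rg {x : G} (hx : x ∈ 𝐑) : t * x * t⁻¹ ∈ 𝐑 := by
  obtain ⟨a, b, rfl⟩ := hx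
  exact ⟨b, a, h.t_conj _ _⟩

theorem cent_Rg {c : G} (hj : Commute c j) (hc : ∀ x ∈ 𝐑, Commute c x) : c ∈ 𝐑 ∨ c * j ∈ 𝐑 := by
  refine h.cent_UK ((h.mem_or' hj).resolve_right fun e => ?_) fun s => hc _ (h.κ_Rg s)
  obtain ⟨M, σ, a⟩ := e
  refine h.ψ_xx_ne (cg M (fm σ (xx 1))) ?_
  rw [← a, mul_inv_rev, ← mul_assoc, mul_assoc c, mul_assoc c]
  change c * ψ (xx 1) * c⁻¹ = _
  rw [(hc _ (h.ψ_Rg 1)).eq, mul_inv_cancel_right]

theorem dec_y {x : G} (hy : Commute x (t * j)) (hk : ∀ s, Commute x (κ (xx s))) :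
    ∃ s, ∀ A, Commute ((κ (xx s))⁻¹ * x) (κ A) := by
  obtain ⟨M, σ, a⟩ := exists_actS (by rw [h.κ_neg, map_one])
    (fun A e => h.κ_eq (e.trans (map_one _).symm)) (h.norm_κ hy)
  obtain ⟨rfl, s, r, e⟩ := Sw0.fix_xx_sign h.two fun s => h.κ_eq (A := cg M (fm σ (xx s)))
    (by rw [← a, (hk s).eq, mul_inv_cancel_right])
  refine ⟨s, fun A => ?_⟩
  have := (actG_self (xx s)).inv.mul ((actS_one.1 a).congr e) A
  rw [inv_mul_cancel, cg_one] at this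
  exact mul_inv_eq_iff_eq_mul.1 this

theorem y_κ (A : SL(2, F)) : Commute (t * j) (κ A) := (h.t_κ A).mul_left (h.κ_j A).symm

theorem cent_y_p {p : ℕ} [Fact p.Prime] [CharP F p] {P : Subgroup G} (ho : Odd (Nat.card P))
    (hp : ∀ x ∈ P, ∃ k, x ^ p ^ k = 1) (hj : ∀ x ∈ P, j * x * (j)⁻¹ ∈ P) (hU : ∀ s, κ (xx s) ∈ P)
    {x : G} (hx : x ∈ P) (hk : ∀ s, Commute x (κ (xx s))) (hy : Commute x (t * j)) :
    ∃ s, x = κ (xx s) := by
  obtain ⟨s, hs⟩ := h.dec_y hy hk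
  have hm : ∀ z, z ∈ P ⊓ centralizer (insert (t * j) (Set.range κ)) ↔
      z ∈ P ∧ Commute z (t * j) ∧ ∀ A, Commute z (κ A) := fun z => by
    rw [mem_inf, mem_centralizer_iff]
    simp only [Set.forall_mem_insert, Set.forall_mem_range]
    exact and_congr_right' (and_congr eq_comm (forall_congr' fun _ => eq_comm))
  obtain ⟨u, hu, c, hc, e1, e2, e3⟩ := exists_inv_cent
    (O := P ⊓ centralizer (insert (t * j) (Set.range κ))) (ho.of_dvd_nat (card_dvd_of_le inf_le_left))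
    Sw0.jj (fun o hO => by
      obtain ⟨h1, h2, h3⟩ := (hm o).1 hO
      have c1 : Commute j (t * j) := h.tj.symm.mul_right (Commute.refl _)
      exact (hm _).2 ⟨hj o h1, (c1.mul_left h2).mul_left c1.inv_left,
        fun A => ((h.κ_j A).symm.mul_left (h3 A)).mul_left (h.κ_j A).symm.inv_left⟩)
    ((hm _).2 ⟨mul_mem (inv_mem (hU s)) hx, (h.y_κ _).symm.inv_left.mul_left hy, hs⟩)
  obtain ⟨u1, u2, u3⟩ := (hm u).1 hu
  obtain ⟨c1, c2, c3⟩ := (hm c).1 hc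
  obtain ⟨k, hk⟩ := hp u u1
  have o := Lyons.odd_orderOf ho c1
  have : c = 1 := eq_one_of_odd_sq o (by
    rcases h.cent_κ e2 c3 with rfl | rfl | rfl | rfl
    · simp
    · exact Sw0.jj
    · exact h.tt
    · exact h.yy1)
  rw [h.eq_one_of_cent_κ u2 u3 e1 hk, this, mul_one, inv_mul_eq_one] at e3
  exact ⟨s, e3.symm⟩

theorem y_isolated {x : G} (hx : ∀ s, Commute x (κ (xx s)))
    (e : Commute (t * j) (x * (t * j) * x⁻¹)) : x * (t * j) * x⁻¹ = t * j := by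
  have hc : IsConj (t * j) (x * (t * j) * x⁻¹) := isConj_iff.2 ⟨x, rfl⟩
  have uu : x * (t * j) * x⁻¹ * (x * (t * j) * x⁻¹) = 1 := by rw [conj_mul, h.yy1]; simp
  have hk : ∀ s, Commute (x * (t * j) * x⁻¹) (κ (xx s)) := fun s =>
    ((hx s).mul_left (h.y_κ _)).mul_left (hx s).inv_left
  generalize x * (t * j) * x⁻¹ = u at *
  obtain ⟨s, hs⟩ := h.dec_y e.symm hk
  have e1 : (κ (xx s))⁻¹ * u * ((κ (xx s))⁻¹ * u) = (κ (xx (s + s)))⁻¹ := by
    rw [mul_assoc, ← mul_assoc u, (hk s).inv_right.eq, mul_assoc, uu, mul_one, ← mul_inv_rev,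
      ← map_mul, xx_mul]
  have e2 : s = 0 := by
    have := ((hs (yy 1)).mul_left (hs (yy 1)))
    rw [e1, Commute.inv_left_iff, Commute, SemiconjBy, ← map_mul, ← map_mul] at this
    rcases h.κ_eq this with e3 | e3
    · have := congrArg (fun A : SL(2, F) => A 0 0) e3
      simp only [sl2_mul_apply, xx_00, xx_01, yy_00, yy_01, yy_10, xx_10] at this
      exact (mul_eq_zero.1 (by linear_combination this)).resolve_left h.two
    · have := congrArg (fun A : SL(2, F) => A.1 1 0) e3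
      simp [Matrix.mul_apply, Fin.sum_univ_two] at this
      exact absurd (by linear_combination this) h.two
  rw [e2, xx_zero, map_one, inv_one, one_mul] at hs
  rcases h.invol_cent_κ uu e.symm hs with e3 | e3 | e3
  · rw [e3, isConj_one_left, mul_eq_one_iff_eq_inv, Sw0.j_inv] at hc
    exact absurd hc h.t_ne_j
  · exact e3
  · exact absurd (e3.trans hc.symm) h.nfus

theorem j_isolated {x : G} (hx : ∀ r ∈ 𝐑, Commute x r) (e : Commute j (x * j * x⁻¹)) :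
    x * j * x⁻¹ = j := by
  have uu : x * j * x⁻¹ * (x * j * x⁻¹) = 1 := by rw [conj_mul, Sw0.jj]; simp
  rcases h.cent_Rg e.symm fun r hr =>
    ((hx r hr).mul_left (h.Rg_j hr).symm).mul_left (hx r hr).inv_left with e1 | e1
  · exact absurd (by simpa using eq_one_of_odd_sq (h.Rg_odd e1) uu) h.j_ne
  · have := eq_one_of_odd_sq (h.Rg_odd e1) (by
      rw [mul_assoc, ← mul_assoc j, e.eq, ← mul_assoc, ← mul_assoc, uu, one_mul, Sw0.jj])
    rwa [mul_eq_one_iff_eq_inv, Sw0.j_inv] at this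

/-- The four-group generated by `j` and `t`. -/
def V4 : Subgroup G where
  carrier := {x | x = 1 ∨ x = j ∨ x = t ∨ x = t * j}
  one_mem' := Or.inl rfl
  mul_mem' := by
    have e2 : ∀ x, t * (t * x) = x := fun x => by rw [← mul_assoc, h.tt, one_mul]
    have e3 : ∀ x, j * (t * x) = t * (j * x) := fun x => by rw [← mul_assoc, ← h.tj.eq, mul_assoc]
    rintro _ _ (rfl | rfl | rfl | rfl) (rfl | rfl | rfl | rfl) <;>
      simp [e2, e3, Sw0.jj, h.tt, ← h.tj.eq, mul_assoc]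
  inv_mem' := by
    rintro _ (rfl | rfl | rfl | rfl)
    · simp
    · simp [Sw0.j_inv]
    · simp [h.t_inv]
    · exact Or.inr (Or.inr (Or.inr (inv_eq_of_mul_eq_one_right h.yy1)))

theorem V4_le {N : Subgroup G} (hj : j ∈ N) (ht : t ∈ N) : h.V4 ≤ N := by
  rintro _ (rfl | rfl | rfl | rfl)
  exacts [one_mem _, hj, ht, mul_mem ht hj]

theorem V4_two : IsPGroup 2 h.V4 := fun x => ⟨1, Subtype.ext (by
  rcases x with ⟨_, rfl | rfl | rfl | rfl⟩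
  · simp
  · simpa [sq] using Sw0.jj
  · simpa [sq] using h.tt
  · simpa [sq] using h.yy1)⟩

variable {h} {φ' : SL(2, F) →* G} (d : h.Dual φ')
include d

local notation "θ" => Sw0.θ d.sw.toSw0
local notation "𝐑'" => Sw0.Rg d.sw.toSw0

theorem Dual.κ_eq (A : SL(2, F)) : Sw0.κ d.sw.toSw0 A = κ A := d.diag A

theorem Dual.Rg_t {x : G} (hx : x ∈ 𝐑') : Commute x t := by
  have := d.sw.Rg_j hx
  rwa [d.neg] at this

theorem Dual.θ_t (a : F) : Commute (θ (xx a)) t := d.Rg_t (d.sw.θ_Rg a)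

theorem Dual.j_θ (a : F) : j * θ (xx a) * (j)⁻¹ = (θ (xx a))⁻¹ := by
  rw [← map_inv θ, xx_inv, Sw0.θ_xx, Sw0.θ_xx, d.sw.t_conj, neg_neg]

theorem Dual.θ_κ (a b : F) : Commute (θ (xx a)) (κ (xx b)) :=
  d.κ_eq (xx b) ▸ d.sw.Rg_comm (d.sw.θ_Rg a) (d.sw.κ_Rg b)

theorem Dual.θ_ne : θ (xx 2) ≠ 1 := fun e => by
  rw [Sw0.θ_xx] at e
  rcases d.sw.mul_eq_one e with e | e
  · exact h.two (xx_injective (e.1.trans xx_zero.symm))
  · have := congrArg (fun A : SL(2, F) => A.1 0 1) e.1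
    exact h.two (by simpa using this)

theorem Dual.comm_xx (a b : F) : Commute (φ (xx a)) (θ (xx b)) := by
  obtain ⟨p, hp⟩ := CharP.exists F
  have := Fact.mk (CharP.char_is_prime F p)
  set X := centralizer (Set.range fun s => κ (xx s)) with hX
  have mX : ∀ x, x ∈ X ↔ ∀ s, Commute x (κ (xx s)) := fun x =>
    ⟨fun e s => (e _ ⟨s, rfl⟩).symm, fun e _ ⟨s, e'⟩ => e' ▸ (e s).symm⟩
  have yX : t * j ∈ X := (mX _).2 fun s => h.y_κ _
  have hi : ∀ x ∈ X, Commute (t * j) (x * (t * j) * x⁻¹) → x * (t * j) * x⁻¹ = t * j :=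
    fun x hx => h.y_isolated ((mX x).1 hx)
  have kO : ∀ s, κ (xx s) ∈ Lyons.oc X := fun s =>
    SpE.mem_oc_of_central ((mX _).2 fun r => h.Rg_comm (h.κ_Rg s) (h.κ_Rg r))
      (h.Rg_odd (h.κ_Rg s)) fun c hc => (mX c).1 hc s
  have RO : 𝐑 ≤ Lyons.oc X := fun x hx => by
    obtain ⟨a, b, rfl⟩ := h.Rg_dec hx
    refine mul_mem (kO a) (SpE.mem_oc yX h.yy1 hi
      ((mX _).2 fun r => h.Rg_comm (h.θ_Rg b) (h.κ_Rg r)) (h.Rg_odd (h.θ_Rg b)) ?_)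
    rw [mul_inv_rev, ← mul_assoc, mul_assoc t, mul_assoc t, ← (h.Rg_j (h.θ_Rg b)).eq,
      mul_inv_cancel_right, ← map_inv, xx_inv, Sw0.θ_xx, Sw0.θ_xx, h.t_conj, neg_neg]
  have RO' : 𝐑' ≤ Lyons.oc X := fun x hx => by
    obtain ⟨a, b, rfl⟩ := d.sw.Rg_dec hx
    refine mul_mem (d.κ_eq _ ▸ kO a) (SpE.mem_oc yX h.yy1 hi
      ((mX _).2 (d.θ_κ b)) (d.sw.Rg_odd (d.sw.θ_Rg b)) ?_)
    rw [mul_inv_rev, ← mul_assoc, mul_assoc t, mul_assoc t, d.j_θ, ← (d.θ_t b).inv_left.eq,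
      mul_inv_cancel_right]
  have hV : h.V4 ≤ normalizer (Lyons.oc X : Set G) := (h.V4_le ((mX _).2 fun s => (h.κ_j _).symm)
    ((mX _).2 fun s => h.t_κ _)).trans (Lyons.le_norm_oc X)
  have hcop : (Nat.card h.V4).Coprime (Nat.card (Lyons.oc X)) := by
    obtain ⟨n, hn⟩ := h.V4_two.exists_card_eq
    rw [hn]
    exact Nat.Coprime.pow_left n (Nat.coprime_two_left.2 (Lyons.odd_oc X))
  have hsol : Group.IsSolvable h.V4 ∨ Group.IsSolvable (Lyons.oc X) := Or.inl <| by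
    have := h.V4_two.isNilpotent
    infer_instance
  obtain ⟨P, hP, h1, h2⟩ := PLocal.Sig.exists_invSyl_ge hV hcop hsol p RO
    (fun x => ⟨1, Subtype.ext (by simpa using h.Rg_pow x.2)⟩)
    (h.V4_le (mem_normalizer_fintype fun x hx => by
      rwa [← (h.Rg_j hx).eq, mul_inv_cancel_right]) (mem_normalizer_fintype fun x => h.t_Rg))
  obtain ⟨P', hP', h1', h2'⟩ := PLocal.Sig.exists_invSyl_ge hV hcop hsol p RO'
    (fun x => ⟨1, Subtype.ext (by simpa using d.sw.Rg_pow x.2)⟩)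
    (h.V4_le (mem_normalizer_fintype fun x => d.sw.t_Rg) (mem_normalizer_fintype fun x hx => by
      rwa [← (d.Rg_t hx).eq, mul_inv_cancel_right]))
  obtain ⟨c, hc, e⟩ := PLocal.Sig.invSyl_conj hV hcop hsol hP hP' h2 h2'
  have hcP : c ∈ P := h1 (h.mem_Rg_of_odd (hc.2 j (Or.inr (Or.inl rfl))).symm
    (Lyons.odd_orderOf (Lyons.odd_oc X) hc.1) ((mX c).1 (Lyons.oc_le X hc.1)))
  have ePP : P' = P := e.symm.trans (PLocal.Amb.cj_of_mem hcP)
  subst ePP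
  have oP : Odd (Nat.card P') := (Lyons.odd_oc X).of_dvd_nat (card_dvd_of_le hP.le)
  have cP : ∀ x ∈ P', ∀ s, Commute x (κ (xx s)) := fun x hx => (mX x).1 (Lyons.oc_le X (hP.le hx))
  have hy : ∀ x ∈ P', Commute x (t * j) → ∃ s, x = κ (xx s) := fun x hx =>
    h.cent_y_p oP (fun x hx => (hP.pgrp ⟨x, hx⟩).imp fun k e => congrArg Subtype.val e)
      (fun x => (mem_normalizer_iff.1 (h2 (Or.inr (Or.inl rfl))) x).1) (fun s => h1 (h.κ_Rg s))
      hx (cP x hx)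
  obtain ⟨u, hu, cu, e1⟩ := SpE.comm_mod oP h.yy1
    (fun x => (mem_normalizer_iff.1 (h2 (Or.inr (Or.inr (Or.inr rfl)))) x).1)
    (fun c hc e o ho => by obtain ⟨s, rfl⟩ := hy c hc e; exact (cP o ho s).symm)
    (h1 (h.φ_Rg a)) (h1' (d.sw.θ_Rg b))
  obtain ⟨s, rfl⟩ := hy u hu cu
  have e2 := congrArg (fun x => j * x * (j)⁻¹) e1
  simp only [← conj_mul, d.j_θ] at e2
  rw [← (Sw0.φ_j _).eq, ← (h.κ_j _).eq, mul_inv_cancel_right, mul_inv_cancel_right,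
    mul_inv_eq_iff_eq_mul, mul_assoc, mul_assoc, eq_inv_mul_iff_mul_eq, ← (d.θ_κ b s).eq,
    ← mul_assoc] at e2
  rw [e2, mul_assoc, left_eq_mul] at e1
  rw [eq_one_of_odd_sq (h.Rg_odd (h.κ_Rg s)) e1, mul_one] at e2
  exact e2.symm

theorem Dual.comm_Rg {x : G} (hx : x ∈ 𝐑) (b : F) : Commute (θ (xx b)) x := by
  obtain ⟨a, a', rfl⟩ := hx
  refine (d.comm_xx a b).symm.mul_right ?_
  exact ((d.θ_t b).mul_right (d.comm_xx a' b).symm).mul_right (d.θ_t b).inv_right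

omit d in
theorem oc_facts {X : Subgroup G} (mX : ∀ x, x ∈ X ↔ ∀ r ∈ 𝐑, Commute x r) :
    (∀ x ∈ X, Odd (orderOf x) → j * x * (j)⁻¹ = x⁻¹ → x ∈ Lyons.oc X) ∧ 𝐑 ≤ Lyons.oc X ∧
    (∀ x ∈ X, x ∈ Lyons.oc X ∨ x * j ∈ Lyons.oc X) ∧
    ∀ a ∈ Lyons.oc X, ∀ b ∈ Lyons.oc X, ∃ u ∈ 𝐑, a * b = b * a * u := by
  have jX : j ∈ X := (mX _).2 fun r hr => (h.Rg_j hr).symm
  have hi : ∀ x ∈ X, Commute j (x * j * x⁻¹) → x * j * x⁻¹ = j :=
    fun x hx => h.j_isolated ((mX x).1 hx)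
  have RO : 𝐑 ≤ Lyons.oc X := fun r hr => SpE.mem_oc_of_central
    ((mX _).2 fun r' => h.Rg_comm hr) (h.Rg_odd hr) fun c hc => (mX c).1 hc r hr
  have cR : ∀ c ∈ Lyons.oc X, Commute c j → c ∈ 𝐑 := fun c hc e =>
    h.mem_Rg_of_odd e (Lyons.odd_orderOf (Lyons.odd_oc X) hc) fun s =>
      (mX c).1 (Lyons.oc_le X hc) _ (h.κ_Rg s)
  refine ⟨fun x => SpE.mem_oc jX Sw0.jj hi, RO, fun x hx => ?_, fun a ha b hb => ?_⟩
  · obtain ⟨o, ho, c, hc, e, rfl⟩ := SpE.decomp jX Sw0.jj hi hx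
    exact (h.cent_Rg e ((mX c).1 hc)).imp (fun e => mul_mem ho (RO e)) fun e =>
      mul_assoc o c j ▸ mul_mem ho (RO e)
  · obtain ⟨u, hu, cu, e⟩ := SpE.comm_mod (Lyons.odd_oc X) Sw0.jj
      (fun x => (mem_normalizer_iff.1 (Lyons.le_norm_oc X jX) x).1)
      (fun c hc e o ho => ((mX o).1 (Lyons.oc_le X ho) c (cR c hc e)).symm) ha hb
    exact ⟨u, cR u hu cu, e⟩

omit d in
theorem mem_cent_Rg (x : G) : x ∈ centralizer (𝐑 : Set G) ↔ ∀ r ∈ 𝐑, Commute x r :=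
  ⟨fun e r hr => (e r hr).symm, fun e r hr => (e r hr).symm⟩

omit d in
theorem comm_Rg_of {x : G} (h1 : ∀ a, Commute x (φ (xx a))) (h2 : ∀ a, Commute x (ψ (xx a))) :
    x ∈ centralizer (𝐑 : Set G) := (mem_cent_Rg (h := h) x).2 (by
  rintro _ ⟨a, b, rfl⟩
  exact (h1 a).mul_right (h2 b))

theorem Dual.eq_θ {p k : ℕ} [CharP F p] {x : G} (h1 : ∀ a, Commute x (φ (xx a)))
    (h2 : ∀ a, Commute x (ψ (xx a))) (hj : j * x * (j)⁻¹ = x⁻¹) (hp : x ^ p ^ k = 1) :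
    ∃ b, x = θ (xx b) := by
  have := Fact.mk (CharP.char_is_prime F p)
  have hp2 : Odd p := (CharP.char_is_prime F p).odd_of_ne_two (by
    rintro rfl
    exact h.two (CharP.cast_eq_zero F 2))
  have ox : Odd (orderOf x) := hp2.pow.of_dvd_nat (orderOf_dvd_of_pow_eq_one hp)
  set X := centralizer (𝐑 : Set G) with hX
  have mX : ∀ x, x ∈ X ↔ ∀ r ∈ 𝐑, Commute x r := mem_cent_Rg (h := h)
  obtain ⟨f1, f2, -, f4⟩ := oc_facts (h := h) mX
  have xO := f1 x (comm_Rg_of (h := h) h1 h2) ox hj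
  set P := SpE.pel p (Lyons.oc X) fun a ha b hb => by
    obtain ⟨u, hu, e⟩ := f4 a ha b hb
    exact ⟨u, h.Rg_pow hu, ((mX a).1 (Lyons.oc_le X ha) u hu).symm,
      ((mX b).1 (Lyons.oc_le X hb) u hu).symm, e⟩
  have oP : Odd (Nat.card P) :=
    (Lyons.odd_oc X).of_dvd_nat (card_dvd_of_le fun _ hx => hx.1)
  have cP : ∀ x ∈ P, ∀ s, Commute x (κ (xx s)) := fun x hx s =>
    (mX x).1 (Lyons.oc_le X hx.1) _ (h.κ_Rg s)
  have nP : ∀ g, (∀ r ∈ 𝐑, g⁻¹ * r * g ∈ 𝐑) → ∀ x ∈ P, g * x * g⁻¹ ∈ P :=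
    fun g hg x ⟨hx, k, hk⟩ => ⟨SpE.conj_mem_oc (fun z hz => (mX _).2 fun r hr => by
      simpa [mul_assoc] using ((mX z).1 hz _ (hg r hr)).map (MulAut.conj g).toMonoidHom) hx,
      k, by rw [conj_pow, hk]; simp⟩
  have jP := nP j fun r hr => by rwa [mul_assoc, (h.Rg_j hr).eq, inv_mul_cancel_left]
  have tP := nP t fun r hr => by simpa [h.t_inv] using h.t_Rg hr
  have hy : ∀ x ∈ P, Commute x (t * j) → ∃ s, x = κ (xx s) := fun x hx =>
    h.cent_y_p oP (fun x hx => hx.2) jP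
      (fun s => ⟨f2 (h.κ_Rg s), 1, by simpa using h.Rg_pow (h.κ_Rg s)⟩) hx (cP x hx)
  have xP : x ∈ P := ⟨xO, k, hp⟩
  obtain ⟨u, hu, cu, e1⟩ := SpE.inv_mod oP h.yy1
    (fun x hx => by simpa [mul_assoc] using tP _ (jP x hx))
    (fun c hc e o ho => by obtain ⟨s, rfl⟩ := hy c hc e; exact (cP o ho s).symm) xP
  obtain ⟨s, rfl⟩ := hy u hu cu
  rw [mul_inv_rev, ← mul_assoc, mul_assoc t, mul_assoc t, hj] at e1
  have hj' : j * x⁻¹ * (j)⁻¹ = x := by rw [← conj_inv, hj, inv_inv]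
  have e2 : κ (xx s) * κ (xx s) = 1 := by
    have e3 : j * (t * x⁻¹ * t⁻¹) * (j)⁻¹ = t * x * t⁻¹ := by
      rw [← conj_mul, ← conj_mul, hj', ← h.tj.eq, ← h.tj.inv_left.eq, mul_inv_cancel_right,
        mul_inv_cancel_right]
    rw [e1, ← conj_mul, hj', ← (h.κ_j _).eq, mul_inv_cancel_right] at e3
    have e4 : κ (xx s) * x * (κ (xx s) * x⁻¹) = 1 := by rw [e3, ← e1]; group
    rwa [mul_assoc, ← mul_assoc x, (cP x xP s).eq, mul_inv_cancel_right] at e4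
  rw [eq_one_of_odd_sq (h.Rg_odd (h.κ_Rg s)) e2, one_mul, mul_inv_eq_iff_eq_mul] at e1
  have xt : Commute x (φ' (-1)) := by rw [d.neg]; exact (Commute.inv_right_iff.1 e1).symm
  obtain ⟨a, b, e3⟩ := d.sw.Rg_dec (d.sw.mem_Rg_of_odd xt ox fun s => d.κ_eq _ ▸ cP x xP s)
  rw [d.κ_eq] at e3
  refine ⟨b, ?_⟩
  rw [e3, ← conj_mul, d.j_θ, ← (h.κ_j _).eq, mul_inv_cancel_right, mul_inv_rev,
    (d.θ_κ b a).inv_inv.eq, mul_left_inj, eq_inv_iff_mul_eq_one] at hj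
  rw [e3, eq_one_of_odd_sq (h.Rg_odd (h.κ_Rg a)) hj, one_mul]

theorem Dual.odd_of_comm {x : G} (h1 : ∀ a, Commute x (φ (xx a))) (h2 : ∀ a, Commute x (ψ (xx a)))
    (h3 : ∀ a, Commute x (θ (xx a))) : Odd (orderOf x) := by
  set X := centralizer (𝐑 : Set G) with hX
  have mX : ∀ x, x ∈ X ↔ ∀ r ∈ 𝐑, Commute x r := mem_cent_Rg (h := h)
  obtain ⟨f1, -, f3, f4⟩ := oc_facts (h := h) mX
  refine Lyons.odd_orderOf (Lyons.odd_oc X) ((f3 x (comm_Rg_of (h := h) h1 h2)).resolve_right fun e => ?_)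
  obtain ⟨u, hu, e1⟩ := f4 _ e _ (f1 _ ((mX _).2 fun r hr => d.comm_Rg hr 1)
    (d.sw.Rg_odd (d.sw.θ_Rg 1)) (d.j_θ 1))
  have e2 : x * j * θ (xx 1) = (θ (xx 1))⁻¹ * (x * j) := by
    rw [mul_assoc, mul_inv_eq_iff_eq_mul.1 (d.j_θ 1), ← mul_assoc, (h3 1).inv_right.eq, mul_assoc]
  rw [e2, mul_assoc (θ (xx 1)), ((mX _).1 (Lyons.oc_le X e) u hu).eq, ← mul_assoc (θ (xx 1)),
    mul_left_inj,
    inv_eq_iff_mul_eq_one, ← mul_assoc, ← map_mul, xx_mul, one_add_one_eq_two,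
    mul_eq_one_iff_inv_eq] at e1
  have e3 := d.j_θ 2
  have e4 : Commute (θ (xx 2)) j := by
    rw [← Commute.inv_left_iff, e1]; exact h.Rg_j hu
  rw [← e4.eq, mul_inv_cancel_right, eq_inv_iff_mul_eq_one] at e3
  exact d.θ_ne (eq_one_of_odd_sq (d.sw.Rg_odd (d.sw.θ_Rg 2)) e3)

end Cfsg.Agent.FW.Sw
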