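import Mathlib
import Cfsg.Agent.FW.SpE
import Cfsg.Agent.Grp.Subnormal

/-!
The commutator relations.  (Guide `94_fw_sp`.)
-/

set_option autoImplicit false
set_option linter.unusedSectionVars false

namespace Cfsg.Agent.FW.Sw

open Cfsg.Agent.KSG.M2 hiding dg coe_dg
open Cfsg.Agent.KSG Cfsg.Agent.RootSub Subgroup
open Cfsg.Agent.Comm.Hex (dg coe_dg coe_ww)
open scoped MatrixGroups

variable {F G : Type*} [Field F] [Fintype F] [Group G] [Finite G] {φ : SL(2, F) →* G} {t : G}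
  (h : Sw φ t)

local notation "j" => φ (-1)
local notation "ψ" => FW.cjh t φ
local notation "κ" => Sw0.κ h.toSw0

omit [Fintype F] in
theorem o_xx_ne_neg (h2 : (2 : F) ≠ 0) (s : F) : xx s ≠ (-1 : SL(2, F)) := fun e => by
  have := congrArg (fun A : SL(2, F) => A.1 0 0) e
  simp at this
  exact h2 (by linear_combination this)

omit [Fintype F] in
theorem o_xx_eq_one {s : F} (e : xx s = (1 : SL(2, F))) : s = 0 :=
  xx_injective (e.trans xx_zero.symm)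

omit [Fintype F] [Finite G] in
theorem o_xx_pow {p : ℕ} [CharP F p] (f : SL(2, F) →* G) (s : F) : f (xx s) ^ p ^ 1 = 1 := by
  rw [pow_one, ← map_pow, xx_pow, CharP.cast_eq_zero, zero_mul, xx_zero, map_one]

omit [Finite G] in
theorem o_odd (h2 : (2 : F) ≠ 0) (f : SL(2, F) →* G) (s : F) : Odd (orderOf (f (xx s))) :=
  (FW.odd_xx h2 s).of_dvd_nat (orderOf_map_dvd f _)

section Rad

include h

theorem o_cent_U {c : G} (hj : Commute c j) (hc : ∀ s, Commute c (φ (xx s))) :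
    ∃ s B, c = φ (xx s) * ψ B := by
  have hn : c ∈ N0 φ := (h.mem_or hj).resolve_right fun ⟨M, σ, a⟩ => by
    have e := a (xx 1)
    refine h.ψ_xx_ne (xx 1) ?_
    have e1 : φ (xx 1) = ψ (cg M (fm σ (xx 1))) := by
      rw [cjh_apply, ← e, mul_assoc t⁻¹, (hc 1).eq]; group
    rcases h.inter _ _ e1 with e2 | e2
    · exact absurd (o_xx_eq_one e2) one_ne_zero
    · exact absurd e2 (o_xx_ne_neg h.two _)
  obtain ⟨σ, σ', -, -, A, B, a, b⟩ := h.fld hn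
  obtain ⟨rfl, h0, h1⟩ := fix_xx fun s => a.of_comm h.inj (hc s)
  obtain rfl := h.fld_eq ⟨A, B, a, b⟩
  obtain ⟨s, r, e⟩ := eq_xx h0 h1
  rcases h.eq_of_act ((actS_one.1 a).congr e) (actS_one.1 b) with e | e
  exacts [⟨s, _, e⟩, ⟨s, _, e⟩]

theorem o_invol {z : G} (hj : Commute z j) (hc : ∀ s, Commute z (φ (xx s))) (e : z * z = 1) :
    z = 1 ∨ z = j := by
  obtain ⟨s, B, rfl⟩ := h.o_cent_U hj hc
  rcases h.invol_Y e with e | e | ⟨e, -⟩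
  · exact Or.inl e
  · exact Or.inr e
  · rw [xx_mul] at e; exact absurd e (o_xx_ne_neg h.two _)

omit h in
theorem o_j_CU : j ∈ CU φ := mem_CU.2 fun _ => (Sw0.φ_j _).symm

theorem o_decomp {g : G} (hg : g ∈ CU φ) : ∃ o ∈ Oc φ, ∃ c, Commute c j ∧ g = o * c := by
  have hi : IsIsolated (⟨j, o_j_CU⟩ : CU φ) := fun x hx => Subtype.ext (by
    refine (h.o_invol (z := x * j * (x : G)⁻¹) (hx.map (CU φ).subtype).symm
      (mem_CU.1 (mul_mem (mul_mem x.2 o_j_CU) (inv_mem x.2)))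
      (by rw [conj_mul, Sw0.jj]; simp)).resolve_left ?_
    simpa using h.j_ne)
  obtain ⟨o, ho, c, hc, e⟩ := Inv.exists_oddCore_mul_of_isIsolated hi
    ⟨1, Subtype.ext (by simpa [sq] using (Sw0.jj (φ := φ)))⟩ ⟨g, hg⟩
  exact ⟨o, ⟨o, ho, rfl⟩, c, congrArg Subtype.val (mem_centralizer_singleton_iff.1 hc),
    congrArg Subtype.val e⟩

omit h in
theorem o_conj_j {o : G} (ho : o ∈ Oc φ) : j * o * j⁻¹ ∈ Oc φ :=
  Oc.conj_of_comm (mem_CU.1 o_j_CU) ho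

theorem o_mem {u : G} (hu : ∀ s, Commute u (φ (xx s))) (ho : Odd (orderOf u))
    (e : j * u * j⁻¹ = u⁻¹) : u ∈ Oc φ := by
  obtain ⟨o, hO, c, hc, rfl⟩ := h.o_decomp (mem_CU.2 hu)
  refine Lyons.mem_of_odd_of_pow ho (k := 1) ?_
  have : (o * c) ^ 2 ^ 1 = (j * o * j⁻¹ * o⁻¹)⁻¹ := by
    rw [show j * o * j⁻¹ * o⁻¹ = j * o * (j⁻¹ * c) * (o * c)⁻¹ by group, ← hc.inv_right.eq,
      ← mul_assoc, mul_assoc j, e, pow_one, sq]; group
  exact this ▸ inv_mem (mul_mem (o_conj_j hO) (inv_mem hO))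

theorem o_xx_mem (s : F) : φ (xx s) ∈ Oc φ := by
  refine Lyons.le_oc (K := zpowers (φ (xx s))) (zpowers_le.2 (mem_CU.2 (xx_comm s))) (fun c hc => ?_)
    (by rw [Nat.card_zpowers]; exact o_odd h.two φ s) (mem_zpowers _)
  refine mem_normalizer_fintype fun x hx => ?_
  obtain ⟨k, rfl⟩ := mem_zpowers_iff.1 hx
  rw [((mem_CU.1 hc s).zpow_right k).eq, mul_inv_cancel_right]
  exact hx

theorem o_conj_ψ (B : SL(2, F)) {o : G} (ho : o ∈ Oc φ) : ψ B * o * (ψ B)⁻¹ ∈ Oc φ :=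
  Oc.conj_of_comm (fun _ => (h.comm _ B).symm) ho

theorem o_cent_O {B : SL(2, F)} (hB : ψ B ∈ Oc φ) : B = 1 := by
  have : ((Oc φ).comap ψ).Normal := ⟨fun x hx y => by
    rw [mem_comap, map_mul, map_mul, map_inv]
    exact h.o_conj_ψ y hx⟩
  have e := odd_normal_eq_bot (odd_card h.two) ((Oc φ).comap ψ)
    ((Lyons.odd_oc (CU φ)).of_dvd_nat (card_comap_dvd_of_injective _ _ h.ψ_inj))
  exact mem_bot.1 (e ▸ hB)

theorem o_eq_xx {o : G} (ho : o ∈ Oc φ) (hj : Commute o j) : ∃ s, o = φ (xx s) := by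
  obtain ⟨s, B, rfl⟩ := h.o_cent_U hj (Oc.comm ho)
  refine ⟨s, ?_⟩
  rw [h.o_cent_O (B := B) (by simpa using mul_mem (inv_mem (h.o_xx_mem s)) ho), map_one, mul_one]

theorem o_inv_mod {o : G} (ho : o ∈ Oc φ) : ∃ s, j * o * j⁻¹ = φ (xx s) * o⁻¹ := by
  obtain ⟨x, hx, c, hc, e1, e2, rfl⟩ :=
    exists_inv_cent (Lyons.odd_oc _) Sw0.jj (fun _ => o_conj_j) ho
  obtain ⟨s, rfl⟩ := h.o_eq_xx hc e2
  refine ⟨s + s, ?_⟩
  rw [← conj_mul, e1, ← e2.eq, mul_inv_cancel_right, (Oc.comm hx s).inv_left.eq, φ_xx_add]; group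

theorem o_comm_mod {o o' : G} (ho : o ∈ Oc φ) (ho' : o' ∈ Oc φ) :
    ∃ s, o * o' = o' * o * φ (xx s) := by
  obtain ⟨s, e⟩ := h.o_inv_mod (inv_mem ho)
  obtain ⟨s', e'⟩ := h.o_inv_mod (inv_mem ho')
  obtain ⟨s'', e''⟩ := h.o_inv_mod (mul_mem (inv_mem ho) (inv_mem ho'))
  rw [← conj_mul, e, e', inv_inv, inv_inv, mul_assoc, ← mul_assoc o, (Oc.comm ho s').eq,
    _root_.mul_inv_rev, inv_inv, inv_inv, ← (Oc.comm (mul_mem ho' ho) s'').eq, ← mul_assoc,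
    ← mul_assoc, ← φ_xx_add, mul_assoc, ← (Oc.comm (mul_mem ho ho') _).eq] at e''
  exact ⟨s'' + -(s + s'), by rw [φ_xx_add, φ_xx_neg, ← mul_assoc, ← e'']; group⟩

theorem o_conj_mod {o o' : G} (ho : o ∈ Oc φ) (ho' : o' ∈ Oc φ) :
    ∃ s, o * o' * o⁻¹ = o' * φ (xx s) := by
  obtain ⟨s, e⟩ := h.o_comm_mod ho ho'
  exact ⟨s, by rw [e, mul_assoc o', (Oc.comm ho s).eq]; group⟩

theorem o_mul_pow {o o' : G} (ho : o ∈ Oc φ) (ho' : o' ∈ Oc φ) (n : ℕ) :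
    ∃ s, (o * o') ^ n = o ^ n * o' ^ n * φ (xx s) := by
  induction n with
  | zero => exact ⟨0, by simp [xx_zero]⟩
  | succ n ih =>
    obtain ⟨s, e⟩ := ih
    obtain ⟨r, e'⟩ := h.o_comm_mod (pow_mem ho' n) ho
    refine ⟨r + s, ?_⟩
    rw [pow_succ, e, mul_assoc _ (φ _), ← (Oc.comm (mul_mem ho ho') s).eq, φ_xx_add, pow_succ,
      pow_succ]
    calc o ^ n * o' ^ n * (o * o' * φ (xx s)) = o ^ n * (o' ^ n * o) * o' * φ (xx s) := by group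
      _ = o ^ n * (o * o' ^ n) * (φ (xx r) * o') * φ (xx s) := by rw [e']; group
      _ = _ := by rw [← (Oc.comm ho' r).eq]; group

/-- The `p`-elements of `O(C(U₁))`. -/
def oP (p : ℕ) [CharP F p] : Subgroup G where
  carrier := {x | x ∈ Oc φ ∧ ∃ k, x ^ p ^ k = 1}
  one_mem' := ⟨one_mem _, 0, one_pow _⟩
  mul_mem' := by
    rintro x y ⟨hx, k, e⟩ ⟨hy, l, e'⟩
    obtain ⟨s, e1⟩ := h.o_mul_pow hx hy (p ^ (k + l))
    refine ⟨mul_mem hx hy, k + l + 1, ?_⟩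
    have e2 : x ^ p ^ (k + l) = 1 := by rw [pow_add, pow_mul, e, one_pow]
    have e3 : y ^ p ^ (k + l) = 1 := by rw [add_comm, pow_add, pow_mul, e', one_pow]
    rw [pow_add, pow_mul, e1, e2, e3, one_mul, one_mul, o_xx_pow]
  inv_mem' := fun ⟨hx, k, e⟩ => ⟨inv_mem hx, k, by rw [inv_pow, e, inv_one]⟩

omit h in
theorem oP_conj {h : Sw φ t} {p : ℕ} [CharP F p] {g x : G} (hg : ∀ s, Commute g (φ (xx s)))
    (hx : x ∈ h.oP p) : g * x * g⁻¹ ∈ h.oP p := by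
  obtain ⟨hx, k, e⟩ := hx
  exact ⟨Oc.conj_of_comm hg hx, k, by rw [conj_pow, e]; simp⟩

end Rad

variable {h} {φ' : SL(2, F) →* G} (d : h.Dual φ')
include d

local notation "θ" => Sw0.θ d.sw.toSw0
local notation "ψ'" => FW.cjh j φ'

theorem Dual.o_θ (a : F) : θ (xx a) = φ' (xx a) * ψ' (xx (-a)) := by
  change φ' (xx a) * ψ' (cg (dm (-1)) (xx a)) = _
  rw [cg_dm_xx]; simp

theorem Dual.o_t (A : SL(2, F)) : Commute t (θ A) := by
  have := ((Sw0.φ_j A).mul_left (d.sw.ψ_j (cg (dm (-1)) A))).symm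
  rwa [d.neg] at this

theorem Dual.o_j (a : F) : j * θ (xx a) * j⁻¹ = θ (xx (-a)) := by
  rw [d.o_θ, d.o_θ, d.sw.t_conj, neg_neg]

theorem Dual.o_ne {a : F} (e : θ (xx a) = 1) : a = 0 := by
  rw [d.o_θ] at e
  rcases d.sw.mul_eq_one e with ⟨e, -⟩ | ⟨e, -⟩
  · exact o_xx_eq_one e
  · exact absurd e (o_xx_ne_neg h.two _)

theorem Dual.o_ψθ (a b : F) : Commute (ψ (xx a)) (θ (xx b)) := by
  have := (d.comm_xx a b).map (MulAut.conj t).toMonoidHom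
  simp only [MulEquiv.coe_toMonoidHom, MulAut.conj_apply] at this
  rwa [(d.o_t _).eq, mul_inv_cancel_right] at this

theorem Dual.o_θ_mem (b : F) : θ (xx b) ∈ Oc φ :=
  h.o_mem (fun s => (d.comm_xx s b).symm) (o_odd h.two _ b) (by rw [d.o_j, φ_xx_neg])

/-- The abelian group `U₂ W₀ U₁`. -/
def Dual.oE : Subgroup G := (MonoidHom.mk' (M := Multiplicative (F × F × F))
  (fun v => ψ (xx v.toAdd.1) * θ (xx v.toAdd.2.1) * φ (xx v.toAdd.2.2)) fun v w => by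
    simp only [toAdd_mul, Prod.fst_add, Prod.snd_add, φ_xx_add]
    rw [((h.comm _ _).mul_right (d.comm_xx _ _)).mul_mul_mul_comm,
      (d.o_ψθ _ _).mul_mul_mul_comm]).range

theorem Dual.mem_oE {x : G} : x ∈ d.oE ↔ ∃ s b a, x = ψ (xx s) * θ (xx b) * φ (xx a) :=
  ⟨fun ⟨_, e⟩ => ⟨_, _, _, e.symm⟩, fun ⟨s, b, a, e⟩ => ⟨Multiplicative.ofAdd (s, b, a), e.symm⟩⟩

theorem Dual.o_ψ_mem (s : F) : ψ (xx s) ∈ d.oE := d.mem_oE.2 ⟨s, 0, 0, by simp [xx_zero]⟩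

theorem Dual.oE_φ {x : G} (hx : x ∈ d.oE) (s : F) : Commute x (φ (xx s)) := by
  obtain ⟨_, _, _, rfl⟩ := d.mem_oE.1 hx
  exact ((h.comm _ _).symm.mul_left (d.comm_xx _ _).symm).mul_left (xx_comm _ _)

theorem Dual.oE_θ {x : G} (hx : x ∈ d.oE) (s : F) : Commute x (θ (xx s)) := by
  obtain ⟨_, _, _, rfl⟩ := d.mem_oE.1 hx
  exact ((d.o_ψθ _ _).mul_left (xx_comm _ _)).mul_left (d.comm_xx _ _)

theorem Dual.oE_ψ {x : G} (hx : x ∈ d.oE) (s : F) : Commute x (ψ (xx s)) := by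
  obtain ⟨_, _, _, rfl⟩ := d.mem_oE.1 hx
  exact ((xx_comm _ _).mul_left (d.o_ψθ _ _).symm).mul_left (h.comm _ _)

theorem Dual.o_conj {g : G} (hg : g ∈ Oc φ) (hn : g ∈ normalizer (d.oE : Set G)) (s : F) :
    ∃ a b, g * ψ (xx s) * g⁻¹ = ψ (xx s) * θ (xx b) * φ (xx a) := by
  have h1 := mul_mem (inv_mem (d.o_ψ_mem s)) ((mem_normalizer_iff.1 hn _).1 (d.o_ψ_mem s))
  obtain ⟨s', b, a, e⟩ := d.mem_oE.1 h1
  have h2 : ψ (xx s') * θ (xx b) * φ (xx a) ∈ Oc φ := by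
    have := mul_mem (h.o_conj_ψ (xx s)⁻¹ hg) (inv_mem hg)
    rw [map_inv, inv_inv] at this
    rw [← e]; simpa only [mul_assoc] using this
  have h3 := h.o_cent_O (B := xx s') (by
    simpa using mul_mem (mul_mem h2 (inv_mem (h.o_xx_mem a))) (inv_mem (d.o_θ_mem b)))
  rw [h3, map_one, one_mul, inv_mul_eq_iff_eq_mul, ← mul_assoc] at e
  exact ⟨a, b, e⟩

theorem Dual.o_cent_κ {m : G} (ht : Commute m t) (hm : ∀ a, Commute m (θ (xx a))) (a : F) :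
    Commute (m * m) (κ (xx a)) := by
  obtain ⟨σ, σ', -, -, A, B, a1, a2⟩ := d.sw.fld (d.sw.sq_mem (d.neg ▸ ht))
  have key : ∀ s, cg (tg A) (fm σ (xx s)) = xx s ∧ cg (tg B) (fm σ' (xx (-s))) = xx (-s) := by
    intro s
    have e := ((hm (s / 2)).mul_left (hm (s / 2))).eq
    rw [← mul_inv_eq_iff_eq_mul, d.o_θ, ← conj_mul, a1, a2] at e
    have hs : s / 2 + s / 2 = s := by have := h.two; field_simp; ring
    have hs' : -(s / 2) + -(s / 2) = -s := by rw [← neg_add, hs]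
    rw [← hs', ← xx_mul, ← hs, ← xx_mul, map_mul, map_mul, map_mul, map_mul, hs]
    rcases d.sw.mul_eq e with ⟨e1, e2⟩ | ⟨e1, e2⟩ <;> rw [e1, e2] <;> simp
  rw [← d.diag]
  refine Commute.mul_right (mul_inv_eq_iff_eq_mul.1 ?_) (mul_inv_eq_iff_eq_mul.1 ?_)
  · rw [a1, (key a).1]
  · rw [a2, ← neg_neg a, (key (-a)).2]

theorem Dual.o_beta {g : G} (h1 : ∀ a, Commute g (φ (xx a))) (h2 : ∀ a, Commute g (θ (xx a)))
    {β : F → F} (h3 : ∀ s, g * ψ (xx s) * g⁻¹ = ψ (xx s) * θ (xx (β s))) (s : F) : β s = 0 := by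
  have tφ : ∀ A, t * φ A * t⁻¹ = ψ A := fun _ => rfl
  have tψ : ∀ A, t * ψ A * t⁻¹ = φ A := fun A => by rw [Sw0.t_ψ h.tt, mul_inv_cancel_right]
  have tθ : ∀ A, t * θ A * t⁻¹ = θ A := fun A => by rw [(d.o_t A).eq, mul_inv_cancel_right]
  have gφ : ∀ a, g * φ (xx a) * g⁻¹ = φ (xx a) := fun a => by rw [(h1 a).eq, mul_inv_cancel_right]
  have gθ : ∀ a, g * θ (xx a) * g⁻¹ = θ (xx a) := fun a => by rw [(h2 a).eq, mul_inv_cancel_right]
  have cj : ∀ x y z : G, x * y * z * (x * y)⁻¹ = x * (y * z * y⁻¹) * x⁻¹ := fun x y z => by group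
  obtain ⟨μ, hμ⟩ : ∃ μ, μ = g * t * g * t := ⟨_, rfl⟩
  have μφ : ∀ a, μ * φ (xx a) * μ⁻¹ = φ (xx a) * θ (xx (β a)) := fun a => by
    rw [hμ, cj, cj, cj, tφ, h3, ← conj_mul (b := t), tψ, tθ, ← conj_mul, gφ, gθ]
  have μψ : ∀ a, μ * ψ (xx a) * μ⁻¹ = ψ (xx a) * θ (xx (β a)) := fun a => by
    rw [hμ, cj, cj, cj, tψ, gφ, tφ, h3]
  have μθ : ∀ a, μ * θ (xx a) * μ⁻¹ = θ (xx a) := fun a => by
    rw [hμ, cj, cj, cj, tθ, gθ, tθ, gθ]
  have inv : ∀ {x y : G}, μ * x * μ⁻¹ = y → μ⁻¹ * y * μ⁻¹⁻¹ = x := by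
    rintro x _ rfl; group
  have iθ := fun a => inv (μθ a)
  have iφ : ∀ a, μ⁻¹ * φ (xx a) * μ⁻¹⁻¹ = φ (xx a) * θ (xx (-β a)) := fun a => inv (by
    rw [← conj_mul, μφ, μθ, φ_xx_neg, mul_inv_cancel_right])
  have iψ : ∀ a, μ⁻¹ * ψ (xx a) * μ⁻¹⁻¹ = ψ (xx a) * θ (xx (-β a)) := fun a => inv (by
    rw [← conj_mul, μψ, μθ, φ_xx_neg, mul_inv_cancel_right])
  obtain ⟨ρ, hρ⟩ : ∃ ρ, ρ = μ * t * μ⁻¹ * t := ⟨_, rfl⟩
  have ρφ : ∀ a, Commute ρ (φ (xx a)) := fun a => mul_inv_eq_iff_eq_mul.1 (by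
    rw [hρ, cj, cj, cj, tφ, iψ, ← conj_mul (b := t), tψ, tθ, ← conj_mul, μφ, μθ, φ_xx_neg,
      mul_inv_cancel_right])
  have ρψ : ∀ a, Commute ρ (ψ (xx a)) := fun a => mul_inv_eq_iff_eq_mul.1 (by
    rw [hρ, cj, cj, cj, tψ, iφ, ← conj_mul (b := t), tφ, tθ, ← conj_mul, μψ, μθ, φ_xx_neg,
      mul_inv_cancel_right])
  have ρθ : ∀ a, Commute ρ (θ (xx a)) := fun a => mul_inv_eq_iff_eq_mul.1 (by
    rw [hρ, cj, cj, cj, tθ, iθ, tθ, μθ])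
  obtain ⟨k, hk⟩ := d.odd_of_comm ρφ ρψ ρθ
  have e1 : t * ρ * t⁻¹ = ρ⁻¹ := by
    rw [hρ, mul_assoc, mul_inv_cancel_right, _root_.mul_inv_rev, conj_inv, h.t_inv]
  have e2 : Commute (ρ ^ k * μ) t := by
    have e3 : ρ ^ k * ρ * ρ ^ k = 1 := by
      rw [← pow_succ, ← pow_add, show k + 1 + k = orderOf ρ by omega, pow_orderOf_eq_one]
    have e4 : t * ρ ^ k = (ρ ^ k)⁻¹ * t := by rw [← inv_pow, ← e1, conj_pow, inv_mul_cancel_right]
    have e5 : μ * t = ρ * t * μ := by rw [hρ, mul_assoc _ t t, h.tt, mul_one, inv_mul_cancel_right]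
    rw [Commute, SemiconjBy, mul_assoc, e5, ← mul_assoc t, e4, ← mul_assoc, ← mul_assoc,
      eq_inv_of_mul_eq_one_left e3]
  have pw : ∀ {x : G}, Commute ρ x → ρ ^ k * x * (ρ ^ k)⁻¹ = x := fun hx => by
    rw [(hx.pow_left k).eq, mul_inv_cancel_right]
  have mθ : ∀ a, ρ ^ k * μ * θ (xx a) * (ρ ^ k * μ)⁻¹ = θ (xx a) := fun a => by
    rw [cj, μθ, pw (ρθ a)]
  have mκ : ρ ^ k * μ * κ (xx s) * (ρ ^ k * μ)⁻¹ = κ (xx s) * θ (xx (β s + β s)) := by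
    rw [cj, h.κ_apply, ← conj_mul (b := μ), μφ, μψ, φ_xx_add, (d.o_ψθ _ _).mul_mul_mul_comm,
      pw (((ρφ _).mul_right (ρθ _)).mul_right ((ρψ _).mul_right (ρθ _)))]
  have e6 := (d.o_cent_κ e2 (fun a => mul_inv_eq_iff_eq_mul.1 (mθ a)) s).eq
  rw [← mul_inv_eq_iff_eq_mul, cj, mκ, ← conj_mul, mκ, mθ, mul_assoc, mul_eq_left,
    ← φ_xx_add] at e6
  have e7 : (2 : F) * (2 * β s) = 0 := by linear_combination d.o_ne e6
  simpa [h.two] using e7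

theorem Dual.o_claim {p : ℕ} [CharP F p] {g : G} (hg : g ∈ h.oP p)
    (hn : g ∈ normalizer (d.oE : Set G)) (hθ : ∀ a, Commute g (θ (xx a))) :
    ∃ b a, g = θ (xx b) * φ (xx a) := by
  obtain ⟨x, hx, c, hc, e1, e2, rfl⟩ := exists_inv_cent (O := h.oP p)
    (Lyons.odd_of_le (fun _ h => h.1) (Lyons.odd_oc _)) Sw0.jj
    (fun _ => oP_conj (mem_CU.1 o_j_CU)) hg
  obtain ⟨a, rfl⟩ := h.o_eq_xx hc.1 e2
  have h1 : ∀ s, Commute x (θ (xx s)) := fun s => by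
    simpa using (hθ s).mul_left (d.comm_xx a s).inv_left
  have h2 : x ∈ normalizer (d.oE : Set G) := by
    have h3 : φ (xx a) ∈ d.oE := d.mem_oE.2 ⟨0, 0, a, by simp [xx_zero]⟩
    simpa using mul_mem hn (inv_mem (le_normalizer h3))
  choose δ β e using d.o_conj hx.1 h2
  have h3 : ∀ s, φ (xx (δ s)) = 1 := fun s => by
    have e3 : x⁻¹ * ψ (xx s) * x = ψ (xx s) * θ (xx (-β s)) * φ (xx (δ s)) := by
      have := congrArg (fun y => j * y * j⁻¹) (e s)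
      simp only [← conj_mul] at this
      rwa [← conj_inv, e1, inv_inv, d.o_j, ← (h.ψ_j _).eq, mul_inv_cancel_right,
        ← (Sw0.φ_j (xx (δ s))).eq, mul_inv_cancel_right] at this
    have e4 : ψ (xx s) = x⁻¹ * ψ (xx s) * x * θ (xx (β s)) * φ (xx (δ s)) := by
      rw [mul_assoc _ x, (h1 _).eq, ← mul_assoc, mul_assoc _ x, (Oc.comm hx.1 _).eq, ← mul_assoc,
        mul_assoc x⁻¹, mul_assoc x⁻¹, ← e]; group
    rw [e3, mul_assoc _ (φ _), (d.comm_xx _ _).eq, φ_xx_neg, ← mul_assoc, inv_mul_cancel_right,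
      mul_assoc, left_eq_mul] at e4
    exact eq_one_of_odd_sq (o_odd h.two φ _) e4
  have h4 := d.o_beta (Oc.comm hx.1) h1 (β := β) fun s => by rw [e, h3, mul_one]
  obtain ⟨k, hk⟩ := hx.2
  obtain ⟨b, rfl⟩ := d.eq_θ (Oc.comm hx.1) (fun s => mul_inv_eq_iff_eq_mul.1 (by
    rw [e, h3, h4, xx_zero, map_one, mul_one, mul_one])) e1 hk
  exact ⟨b, a, rfl⟩

theorem Dual.o_norm {p : ℕ} [CharP F p] (hp : p.Prime) : h.oP p ≤ normalizer (d.oE : Set G) := by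
  have := Fact.mk hp
  let U : Subgroup G := (upperUnipotentSL2 F).map ψ
  have hU : ∀ {u}, u ∈ U → ∃ s, u = ψ (xx s) := by
    rintro _ ⟨A, hA, rfl⟩
    obtain ⟨s, rfl⟩ := mem_upper.1 hA
    exact ⟨s, rfl⟩
  have hn : U ≤ normalizer (h.oP p : Set G) := fun u hu => by
    obtain ⟨s, rfl⟩ := hU hu
    exact mem_normalizer_fintype fun x hx => oP_conj (fun _ => (h.comm _ _).symm) hx
  have hP : IsPGroup p (h.oP p) := fun x => x.2.2.imp fun k e => Subtype.ext e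
  have hΓ : IsPGroup p (h.oP p ⊔ U : Subgroup G) := hP.to_sup_of_normal_left' (fun u => by
    obtain ⟨s, e⟩ := hU u.2
    exact ⟨1, Subtype.ext (by rw [SubgroupClass.coe_pow, e]; exact o_xx_pow _ s)⟩) hn
  have dec : ∀ {x}, x ∈ h.oP p ⊔ U → ∃ g ∈ h.oP p, ∃ s, x = g * ψ (xx s) := fun hx => by
    obtain ⟨g, hg, u, hu, e⟩ := (PLocal.Amb.mem_sup_of_le_normalizer_left hn).1 hx
    obtain ⟨s, rfl⟩ := hU hu
    exact ⟨g, hg, s, e⟩
  have hE : d.oE ≤ h.oP p ⊔ U := fun x hx => by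
    obtain ⟨s, b, a, rfl⟩ := d.mem_oE.1 hx
    exact mul_mem (mul_mem (mem_sup_right ⟨_, xx_mem_upper s, rfl⟩)
      (mem_sup_left ⟨d.o_θ_mem b, 1, o_xx_pow _ b⟩)) (mem_sup_left ⟨h.o_xx_mem a, 1, o_xx_pow _ a⟩)
  refine le_sup_left.trans (inf_eq_left.1 (by_contra fun hne => ?_) : h.oP p ⊔ U ≤ _)
  obtain ⟨x, ⟨hx, hx'⟩, hx''⟩ := SetLike.exists_of_lt
    (Grp.lt_inf_normalizer_of_isNilpotent hΓ.isNilpotent (lt_of_le_of_ne inf_le_left hne))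
  refine hx'' ⟨hx, mem_normalizer_fintype fun y hy => ?_⟩
  obtain ⟨h1, h2⟩ := mem_inf.1 ((mem_normalizer_iff.1 hx' y).1 ⟨hE hy, le_normalizer hy⟩)
  obtain ⟨g, hg, s, e⟩ := dec h1
  obtain ⟨g', hg', s', rfl⟩ := dec hx
  have h3 : ∀ b, Commute (g * ψ (xx s)) (θ (xx b)) := fun b => by
    obtain ⟨a, e1⟩ := h.o_conj_mod (inv_mem hg'.1) (d.o_θ_mem b)
    have h4 := ((d.oE_θ hy b).mul_right (d.oE_φ hy a)).map
      (MulAut.conj (g' * ψ (xx s'))).toMonoidHom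
    simp only [MulEquiv.coe_toMonoidHom, MulAut.conj_apply] at h4
    rwa [e, mul_assoc g' (ψ _) (θ _ * _),
      ((d.o_ψθ _ _).mul_right (h.comm _ _).symm).eq, ← e1,
      show g' * (g'⁻¹ * θ (xx b) * g'⁻¹⁻¹ * ψ (xx s')) * (g' * ψ (xx s'))⁻¹ = θ (xx b) by group]
      at h4
  obtain ⟨b, a, rfl⟩ := d.o_claim hg
    (mul_inv_cancel_right g (ψ (xx s)) ▸ mul_mem (e ▸ h2) (inv_mem (le_normalizer (d.o_ψ_mem s))))
    fun b => by simpa using (h3 b).mul_left (d.o_ψθ s b).inv_left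
  rw [e]
  exact mul_mem (d.mem_oE.2 ⟨0, b, a, by simp [xx_zero]⟩) (d.o_ψ_mem s)

omit d in
theorem Dual.quad {h : Sw φ t} {φ' : SL(2, F) →* G} (d : h.Dual φ') :
    Quad φ t (Sw0.θ d.sw.toSw0) := by
  have hp := CharP.char_is_prime F (ringChar F)
  have hW : ∀ c, FW.cjh (ψ ww) (Sw0.θ d.sw.toSw0) (xx c) ∈ h.oP (ringChar F) := fun c =>
    oP_conj (fun _ => (h.comm _ _).symm) ⟨d.o_θ_mem c, 1, o_xx_pow _ c⟩
  refine ⟨h.two, h.inj, h.tt, h.tj, h.comm, h.inter, ?_, fun c => ?_, fun a => d.o_ne, d.o_t,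
    d.o_j, d.comm_xx, fun c a => ?_, fun c b => h.o_conj_mod (hW c).1 (d.o_θ_mem b),
    fun c s => d.o_conj (hW c).1 (d.o_norm hp (hW c)) s⟩
  · change φ' ww * FW.cjh j φ' (cg (dm (-1)) ww) = _
    have : cg (dm (-1)) (ww : SL(2, F)) = -ww := by
      rw [cg_eq_iff, Matrix.SpecialLinearGroup.coe_neg, coe_ww, coe_dm]
      apply ext2 <;> simp
    rw [this, d.sw.ψ_neg, d.neg, ← mul_assoc, d.diag, h.κ_apply]
  · change φ' (dg c) * FW.cjh j φ' (cg (dm (-1)) (dg c)) = _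
    have : cg (dm (-1)) (dg c : SL(2, F)) = dg c := by
      rw [cg_eq_iff, coe_dg, coe_dm]
      apply ext2 <;> simp
    rw [this, d.diag, h.κ_apply]
  · have a1 := ((actG_self (φ := φ) (dg c)).congr (dg_eq c)).inv
    refine d.eq_θ (p := ringChar F) (k := 1) (fun s => ?_) (fun s => ?_) ?_
      (by rw [conj_pow, o_xx_pow]; simp)
    · have e := a1 (xx s)
      rw [← map_inv dm, cg_dm_xx] at e
      have := (d.comm_xx (((c * c)⁻¹ : Fˣ) * s) a).symm.map (MulAut.conj (φ (dg c))).toMonoidHom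
      simp only [MulEquiv.coe_toMonoidHom, MulAut.conj_apply] at this
      rwa [← e, show φ (dg c) * ((φ (dg c))⁻¹ * φ (xx s) * (φ (dg c))⁻¹⁻¹) * (φ (dg c))⁻¹ =
        φ (xx s) by group] at this
    · exact ((h.comm _ _).mul_left (d.o_ψθ s a).symm).mul_left (h.comm _ _).inv_left
    · rw [← conj_mul, ← conj_mul, d.o_j, ← (Sw0.φ_j (dg c)).eq, mul_inv_cancel_right,
        ← (Sw0.φ_j (dg c)).inv_left.eq, mul_inv_cancel_right, φ_xx_neg, conj_inv]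

end Cfsg.Agent.FW.Sw
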