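import Mathlib
import Cfsg.Agent.FW.SpO
import Cfsg.Agent.FW.SpId

/-!
The normal subgroup `PSp₄(q)`.  (Guide `94_fw_sp`.)
-/

set_option autoImplicit false

namespace Cfsg.Agent.FW.Sw

open Cfsg.Agent.RootSub Subgroup
open scoped MatrixGroups

variable {F G : Type*} [Field F] [Fintype F] [Group G] [Finite G] {φ : SL(2, F) →* G} {t : G}
  (h : Sw φ t)
include h

local notation "j" => φ (-1)
local notation "ψ" => FW.cjh t φ
local notation "κ" => Sw0.κ h.toSw0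

theorem g_conj_t0 {c : G} (hc : c ∈ N0 φ) : ∃ A B, c * t * c⁻¹ = φ A * ψ B * t := by
  obtain ⟨σ, σ', -, -, f⟩ := h.fld hc
  obtain rfl := h.fld_eq f
  have e := f.mul (f.inv.conj_t h.tt)
  rw [mul_inv_cancel] at e
  obtain ⟨A, B, e'⟩ := h.mem_Yg.1 (h.mem_of_fld e)
  exact ⟨A, B, by rw [← e']; group⟩

theorem g_conj_t {c : G} (hc : Commute c j) : ∃ A B, c * t * c⁻¹ = φ A * ψ B * t := by
  rcases h.mem_or' hc with a | a
  · exact h.g_conj_t0 a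
  · obtain ⟨A, B, e⟩ := h.g_conj_t0 a
    exact ⟨A, B, by rw [← e]; group⟩

omit [Fintype F] [Finite G] h in
theorem g_φ_t (A : SL(2, F)) : φ A * ψ A⁻¹ * t = φ A * t * (φ A)⁻¹ := by
  rw [cjh_apply, map_inv]; group

/-- `C(j) = L₁ C(j, t)`. -/
theorem g_cent_dec {c : G} (hc : Commute c j) : ∃ A, Commute ((φ A)⁻¹ * c) t := by
  obtain ⟨A, B, e⟩ := h.g_conj_t hc
  have e1 : φ (A * B) * ψ (B * A) = 1 := by
    rw [← h.outer_sq, ← e, show c * t * c⁻¹ * (c * t * c⁻¹) = c * (t * t) * c⁻¹ by group, h.tt]; group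
  rcases h.mul_eq_one e1 with ⟨e2, -⟩ | ⟨e2, -⟩
  · obtain rfl : B = A⁻¹ := eq_inv_of_mul_eq_one_right e2
    rw [g_φ_t] at e
    refine ⟨A, ?_⟩
    change (φ A)⁻¹ * c * t = t * ((φ A)⁻¹ * c)
    calc _ = (φ A)⁻¹ * (c * t * c⁻¹) * c := by group
      _ = _ := by rw [e]; group
  · exfalso
    obtain rfl : B = -A⁻¹ := by
      rw [← mul_right_inj A, e2, mul_neg, mul_inv_cancel]
    have e3 : φ A * (t * j) * (φ A)⁻¹ = c * t * c⁻¹ := by
      rw [e, h.ψ_neg, ← mul_assoc, ← mul_assoc, mul_assoc _ j t, ← h.tj.eq, ← mul_assoc, g_φ_t,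
        mul_assoc _ j, (Sw0.φ_j A).inv_left.eq.symm, ← mul_assoc]
    exact h.nfus (h.fus.trans ((isConj_iff.2 ⟨c, rfl⟩).trans (isConj_iff.2 ⟨φ A, e3⟩).symm))

omit [Fintype F] [Finite G] in
theorem g_not_z : ¬ IsConj j (κ ww) := h.not_conj_Y (h.κ_mem _) (h.κ_ne_j _)

omit [Fintype F] [Finite G] in
theorem g_zz : κ ww * κ ww = 1 := h.κ_sq ww_ww

section Top

variable {M : Subgroup G} (hj : centralizer {φ (-1)} ≤ M) (ht : centralizer {t} ≤ M)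
include hj

local notation "𝐏[" s "]" => ∃ m ∈ M, m * s * m⁻¹ = j ∨ m * s * m⁻¹ = κ ww

omit [Fintype F] [Finite G] hj in
theorem g_P_conj {s m : G} (hm : m ∈ M) (hs : 𝐏[m * s * m⁻¹]) : 𝐏[s] := by
  obtain ⟨m', hm', e⟩ := hs
  refine ⟨m' * m, mul_mem hm' hm, ?_⟩
  rwa [show m' * m * s * (m' * m)⁻¹ = m' * (m * s * m⁻¹) * m'⁻¹ by group]

omit [Fintype F] [Finite G] h in
theorem g_mem {c : G} (hc : Commute c j) : c ∈ M := hj (mem_centralizer_singleton_iff.2 hc)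

omit [Finite G] in
theorem g_P_Y {A B : SL(2, F)} (hA : A * A = -1) (hB : B * B = -1) : 𝐏[φ A * ψ B] := by
  obtain ⟨X, Y, e⟩ := h.conj_z hA hB
  refine ⟨(φ X * ψ Y)⁻¹, inv_mem (g_mem hj ((Sw0.φ_j X).mul_left (h.ψ_j Y))), Or.inr ?_⟩
  rw [← e]; group

include ht

theorem g_P_t : 𝐏[t] := by
  obtain ⟨g, e1, e2⟩ := h.swap
  refine ⟨g, (h.cent_y_le hj ht).1 (mem_centralizer_singleton_iff.2 ?_), Or.inl e2⟩
  calc g * (t * j) = g * t * g⁻¹ * (g * j * g⁻¹) * g := by group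
    _ = _ := by rw [e1, e2, h.tj.eq]

theorem g_P_y : 𝐏[t * j] := by
  obtain ⟨φ', d⟩ := h.exists_dual
  have e0 : κ ww * j = φ (-ww) * ψ ww := by
    rw [Sw0.φ_neg ww, Sw0.κ_apply, mul_assoc, (h.ψ_j _).eq, mul_assoc]
  have c1 : Commute (κ ww * j) t := (h.t_κ _).symm.mul_left h.tj.symm
  have n : κ ww * j ∉ N0 φ' := fun a => d.sw.t_not (by
    have := mul_mem (inv_mem (d.sw.Y_le (d.sw.κ_mem ww))) a
    rwa [d.κ_eq, inv_mul_cancel_left] at this)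
  obtain ⟨c, hc, e⟩ := d.sw.invol_outer (x := κ ww * j) (by rwa [d.neg]) n (by
    rw [← (h.κ_j ww).mul_mul_mul_comm, h.g_zz, Sw0.jj, one_mul])
  have hc' : c ∈ M := ht (mem_centralizer_singleton_iff.2 (by
    have := N0.comm_j hc
    rwa [d.neg] at this))
  rcases e with e | e
  · refine (h.not_conj_Y (x := κ ww * j) (mul_mem (h.κ_mem _) (Sw0.φ_mem _)) (fun a => ?_)
      (isConj_iff.2 ⟨c, e⟩).symm).elim
    exact h.κ_ne_one ww_ww (mul_eq_right.1 a)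
  · rw [d.neg, ← h.tj.eq] at e
    refine h.g_P_conj (inv_mem hc') ?_
    rw [← e, show c⁻¹ * (c * (κ ww * j) * c⁻¹) * c⁻¹⁻¹ = κ ww * j by group, e0]
    exact h.g_P_Y hj (by rw [neg_mul_neg, ww_ww]) ww_ww

theorem g_P_j {a : G} (aa : a * a = 1) (a1 : a ≠ 1) (ha : Commute a j) : 𝐏[a] := by
  by_cases n : a ∈ N0 φ
  · obtain ⟨A, B, rfl⟩ := h.mem_Yg.1 (h.invol_mem n aa)
    rcases h.invol_Y aa with e | e | ⟨hA, hB⟩
    · exact (a1 e).elim
    · exact ⟨1, one_mem _, Or.inl (by rw [e]; group)⟩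
    · exact h.g_P_Y hj hA hB
  · obtain ⟨c, hc, e⟩ := h.invol_outer ha n aa
    refine h.g_P_conj (g_mem hj (N0.comm_j hc)) ?_
    rcases e with e | e <;> rw [e]
    · exact h.g_P_t hj ht
    · exact h.g_P_y hj ht

omit [Fintype F] [Finite G] h hj ht in
theorem g_invol {a : G} (aa : a * a = 1) (a1 : a ≠ 1) (g : G) :
    g * a * g⁻¹ * (g * a * g⁻¹) = 1 ∧ g * a * g⁻¹ ≠ 1 :=
  ⟨by rw [show g * a * g⁻¹ * (g * a * g⁻¹) = g * (a * a) * g⁻¹ by group, aa]; group,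
    fun e => a1 (by rw [show a = g⁻¹ * (g * a * g⁻¹) * g by group, e]; group)⟩

theorem g_P_z {a : G} (aa : a * a = 1) (a1 : a ≠ 1) (ha : Commute a (κ ww)) : 𝐏[a] := by
  obtain ⟨g, hg, e⟩ := h.conj_into aa ha
  exact h.g_P_conj ((h.cent_y_le hj ht).2 (mem_centralizer_singleton_iff.2 hg))
    (h.g_P_j hj ht (g_invol aa a1 g).1 (g_invol aa a1 g).2 e)

theorem g_P_comm {a s : G} (aa : a * a = 1) (a1 : a ≠ 1) (ha : Commute a s) (hs : 𝐏[s]) : 𝐏[a] := by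
  obtain ⟨m, hm, e⟩ := hs
  have c : Commute (m * a * m⁻¹) (m * s * m⁻¹) := by
    change _ * _ = _ * _
    rw [show m * a * m⁻¹ * (m * s * m⁻¹) = m * (a * s) * m⁻¹ by group, ha.eq]; group
  refine h.g_P_conj hm ?_
  rcases e with e | e <;> rw [e] at c
  · exact h.g_P_j hj ht (g_invol aa a1 m).1 (g_invol aa a1 m).2 c
  · exact h.g_P_z hj ht (g_invol aa a1 m).1 (g_invol aa a1 m).2 c

theorem g_top : M = ⊤ := by
  refine eq_top_iff.2 fun g _ => ?_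
  obtain ⟨aa, a1⟩ := g_invol Sw0.jj h.j_ne g
  have cj : IsConj j (g * j * g⁻¹) := isConj_iff.2 ⟨g, rfl⟩
  have P : 𝐏[g * j * g⁻¹] := by
    rcases Nat.even_or_odd (orderOf (g * j * g⁻¹ * κ ww)) with ⟨m, hm⟩ | ho
    · have h0 : 0 < m := by have := orderOf_pos (g * j * g⁻¹ * κ ww); omega
      obtain ⟨h1, h2, h3, h4⟩ := Inv.half_pow_facts aa h.g_zz h0 (by rw [hm, two_mul])
      exact h.g_P_comm hj ht aa a1 h3.symm (h.g_P_z hj ht h2 h1 h4)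
    · obtain ⟨k, hk⟩ := Inv.exists_pow_conj_of_odd aa h.g_zz ho
      exact (h.g_not_z (cj.trans (isConj_iff.2 ⟨_, hk⟩))).elim
  obtain ⟨m, hm, e | e⟩ := P
  · have : m * g ∈ M := g_mem hj (by
      change _ * _ = _ * _
      calc m * g * j = m * (g * j * g⁻¹) * m⁻¹ * (m * g) := by group
        _ = _ := by rw [e])
    exact (M.mul_mem_cancel_left hm).1 this
  · exact (h.g_not_z (cj.trans (isConj_iff.2 ⟨_, e⟩))).elim

end Top

section Gen

variable {h} {φ' : SL(2, F) →* G} (d : h.Dual φ')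
include d

local notation "θ" => Sw0.θ d.sw.toSw0
local notation "G₀" => quadGen φ t θ

theorem Dual.g_t : t ∈ G₀ := by
  have : θ ww ∈ G₀ := Quad.θ_mem ww
  rwa [d.quad.θ_ww, Subgroup.mul_mem_cancel_left _ (mul_mem (Quad.φ_mem _) (Quad.ψ_mem _))] at this

theorem Dual.g_φ' (A : SL(2, F)) : φ' A ∈ G₀ := by
  have key : ∀ X : SL(2, F), cg (dm (-1)) X = X⁻¹ → φ' (X * X) ∈ G₀ := fun X e => by
    have e1 : φ' (X * X) = κ X * θ X := by
      rw [← d.κ_eq, Sw0.κ_apply]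
      change _ = _ * (φ' X * FW.cjh j φ' (cg (dm (-1)) X))
      rw [d.sw.mul_mul, e, mul_inv_cancel, map_one, mul_one]
    rw [e1]
    exact mul_mem (mul_mem (Quad.φ_mem _) (Quad.ψ_mem _)) (Quad.θ_mem _)
  have : NeZero (2 : F) := ⟨h.two⟩
  have : (G₀).comap φ' = ⊤ := sl2_eq_top (fun r => by
    have := key (xx (r / 2)) (by rw [cg_dm_xx, xx_inv]; simp)
    rwa [xx_mul, add_halves] at this) fun r => by
    have := key (yy (r / 2)) (by rw [cg_dm_yy, yy_inv]; simp)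
    rwa [yy_mul, add_halves] at this
  exact (this.ge (mem_top A) : A ∈ (G₀).comap φ')

theorem Dual.g_conj_xx0 {c : G} (hc : c ∈ N0 φ) (a : F) : c * θ (xx a) * c⁻¹ ∈ G₀ := by
  obtain ⟨σ, σ', -, -, f⟩ := h.fld hc
  obtain ⟨A, B, c₀, rfl, e1, e2⟩ := h.pure f
  have cj : ∀ {x y : G}, Commute x y → Commute (c₀ * x * c₀⁻¹) (c₀ * y * c₀⁻¹) := fun {x y} e => by
    change _ * _ = _ * _
    rw [show c₀ * x * c₀⁻¹ * (c₀ * y * c₀⁻¹) = c₀ * (x * y) * c₀⁻¹ by group, e.eq]; group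
  have c0 : Commute c₀ j := by
    have := (((Sw0.φ_j A).mul_left (h.ψ_j B)).inv_left).mul_left (N0.comm_j hc)
    rwa [inv_mul_cancel_left] at this
  obtain ⟨b, e⟩ := d.eq_θ (p := ringChar F) (k := 1) (x := c₀ * θ (xx a) * c₀⁻¹)
    (fun s => by
      have := cj (d.comm_xx (σ.symm s) a).symm
      rwa [e1, fm_xx, RingEquiv.apply_symm_apply] at this)
    (fun s => by
      have := cj (d.o_ψθ (σ'.symm s) a).symm
      rwa [e2, fm_xx, RingEquiv.apply_symm_apply] at this)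
    (by
      calc _ = j * c₀ * θ (xx a) * (j * c₀)⁻¹ := by group
        _ = c₀ * (j * θ (xx a) * (j)⁻¹) * c₀⁻¹ := by rw [← c0.eq]; group
        _ = _ := by rw [d.j_θ]; group)
    (by rw [conj_pow, o_xx_pow]; group)
  rw [show φ A * ψ B * c₀ * θ (xx a) * (φ A * ψ B * c₀)⁻¹ =
    φ A * ψ B * (c₀ * θ (xx a) * c₀⁻¹) * (φ A * ψ B)⁻¹ by group, e]
  have m : φ A * ψ B ∈ G₀ := mul_mem (Quad.φ_mem _) (Quad.ψ_mem _)
  exact mul_mem (mul_mem m (Quad.θ_mem _)) (inv_mem m)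

theorem Dual.g_conj_xx {c : G} (hc : Commute c j) (a : F) : c * θ (xx a) * c⁻¹ ∈ G₀ := by
  rcases h.mem_or' hc with e | e
  · exact d.g_conj_xx0 e a
  · have := d.g_conj_xx0 e a
    rwa [mul_assoc c t, (d.o_t _).eq, show c * (θ (xx a) * t) * (c * t)⁻¹ = c * θ (xx a) * c⁻¹ by group]
      at this

theorem Dual.g_norm {c : G} (hc : Commute c j) : c ∈ normalizer (G₀ : Set G) := by
  have hφ : ∀ {c : G}, Commute c j → ∀ A, c * φ A * c⁻¹ ∈ G₀ := fun hc A => by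
    obtain ⟨A', e | e⟩ := h.conj_φ hc A <;> rw [e]
    exacts [Quad.φ_mem _, Quad.ψ_mem _]
  have hψ : ∀ A, c * ψ A * c⁻¹ ∈ G₀ := fun A => by
    have := hφ (hc.mul_left h.tj) A
    rwa [show c * t * φ A * (c * t)⁻¹ = c * ψ A * c⁻¹ by rw [cjh_apply]; group] at this
  have hw : c * θ ww * c⁻¹ ∈ G₀ := by
    obtain ⟨A, B, e⟩ := h.g_conj_t hc
    rw [d.quad.θ_ww, show c * (φ ww * ψ ww * t) * c⁻¹ =
      c * φ ww * c⁻¹ * (c * ψ ww * c⁻¹) * (c * t * c⁻¹) by group, e]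
    exact mul_mem (mul_mem (hφ hc _) (hψ _)) (mul_mem (mul_mem (Quad.φ_mem _) (Quad.ψ_mem _)) d.g_t)
  have hθ : (G₀).comap (FW.cjh c θ) = ⊤ := sl2_eq_top (fun r => d.g_conj_xx hc r) fun r => by
    rw [← neg_neg r, ← ww_conj_xx]
    exact mul_mem (mul_mem hw (d.g_conj_xx hc _)) (inv_mem hw)
  have : G₀ ≤ (G₀).comap (MulAut.conj c).toMonoidHom := by
    refine sup_le (sup_le ?_ ?_) ?_ <;> rintro _ ⟨A, rfl⟩
    exacts [hφ hc A, hψ A, (hθ.ge (mem_top A) : A ∈ (G₀).comap (FW.cjh c θ))]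
  exact mem_normalizer_fintype fun x hx => this hx

theorem Dual.g_sup : G₀ ⊔ centralizer {j} = ⊤ := by
  refine h.g_top le_sup_right fun x hx => ?_
  obtain ⟨A, e⟩ := d.sw.g_cent_dec (c := x) (by
    rw [d.neg]; exact mem_centralizer_singleton_iff.1 hx)
  rw [← mul_inv_cancel_left (φ' A) x]
  exact mul_mem (mem_sup_left (d.g_φ' A)) (mem_sup_right (mem_centralizer_singleton_iff.2 e))

end Gen

theorem main : ∃ N : Subgroup G, N.Normal ∧ N ⊔ centralizer {j} = ⊤ ∧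
    N ⊓ centralizer {j} = Yg φ t ⊔ zpowers t ∧ Nonempty (N ≃* Cfsg.PSp 2 F) := by
  obtain ⟨φ', d⟩ := h.exists_dual
  refine ⟨_, normalizer_eq_top_iff.1 (eq_top_iff.2 (d.g_sup.ge.trans (sup_le le_normalizer
    fun c hc => d.g_norm (mem_centralizer_singleton_iff.1 hc)))), d.g_sup, le_antisymm ?_ ?_,
    d.quad.equiv⟩
  · rintro x ⟨h1, h2⟩
    obtain ⟨A, B, rfl | rfl⟩ := d.quad.cent h1 (mem_centralizer_singleton_iff.1 h2)
    · exact mem_sup_left (Sw0.mul_mem_Yg _ _)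
    · exact mul_mem (mem_sup_left (Sw0.mul_mem_Yg _ _)) (mem_sup_right (mem_zpowers t))
  · refine sup_le (le_inf le_sup_left fun x hx => ?_) (zpowers_le.2 ⟨d.g_t, ?_⟩)
    · exact mem_centralizer_singleton_iff.2 (N0.comm_j (h.Y_le hx))
    · exact mem_centralizer_singleton_iff.2 h.tj

end Cfsg.Agent.FW.Sw
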