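import Mathlib
import Cfsg.Agent.FW.SpK

/-!
The fusion of involutions when the two factors are interchanged.
-/

set_option autoImplicit false
set_option linter.unusedSectionVars false

namespace Cfsg.Agent.FW.Sw0

open Cfsg.Agent.KSG.M2 hiding dg coe_dg
open Cfsg.Agent.KSG Cfsg.Agent.RootSub Subgroup
open scoped MatrixGroups

variable {F G : Type*} [Field F] [Fintype F] [Group G] {φ : SL(2, F) →* G} {t : G} (h : Sw0 φ t)
include h

local notation "j" => φ (-1)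
local notation "ψ" => FW.cjh t φ
local notation "κ" => Sw0.κ h

omit h in
theorem sq_of_conj {x : G} (e : IsConj j x) : x * x = 1 := by
  obtain ⟨g, rfl⟩ := isConj_iff.1 e
  rw [conj_mul, jj]; simp

theorem f_sym {b g : G} (hb : b ∈ Yg φ t) (e : g * b * g⁻¹ = j) : g * j * g⁻¹ ∈ N0 φ := by
  obtain ⟨A, B, rfl⟩ := h.mem_Yg.1 hb
  rcases h.invol_Y (sq_of_conj (isConj_iff.2 ⟨g, e⟩).symm) with e1 | e1 | ⟨a, -⟩
  · rw [e1] at e; exact (h.j_ne (by simpa using e.symm)).elim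
  · rw [e1] at e; exact e.symm ▸ φ_mem_N0 _
  · have := h.sq_mem (e ▸ comm_cj ((Commute.refl (φ A)).mul_right (h.comm A B)) g)
    rwa [conj_mul, ← map_mul, a] at this

theorem f_comm {A B : SL(2, F)} (hA : A * ww = ww * A ∧ B * ww = ww * B ∨
    A * ww = -(ww * A) ∧ B * ww = -(ww * B)) : Commute (φ A * ψ B) (κ ww) := by
  rw [Commute, SemiconjBy, h.κ_apply, h.mul_mul, h.mul_mul]
  rcases hA with ⟨a, b⟩ | ⟨a, b⟩ <;> rw [a, b]
  exact h.neg_neg' _ _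

variable {c w : SL(2, F)} {n : ℕ} (τ : Tor2 c w n)

include τ in
theorem f_outer {g : G} (e : g * κ ww * g⁻¹ = j) : Commute (g * φ c * g⁻¹) j ∧ g * φ c * g⁻¹ ∉ N0 φ := by
  refine ⟨e ▸ comm_cj (by simpa using h.f_comm (B := 1) (Or.inl ⟨τ.comm, by simp⟩)) g, fun hn => ?_⟩
  have e2 : (g * φ c * g⁻¹) ^ 2 ^ (n + 2) = 1 := by rw [conj_pow, ← map_pow, τ.pow2]; simp
  obtain ⟨A, B, e1⟩ := h.mem_Yg.1 (h.two_mem hn e2)
  have e3 : g * j * g⁻¹ = φ (A ^ 2 ^ (n + 1)) * ψ (B ^ 2 ^ (n + 1)) := by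
    rw [← h.mul_pow', ← e1, conj_pow, ← map_pow, τ.pow1]
  rw [e1, h.mul_pow'] at e2
  have k : ∀ {A : SL(2, F)}, A ^ 2 ^ (n + 2) = 1 ∨ A ^ 2 ^ (n + 2) = -1 → A ^ 2 ^ (n + 3) = 1 := by
    rintro A (e | e) <;> rw [pow_succ, pow_mul, e] <;> simp
  have e4 : g * j * g⁻¹ = 1 ∨ g * j * g⁻¹ = j := by
    rcases τ.bound (k ((h.mul_eq_one e2).imp And.left And.left)) with a | a <;>
      rcases τ.bound (k ((h.mul_eq_one e2).imp And.right And.right)) with b | b <;>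
      simp [e3, a, b, h.neg, jj]
  rcases e4 with e4 | e4
  · exact h.j_ne (by simpa using e4)
  · exact h.κ_ne_j ww (by simpa using e.trans e4.symm)

theorem f_z (tt : t * t = 1) {g : G} (e : g * t * g⁻¹ = j) :
    Commute (g * κ ww * g⁻¹) j ∧ g * κ ww * g⁻¹ ∈ N0 φ := by
  obtain ⟨c, w, n, τ⟩ := exists_tor2 h.two
  obtain ⟨ρ, e1, e2⟩ := τ.quat.exists_cycle
  have k : ∀ A, Commute (g * κ A * g⁻¹) j := fun A => e ▸ comm_cj (h.t_mul' tt A A).symm g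
  have k1 : ∀ A, g * κ (ρ * A * ρ⁻¹) * g⁻¹ ∈ N0 φ → g * κ A * g⁻¹ ∈ N0 φ := fun A hA => by
    simpa [mul_assoc] using h.conj_mem (k ρ).inv_left hA
  refine ⟨k _, by_contra fun hn => ?_⟩
  have hw : g * κ w * g⁻¹ ∉ N0 φ := fun e => hn (k1 _ (e1 ▸ e))
  exact hw (k1 _ (by rw [e2, map_mul, ← conj_mul]; exact h.mul_mem_of_not (k _) (k _) hn hw))

theorem f_not1 (hno : ∀ s, Commute s j → IsConj j s → s ∈ N0 φ) : ¬ IsConj j (κ ww) := fun e => by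
  obtain ⟨c, w, n, τ⟩ := exists_tor2 h.two
  obtain ⟨g, hg⟩ := isConj_iff.1 e.symm
  have hw := mul_inv_eq_iff_eq_mul.1 τ.w_ww
  rw [neg_mul] at hw
  have k : ∀ {A}, Commute A ww → g * (φ (w * A) * ψ w) * g⁻¹ ∈ N0 φ := fun {A} a => by
    obtain ⟨X, Y, e1⟩ := h.conj_z (τ.mul_sq a) τ.ww'
    exact hno _ (hg ▸ comm_cj (h.f_comm (Or.inr ⟨by
      rw [mul_assoc, a.eq, ← mul_assoc, hw, neg_mul, mul_assoc], hw⟩)) g)
      ((e.trans (isConj_iff.2 ⟨_, e1⟩)).trans (isConj_cj _ _))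
  refine (h.f_outer τ hg).2 ?_
  have := mul_mem (inv_mem (k (Commute.one_left _))) (k τ.comm)
  rwa [conj_inv, conj_mul, h.mul_inv', h.mul_mul, mul_one, inv_mul_cancel_left, inv_mul_cancel, map_one,
    mul_one] at this

theorem f_not2 (tt : t * t = 1) (fus : IsConj j t) : ¬ IsConj j (κ ww) := fun e => by
  obtain ⟨c, w, n, τ⟩ := exists_tor2 h.two
  obtain ⟨g, hg⟩ := isConj_iff.1 e.symm
  obtain ⟨g', hg'⟩ := isConj_iff.1 fus.symm
  have h1 := h.f_sym (g := g * g'⁻¹) (h.invol_mem (h.f_z tt hg').2 (by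
    rw [conj_mul, h.κ_sq ww_ww]; simp)) (by rw [← hg]; group)
  rw [show g * g'⁻¹ * j * (g * g'⁻¹)⁻¹ = g * t * g⁻¹ by rw [← hg']; group] at h1
  obtain ⟨a, b⟩ := h.f_outer τ hg
  refine h.outer_pow_ne' tt (a.mul_left (N0.comm_j h1)) (by rwa [mul_mem_cancel_right h1]) (n + 1) ?_
  rw [conj_mul, conj_pow, pow_succ', pow_mul, sq, mul_assoc (φ c), ← mul_assoc t, t_φ tt, mul_assoc _ t, tt,
    mul_one, ← h.κ_apply, ← map_pow, τ.pow, hg]

theorem f_nfusY (hz : ¬ IsConj j (κ ww)) (A B : SL(2, F)) (e : IsConj j (φ A * ψ B)) : φ A * ψ B = j := by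
  rcases h.invol_Y (sq_of_conj e) with e1 | e1 | ⟨a, b⟩
  · rw [e1, isConj_one_left] at e; exact (h.j_ne e).elim
  · exact e1
  · obtain ⟨X, Y, e1⟩ := h.conj_z a b
    exact (hz (e.trans (isConj_iff.2 ⟨_, e1⟩).symm)).elim

theorem f_mem (hz : ¬ IsConj j (κ ww)) {x : G} (hx : x ∈ N0 φ) (e : IsConj j x) : x = j := by
  obtain ⟨A, B, rfl⟩ := h.mem_Yg.1 (h.invol_mem hx (sq_of_conj e))
  exact h.f_nfusY hz A B e

theorem sw_of_fus (fus : IsConj j t) : Sw φ t := by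
  have tt := sq_of_conj fus
  have hz := h.f_not2 tt fus
  refine ⟨h, tt, fus, fun e => ?_, h.f_nfusY hz⟩
  obtain ⟨g, hg⟩ := isConj_iff.1 fus.symm
  obtain ⟨a, b⟩ := h.f_z tt hg
  have h1 : g * j * g⁻¹ ∉ N0 φ := fun e => h.t_not (by
    have := hg.trans (h.f_mem hz e (isConj_cj _ _)).symm
    rw [mul_left_inj, mul_right_inj] at this
    exact this ▸ φ_mem_N0 _)
  obtain ⟨d, -, e1⟩ := h.invol_outer' tt (a.mul_left (hg ▸ comm_cj h.tj.symm g))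
    (by rwa [mul_mem_cancel_left b]) (by
      rw [conj_mul, conj_mul, (h.κ_j _).symm.mul_mul_mul_comm, h.κ_sq ww_ww, jj]; simp)
  have h2 : IsConj j (κ ww * j) := by
    refine IsConj.trans ?_ ((isConj_cj g _).trans (isConj_cj d _)).symm
    rw [conj_mul] at e1
    rcases e1 with e1 | e1 <;> rw [e1]
    exacts [fus, e]
  exact h.κ_ne_one ww_ww (mul_eq_right.1 (h.f_mem hz (h.Y_le (mul_mem (h.κ_mem _) (φ_mem _))) h2))

theorem exists_sw {x : G} (hx : Commute x j) (n : x ≠ j) (e : IsConj j x) :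
    ∃ s, Sw φ s ∧ Yg φ s = Yg φ t := by
  by_cases hno : ∀ s, Commute s j → IsConj j s → s ∈ N0 φ
  · exact (n (h.f_mem (h.f_not1 hno) (hno x hx e) e)).elim
  push Not at hno
  obtain ⟨s, a, b, c⟩ := hno
  exact ⟨s, (h.change a c).sw_of_fus b, h.Yg_change a c⟩

end Cfsg.Agent.FW.Sw0
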